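import Cfsg.Agent.Lib.TensorOddMinus.Rows
import Cfsg.Agent.Lib.TensorOdd.Factor
import Cfsg.Agent.Lib.TensorOdd.Signs

/-!
Sign maps of tensor frames: membership in `Ω`, common frames of elementary abelian groups of the stabiliser,
and frames of the even factor in which no square class has exactly two members.
-/

set_option autoImplicit false
set_option linter.unusedSectionVars false

namespace CfsgLib.TensorOddMinus

open Matrix QuadraticMap CfsgLib.Orth
open CfsgLib.TensorOdd (IsFrame InBlock Refr blockSign blockSign_app blockSign_refr blockSign_mul_self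
  refr_vec refr_two sqSign_eq_iff blockSign_empty blockSign_univ)
open Cfsg.Agent.Spinor57 (sqSign sqSign_eq_one_iff chiPair_prod_refl)

variable {ι : Type} [Fintype ι] [DecidableEq ι] {F : Type*} [Field F] [Fintype F] {Q : QuadraticForm F (ι → F)}

section Frame

variable {κ : Type} [Fintype κ] [DecidableEq κ] {v : κ → ι → F}

/-- A sign map lies in `Ω` when its support is even and of square discriminant. -/
theorem blockSign_mem_iff (hQ : Q.polarBilin.Nondegenerate) (hv : IsFrame Q v) (S : Finset κ) :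
    blockSign Q v S ∈ commutator (O Q) ↔ Even S.card ∧ IsSquare (∏ i ∈ S, Q (v i)) := by
  classical
  obtain ⟨d, hd⟩ := CfsgLib.OrthOmega.exists_not_square hv.two (F := F)
  have h := (chiPair_prod_refl (Q := Q) hv.two hd (S.toList.map v) (fun z hz => by
    obtain ⟨i, -, rfl⟩ := List.mem_map.1 hz; exact hv.nz i)).2
  have h1 : ((S.toList.map v).map fun z => Q z).prod = ∏ i ∈ S, Q (v i) := by
    rw [List.map_map, Finset.prod_eq_multiset_prod, ← Finset.coe_toList, Multiset.map_coe, Multiset.prod_coe]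
    rfl
  rw [commutator_eq hQ hv.two hd, MonoidHom.mem_ker, blockSign, CfsgLib.TensorOdd.reflList, h, h1,
    List.length_map, Finset.length_toList, Prod.mk_eq_one, ← sqSign_eq_one_iff]
  constructor
  · rintro ⟨h2, h3⟩
    rw [h3, mul_one] at h2
    exact ⟨(neg_one_pow_eq_one_iff_even (R := ℤˣ) (by decide)).1 h2, h3⟩
  · rintro ⟨h2, h3⟩
    exact ⟨by rw [h3, h2.neg_one_pow, mul_one], h3⟩

theorem blockSign_comm (hv : IsFrame Q v) (S T : Finset κ) :
    blockSign Q v S * blockSign Q v T = blockSign Q v T * blockSign Q v S :=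
  hv.ext_O fun i => by
    rw [app_mul, app_mul, blockSign_app hv T, blockSign_app hv S]
    split_ifs <;> simp [blockSign_app hv, *]

theorem eq_blockSign (hv : IsFrame Q v) {g : O Q} (h : ∀ i, app g (v i) = v i ∨ app g (v i) = -v i) :
    ∃ S, g = blockSign Q v S := by
  classical
  refine ⟨Finset.univ.filter fun i => app g (v i) = -v i, hv.ext_O fun i => ?_⟩
  rw [blockSign_app hv]
  simp only [Finset.mem_filter, Finset.mem_univ, true_and]
  split_ifs with hi
  · exact hi
  · exact (h i).resolve_right hi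

theorem blockSign_compl (hv : IsFrame Q v) (S : Finset κ) :
    blockSign Q v Sᶜ = CfsgLib.TensorOdd.negId Q * blockSign Q v S :=
  hv.ext_O fun i => by
    rw [app_mul, CfsgLib.TensorOdd.app_negId, blockSign_app hv, blockSign_app hv]
    by_cases hi : i ∈ S <;> simp [hi]

/-- An anisotropic common eigenvector in a block. -/
theorem exists_joint_eigen (hv : IsFrame Q v) {S : Finset κ} {i : κ} (hi : i ∈ S) (G : Finset (O Q))
    (hinv : ∀ g ∈ G, g * g = 1) (hcomm : ∀ g ∈ G, ∀ h ∈ G, g * h = h * g)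
    (hout : ∀ g ∈ G, ∀ j, j ∉ S → app g (v j) = v j ∨ app g (v j) = -v j) :
    ∃ y, InBlock Q v S y ∧ Q y ≠ 0 ∧ ∀ g ∈ G, app g y = y ∨ app g y = -y := by
  classical
  induction G using Finset.induction with
  | empty => exact ⟨v i, InBlock.vec hv hi, hv.nz i, fun g hg => absurd hg (Finset.notMem_empty g)⟩
  | @insert h G hh ih =>
    have hsub : ∀ g ∈ G, g ∈ insert h G := fun g hg => Finset.mem_insert_of_mem hg
    obtain ⟨y, hy, hqy, he⟩ := ih (fun g hg => hinv g (hsub g hg))
      (fun g hg k hk => hcomm g (hsub g hg) k (hsub k hk)) (fun g hg => hout g (hsub g hg))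
    have hmem := Finset.mem_insert_self h G
    have hhh : app h (app h y) = y := by rw [← app_mul, hinv h hmem, app_one]
    have hblk : InBlock Q v S (app h y) := fun j hj => by
      rcases hout h hmem j hj with e | e
      · rw [← e, polar_app, hy j hj]
      · rw [← neg_neg (v j), ← e, polar_neg_right, polar_app, hy j hj, neg_zero]
    obtain ⟨c, hc, hq⟩ : ∃ c : F, (c = 1 ∨ c = -1) ∧ Q (y + c • app h y) ≠ 0 := by
      by_contra hcon
      push Not at hcon
      have h1 := hcon 1 (Or.inl rfl)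
      have h2 := hcon (-1) (Or.inr rfl)
      rw [QuadraticMap.map_add ⇑Q, QuadraticMap.map_smul, polar_smul_right, Q_app, smul_eq_mul, smul_eq_mul]
        at h1 h2
      exact mul_ne_zero (mul_ne_zero hv.two hv.two) hqy (by linear_combination h1 + h2)
    refine ⟨y + c • app h y, hy.add (hblk.smul c), hq, fun g hg => ?_⟩
    rcases Finset.mem_insert.1 hg with rfl | hgG
    · rcases hc with rfl | rfl
      · exact Or.inl (by rw [map_add, map_smul, hhh, one_smul, one_smul, add_comm])
      · exact Or.inr (by rw [map_add, map_smul, hhh]; module)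
    · have e1 : app g (app h y) = app h (app g y) := by
        rw [← app_mul, hcomm g hg h hmem, app_mul]
      rcases he g hgG with e | e
      · exact Or.inl (by rw [map_add, map_smul, e1, e])
      · exact Or.inr (by rw [map_add, map_smul, e1, e, map_neg]; module)

/-- Commuting involutions have a common frame. -/
theorem exists_common_frame (hv : IsFrame Q v) (G : Finset (O Q)) (hinv : ∀ g ∈ G, g * g = 1)
    (hcomm : ∀ g ∈ G, ∀ h ∈ G, g * h = h * g) :
    ∃ v' : κ → ι → F, IsFrame Q v' ∧ ∀ g ∈ G, ∀ i, app g (v' i) = v' i ∨ app g (v' i) = -v' i := by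
  suffices H : ∀ n, ∀ S : Finset κ, S.card = n → ∀ v : κ → ι → F, IsFrame Q v →
      (∀ g ∈ G, ∀ j, j ∉ S → app g (v j) = v j ∨ app g (v j) = -v j) →
      ∃ v' : κ → ι → F, IsFrame Q v' ∧ ∀ g ∈ G, ∀ i, app g (v' i) = v' i ∨ app g (v' i) = -v' i from
    H _ Finset.univ rfl v hv fun g _ j hj => absurd (Finset.mem_univ j) hj
  intro n
  induction n with
  | zero => exact fun S hS v hv h => ⟨v, hv, fun g hg i => h g hg i (by rw [Finset.card_eq_zero.1 hS]; simp)⟩
  | succ n ih =>
    intro S hS v hv h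
    obtain ⟨i, hi⟩ := Finset.card_pos.1 (by omega : 0 < S.card)
    obtain ⟨y, hy, hqy, he⟩ := exists_joint_eigen hv hi G hinv hcomm h
    obtain ⟨v', k, hk, hky, hR⟩ := refr_vec hv S hy hqy
    refine ih (S.erase k) (by rw [Finset.card_erase_of_mem hk, hS]; rfl) v' hR.1 fun g hg j hj => ?_
    by_cases hjk : j = k
    · rw [hjk, hky]; exact he g hg
    · rw [hR.2.1 j fun h' => hj (Finset.mem_erase.2 ⟨hjk, h'⟩)]
      exact h g hg j fun h' => hj (Finset.mem_erase.2 ⟨hjk, h'⟩)

end Frame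

namespace Data

variable {q : QuadraticForm F (ι → F)} {a b : ℕ} {D : Data q a b}

theorem isGood1 (D : Data q a b) (ha : Odd a) : CfsgLib.TensorOdd.IsGood D.q1 := by
  refine ⟨D.good1.nd, D.two, by rwa [Fintype.card_fin], D.good1.three, ?_⟩
  by_cases h : a = 3
  · exact Or.inr (D.good1.small (by simpa using h))
  · obtain ⟨m, rfl⟩ := ha
    left
    have := D.three_a
    rw [Fintype.card_fin]
    omega

theorem R_injective : Function.Injective D.R := fun B B' h => ext_app fun y => by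
  obtain ⟨u, hu⟩ := exists_anisotropic D.good1.nd (le_trans (by norm_num) D.good1.three)
  refine D.tp_right_cancel (u := u) (fun h0 => hu (by rw [h0, QuadraticMap.map_zero])) ?_
  rw [← D.R_tp, ← D.R_tp, h]

theorem exists_frame1 (D : Data q a b) : ∃ u : Fin a → Fin a → F, IsFrame D.q1 u :=
  CfsgLib.TensorOdd.exists_frame D.good1.nd D.two

theorem exists_frame2 (D : Data q a b) : ∃ v : Fin b → Fin b → F, IsFrame D.q2 v :=
  CfsgLib.TensorOdd.exists_frame D.good2.nd D.two

theorem ten_eq_one (ha : Odd a) {A : O D.q1} {B : O D.q2} (h : D.ten (A, B) = 1)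
    (hA : A ∈ _root_.commutator (O D.q1)) : A = 1 ∧ B = 1 := by
  obtain ⟨v, hv⟩ := D.exists_frame2
  obtain ⟨j⟩ : Nonempty (Fin b) := Fintype.card_pos_iff.1 (by have := D.good2.three; omega)
  obtain ⟨w, hw⟩ := exists_anisotropic D.good1.nd (le_trans (by norm_num) D.good1.three)
  have hw0 : w ≠ 0 := fun h0 => hw (by rw [h0, QuadraticMap.map_zero])
  have key : ∀ u, D.tp u (v j) = D.tp (app A u) (app B (v j)) := fun u => by rw [← D.ten_tp, h, app_one]
  obtain ⟨t, -, htw, htv⟩ := D.tp_eq hw0 (hv.li.ne_zero j) (key w)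
  have hsc : CfsgLib.TensorOdd.IsScalar A := ⟨t, fun u => by
    rcases eq_or_ne u 0 with rfl | hu0
    · simp
    obtain ⟨t', -, hu', hv'⟩ := D.tp_eq hu0 (hv.li.ne_zero j) (key u)
    rw [hu', inv_injective (smul_left_injective F (hv.li.ne_zero j) (hv'.symm.trans htv))]⟩
  have hA1 := CfsgLib.TensorOdd.eq_one_of_scalar (D.isGood1 ha) hsc hA
  subst hA1
  exact ⟨rfl, R_injective (by rw [map_one, ← h]; rfl)⟩

theorem ten_invol (ha : Odd a) {A : O D.q1} {B : O D.q2} (h : D.ten (A, B) * D.ten (A, B) = 1) :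
    A * A = 1 ∧ B * B = 1 :=
  ten_eq_one ha (by rw [← h, ← map_mul]; rfl) (CfsgLib.TensorOdd.sq_mem (D.isGood1 ha) A)

theorem ten_comm (ha : Odd a) {A A' : O D.q1} {B B' : O D.q2}
    (h : D.ten (A, B) * D.ten (A', B') = D.ten (A', B') * D.ten (A, B)) : A * A' = A' * A ∧ B * B' = B' * B := by
  have e : D.ten (A * A' * A⁻¹ * A'⁻¹, B * B' * B⁻¹ * B'⁻¹) = 1 := by
    rw [show ((A * A' * A⁻¹ * A'⁻¹, B * B' * B⁻¹ * B'⁻¹) : O D.q1 × O D.q2) =
      (A, B) * (A', B') * (A, B)⁻¹ * (A', B')⁻¹ from rfl, map_mul, map_mul, map_mul, map_inv, map_inv, h]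
    group
  obtain ⟨h1, h2⟩ := ten_eq_one ha e (Subgroup.commutator_mem_commutator (Subgroup.mem_top A) (Subgroup.mem_top A'))
  rw [mul_inv_eq_one, mul_inv_eq_iff_eq_mul] at h1 h2
  exact ⟨h1, h2⟩

theorem ten_neg (A : O D.q1) (B : O D.q2) :
    D.ten (CfsgLib.TensorOdd.negId D.q1 * A, CfsgLib.TensorOdd.negId D.q2 * B) = D.ten (A, B) :=
  D.ext_tp_O fun u v => by simp [D.ten_tp, D.tp_neg_left, D.tp_neg_right]

/-- The support of a pair of sign maps on the frame of pure tensors. -/
def supp (S : Finset (Fin a)) (T : Finset (Fin b)) : Finset (Fin a × Fin b) :=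
  Finset.univ.filter fun p => ¬ (p.1 ∈ S ↔ p.2 ∈ T)

theorem ten_blockSign {u : Fin a → Fin a → F} {v : Fin b → Fin b → F} (hu : IsFrame D.q1 u)
    (hv : IsFrame D.q2 v) (S : Finset (Fin a)) (T : Finset (Fin b)) :
    D.ten (blockSign D.q1 u S, blockSign D.q2 v T) =
      blockSign q (fun p : Fin a × Fin b => D.tp (u p.1) (v p.2)) (supp S T) :=
  (D.isFrame_tp hu hv).ext_O fun p => by
    rw [D.ten_tp, blockSign_app hu, blockSign_app hv, blockSign_app (D.isFrame_tp hu hv)]
    by_cases h1 : p.1 ∈ S <;> by_cases h2 : p.2 ∈ T <;>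
      simp [supp, h1, h2, D.tp_neg_left, D.tp_neg_right]

variable {u : Fin a → Fin a → F} {v : Fin b → Fin b → F} (hu : IsFrame D.q1 u) (hv : IsFrame D.q2 v)
include hu hv

theorem L_blockSign_mem (hb : Even b) {S : Finset (Fin a)} (hS : Even S.card) :
    D.L (blockSign D.q1 u S) ∈ _root_.commutator (O q) := by
  classical
  rw [show D.L (blockSign D.q1 u S) = D.ten (blockSign D.q1 u S, blockSign D.q2 v ∅) by
    rw [blockSign_empty hv]; rfl, ten_blockSign hu hv, blockSign_mem_iff D.nd (D.isFrame_tp hu hv)]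
  have e : supp S (∅ : Finset (Fin b)) = S ×ˢ Finset.univ := by ext p; simp [supp]
  obtain ⟨m, hm⟩ := hb
  obtain ⟨n, hn⟩ := hS
  rw [e, Finset.card_product, Finset.card_univ, Fintype.card_fin, Finset.prod_product]
  refine ⟨⟨n * b, by rw [hn, add_mul]⟩, ?_⟩
  have h1 : ∀ i, ∏ l, q (D.tp (u i) (v l)) = D.q1 (u i) ^ b * ∏ l, 2 * D.q2 (v l) := fun i => by
    rw [show D.q1 (u i) ^ b = ∏ _l : Fin b, D.q1 (u i) by simp, ← Finset.prod_mul_distrib]
    exact Finset.prod_congr rfl fun l _ => by rw [D.Q_tp]; ring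
  rw [Finset.prod_congr rfl fun i _ => h1 i, Finset.prod_mul_distrib, Finset.prod_pow, Finset.prod_const, hn,
    show ∀ x : F, x ^ b = x ^ (m + m) from fun x => congrArg (x ^ ·) hm]
  exact ⟨(∏ i ∈ S, D.q1 (u i)) ^ m * (∏ l, 2 * D.q2 (v l)) ^ n, by rw [pow_add, pow_add]; ring⟩

theorem R_blockSign_mem (ha : Odd a) {T : Finset (Fin b)}
    (h : D.R (blockSign D.q2 v T) ∈ _root_.commutator (O q)) :
    Even T.card ∧ IsSquare (∏ l ∈ T, D.q2 (v l)) := by
  classical
  rw [show D.R (blockSign D.q2 v T) = D.ten (blockSign D.q1 u ∅, blockSign D.q2 v T) by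
    rw [blockSign_empty hu]; rfl, ten_blockSign hu hv, blockSign_mem_iff D.nd (D.isFrame_tp hu hv)] at h
  have e : supp (∅ : Finset (Fin a)) T = Finset.univ ×ˢ T := by ext p; simp [supp]
  rw [e, Finset.card_product, Finset.card_univ, Fintype.card_fin, Finset.prod_product_right] at h
  have hT : Even T.card := (Nat.even_mul.1 h.1).resolve_left (Nat.not_even_iff_odd.2 ha)
  refine ⟨hT, ?_⟩
  obtain ⟨n, hn⟩ := hT
  obtain ⟨m, hm⟩ := ha
  have h1 : ∀ l, ∏ i, q (D.tp (u i) (v l)) = D.q2 (v l) ^ a * ∏ i, 2 * D.q1 (u i) := fun l => by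
    rw [show D.q2 (v l) ^ a = ∏ _i : Fin a, D.q2 (v l) by simp, ← Finset.prod_mul_distrib]
    exact Finset.prod_congr rfl fun i _ => by rw [D.Q_tp]; ring
  have h2 := h.2
  rw [Finset.prod_congr rfl fun l _ => h1 l, Finset.prod_mul_distrib, Finset.prod_pow, Finset.prod_const, hn,
    show ∀ x : F, x ^ a = x ^ (2 * m + 1) from fun x => congrArg (x ^ ·) hm] at h2
  obtain ⟨x, hx⟩ := h2
  set p₀ := ∏ l ∈ T, D.q2 (v l) with hp
  set r := ∏ i, 2 * D.q1 (u i) with hr
  have hp0 : p₀ ≠ 0 := Finset.prod_ne_zero_iff.2 fun l _ => hv.nz l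
  have hr0 : r ≠ 0 := Finset.prod_ne_zero_iff.2 fun i _ => mul_ne_zero D.two (hu.nz i)
  refine ⟨x / (p₀ ^ m * r ^ n), ?_⟩
  field_simp
  rw [pow_succ, pow_mul] at hx
  linear_combination hx

omit hu in
theorem pair_blockSign_mem {l m : Fin b} (hlm : l ≠ m) (h : sqSign (D.q2 (v l)) = sqSign (D.q2 (v m))) :
    blockSign D.q2 v {l, m} ∈ _root_.commutator (O D.q2) := by
  rw [blockSign_mem_iff D.good2.nd hv, Finset.card_pair hlm, Finset.prod_pair hlm]
  exact ⟨even_two, (sqSign_eq_iff (hv.nz l) (hv.nz m)).1 h⟩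

end Data

namespace Data

variable {q : QuadraticForm F (ι → F)} {a b : ℕ} {D : Data q a b} {M : Subgroup (O q)}

/-- A pair of frames, no square class of the second one having exactly two members. -/
structure Frames (D : Data q a b) where
  u : Fin a → Fin a → F
  v : Fin b → Fin b → F
  hu : IsFrame D.q1 u
  hv : IsFrame D.q2 v
  notwo : ∀ l m, l ≠ m → sqSign (D.q2 (v l)) = sqSign (D.q2 (v m)) →
    ∃ n, n ≠ l ∧ n ≠ m ∧ sqSign (D.q2 (v n)) = sqSign (D.q2 (v l))

/-- The sign map of a pair of rows. -/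
noncomputable def Frames.P (Φ : D.Frames) (i k : Fin a) : O q := D.L (blockSign D.q1 Φ.u {i, k})

/-- The sign map of a pair of columns. -/
noncomputable def Frames.C (Φ : D.Frames) (l m : Fin b) : O q := D.R (blockSign D.q2 Φ.v {l, m})

/-- The two factor forms of a sign element. -/
noncomputable def Frames.sgn (Φ : D.Frames) (S : Finset (Fin a)) (T : Finset (Fin b)) : O q :=
  D.ten (blockSign D.q1 Φ.u S, blockSign D.q2 Φ.v T)

/-- The cell of a pair of indices. -/
def Frames.e (Φ : D.Frames) (i : Fin a) (l : Fin b) : ι → F := D.tp (Φ.u i) (Φ.v l)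

theorem Frames.P_mem_TT (Φ : D.Frames) (i k : Fin a) : Φ.P i k ∈ D.TT := D.L_mem _

theorem Frames.C_mem_TT (Φ : D.Frames) (l m : Fin b) : Φ.C l m ∈ D.TT := D.R_mem _

theorem Frames.P_mem (Φ : D.Frames) (hb : Even b) (hO : D.Over M) {i k : Fin a} (h : i ≠ k) : Φ.P i k ∈ M :=
  hO.le ⟨Φ.P_mem_TT i k, L_blockSign_mem Φ.hu Φ.hv hb (by rw [Finset.card_pair h]; exact even_two)⟩

theorem Frames.C_mem (Φ : D.Frames) (hO : D.Over M) {l m : Fin b} (h : l ≠ m)
    (hc : sqSign (D.q2 (Φ.v l)) = sqSign (D.q2 (Φ.v m))) : Φ.C l m ∈ M :=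
  hO.le_R (pair_blockSign_mem Φ.hv h hc)

/-- Columns are separated by pairs of one class. -/
theorem Frames.exists_sep (Φ : D.Frames) (hb : 4 ≤ b) {l m : Fin b} (h : l ≠ m) :
    ∃ p n, p ≠ n ∧ sqSign (D.q2 (Φ.v p)) = sqSign (D.q2 (Φ.v n)) ∧
      ((p = l ∧ n ≠ m) ∨ (p = m ∧ n ≠ l)) := by
  classical
  by_cases hc : sqSign (D.q2 (Φ.v l)) = sqSign (D.q2 (Φ.v m))
  · obtain ⟨n, hnl, hnm, e⟩ := Φ.notwo l m h hc
    exact ⟨l, n, hnl.symm, e.symm, Or.inl ⟨rfl, hnm⟩⟩
  obtain ⟨n, hn⟩ : ∃ n, n ∈ Finset.univ \ ({l, m} : Finset (Fin b)) := Finset.card_pos.1 (by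
    rw [Finset.card_sdiff_of_subset (Finset.subset_univ _), Finset.card_univ, Fintype.card_fin,
      Finset.card_pair h]
    omega)
  simp only [Finset.mem_sdiff, Finset.mem_univ, true_and, Finset.mem_insert, Finset.mem_singleton, not_or] at hn
  rcases Int.units_eq_one_or (sqSign (D.q2 (Φ.v l))) with el | el <;>
    rcases Int.units_eq_one_or (sqSign (D.q2 (Φ.v m))) with em | em <;>
      rcases Int.units_eq_one_or (sqSign (D.q2 (Φ.v n))) with en | en <;>
        first
        | exact absurd (el.trans em.symm) hc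
        | exact ⟨l, n, (Ne.symm hn.1), el.trans en.symm, Or.inl ⟨rfl, hn.2⟩⟩
        | exact ⟨m, n, (Ne.symm hn.2), em.trans en.symm, Or.inr ⟨rfl, hn.1⟩⟩

/-- Common frames of an elementary abelian group of sign elements, normalised. -/
theorem exists_frames (ha : Odd a) (hb : Even b) (hb4 : 4 ≤ b) {V : Subgroup (O q)} (hVT : V ≤ D.TT)
    (hVΩ : V ≤ _root_.commutator (O q)) (h2 : ∀ x ∈ V, x * x = 1) :
    ∃ Φ : D.Frames, ∀ x ∈ V, ∃ S T, Even S.card ∧ x = Φ.sgn S T := by
  classical
  have : Fintype (O q) := Fintype.ofFinite _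
  have hA : ∀ x : V, ∃ p : O D.q1 × O D.q2, (x : O q) = D.ten p := fun x => by
    obtain ⟨p, hp⟩ := hVT x.2
    exact ⟨p, hp.symm⟩
  choose f hf using hA
  have hinv : ∀ x : V, (f x).1 * (f x).1 = 1 ∧ (f x).2 * (f x).2 = 1 := fun x =>
    ten_invol ha (by rw [show ((f x).1, (f x).2) = f x from rfl, ← hf]; exact h2 x x.2)
  have hcomm : ∀ x y : V, (f x).1 * (f y).1 = (f y).1 * (f x).1 ∧ (f x).2 * (f y).2 = (f y).2 * (f x).2 :=
    fun x y => ten_comm ha (by
      rw [show ((f x).1, (f x).2) = f x from rfl, show ((f y).1, (f y).2) = f y from rfl, ← hf, ← hf]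
      have h1 := h2 _ (V.mul_mem x.2 y.2)
      calc (x : O q) * y = ((x : O q) * y)⁻¹ := (inv_eq_of_mul_eq_one_right h1).symm
        _ = y * x := by
            rw [_root_.mul_inv_rev, inv_eq_of_mul_eq_one_right (h2 y y.2), inv_eq_of_mul_eq_one_right (h2 x x.2)])
  obtain ⟨u₀, hu₀⟩ := D.exists_frame1
  obtain ⟨v₀, hv₀⟩ := D.exists_frame2
  obtain ⟨u, hu, hud⟩ := exists_common_frame hu₀ (Finset.univ.image fun x : V => (f x).1)
    (fun g hg => by obtain ⟨x, -, rfl⟩ := Finset.mem_image.1 hg; exact (hinv x).1)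
    (fun g hg h hh => by
      obtain ⟨x, -, rfl⟩ := Finset.mem_image.1 hg
      obtain ⟨y, -, rfl⟩ := Finset.mem_image.1 hh
      exact (hcomm x y).1)
  obtain ⟨v, hv, hvd⟩ := exists_common_frame hv₀ (Finset.univ.image fun x : V => (f x).2)
    (fun g hg => by obtain ⟨x, -, rfl⟩ := Finset.mem_image.1 hg; exact (hinv x).2)
    (fun g hg h hh => by
      obtain ⟨x, -, rfl⟩ := Finset.mem_image.1 hg
      obtain ⟨y, -, rfl⟩ := Finset.mem_image.1 hh
      exact (hcomm x y).2)
  have hST : ∀ x ∈ V, ∃ S T, Even S.card ∧ Even T.card ∧ IsSquare (∏ l ∈ T, D.q2 (v l)) ∧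
      x = D.ten (blockSign D.q1 u S, blockSign D.q2 v T) := by
    intro x hx
    obtain ⟨S, hS⟩ := eq_blockSign hu (hud _ (Finset.mem_image_of_mem _ (Finset.mem_univ (⟨x, hx⟩ : V))))
    obtain ⟨T, hT⟩ := eq_blockSign hv (hvd _ (Finset.mem_image_of_mem _ (Finset.mem_univ (⟨x, hx⟩ : V))))
    have e : x = D.ten (blockSign D.q1 u S, blockSign D.q2 v T) := by
      rw [← hS, ← hT]; exact hf ⟨x, hx⟩
    obtain ⟨S', T', hS', e'⟩ : ∃ S' T', Even S'.card ∧ x = D.ten (blockSign D.q1 u S', blockSign D.q2 v T') := by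
      by_cases hev : Even S.card
      · exact ⟨S, T, hev, e⟩
      · refine ⟨Sᶜ, Tᶜ, ?_, by rw [blockSign_compl hu, blockSign_compl hv, ten_neg, ← e]⟩
        rw [Finset.card_compl, Fintype.card_fin, Nat.even_sub' (Finset.card_le_univ S |>.trans_eq (by simp))]
        exact iff_of_true ha (Nat.not_even_iff_odd.1 hev)
    have hL := L_blockSign_mem hu hv hb hS'
    have hR : D.R (blockSign D.q2 v T') ∈ _root_.commutator (O q) := by
      have := mul_mem (inv_mem hL) (hVΩ hx)
      rwa [e', D.ten_eq, inv_mul_cancel_left] at this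
    obtain ⟨h1, h2⟩ := R_blockSign_mem hu hv ha hR
    exact ⟨S', T', hS', h1, h2, e'⟩
  -- the parity of a support on a class
  let s : Fin b → ℤˣ := fun l => sqSign (D.q2 (v l))
  have hpar : ∀ T : Finset (Fin b), Even T.card → IsSquare (∏ l ∈ T, D.q2 (v l)) → ∀ c,
      Even (T.filter fun l => s l = c).card := by
    intro T hT hsq c
    have h1 : ∏ l ∈ T, s l = 1 := by
      rw [← (sqSign_eq_one_iff _).2 hsq]
      clear hT hsq
      induction T using Finset.induction with
      | empty => rw [Finset.prod_empty, Finset.prod_empty, Cfsg.Agent.Spinor57.sqSign_one]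
      | @insert l T hl ih =>
        rw [Finset.prod_insert hl, Finset.prod_insert hl, Cfsg.Agent.Spinor57.sqSign_mul (hv.nz l)
          (Finset.prod_ne_zero_iff.2 fun m _ => hv.nz m), ih]
    have h2 : Even (T.filter fun l => s l = -1).card := by
      rw [← Finset.prod_filter_mul_prod_filter_not T (fun l => s l = -1),
        Finset.prod_eq_one (s := T.filter fun l => ¬ s l = -1)
          (fun l hl => (Int.units_eq_one_or _).resolve_right (Finset.mem_filter.1 hl).2), mul_one,
        Finset.prod_congr rfl (fun l hl => (Finset.mem_filter.1 hl).2), Finset.prod_const] at h1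
      exact (neg_one_pow_eq_one_iff_even (R := ℤˣ) (by decide)).1 h1
    rcases Int.units_eq_one_or c with rfl | rfl
    · have h3 := Finset.card_filter_add_card_filter_not (s := T) (fun l => s l = -1)
      have e : T.filter (fun l => s l = 1) = T.filter fun l => ¬ s l = -1 :=
        Finset.filter_congr fun l _ => by rcases Int.units_eq_one_or (s l) with h | h <;> simp [h]
      rw [e]
      rw [← h3, Nat.even_add] at hT
      exact hT.1 h2
    · exact h2
  have hfib : ∀ l m, l ≠ m → s l = s m →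
      (∀ n, n ≠ l → n ≠ m → s n ≠ s l) → (Finset.univ.filter fun n => s n = s l) = {l, m} := by
    intro l m hlm e hno
    ext n
    simp only [Finset.mem_filter, Finset.mem_univ, true_and, Finset.mem_insert, Finset.mem_singleton]
    constructor
    · intro h
      by_contra hn
      exact hno n (fun h => hn (Or.inl h)) (fun h => hn (Or.inr h)) h
    · rintro (rfl | rfl)
      · rfl
      · exact e.symm
  by_cases hno : ∃ l m, l ≠ m ∧ s l = s m ∧ ∀ n, n ≠ l → n ≠ m → s n ≠ s l
  swap
  · push Not at hno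
    refine ⟨⟨u, v, hu, hv, fun l m hlm e => by
      obtain ⟨n, h1, h2, h3⟩ := hno l m hlm e
      exact ⟨n, h1, h2, h3⟩⟩, fun x hx => ?_⟩
    obtain ⟨S, T, hS, -, -, e⟩ := hST x hx
    exact ⟨S, T, hS, e⟩
  -- move the class of two members into the other one
  obtain ⟨l, m, hlm, hs, hno⟩ := hno
  have hcls := hfib l m hlm hs hno
  obtain ⟨n, hn⟩ : ∃ n, n ∈ Finset.univ \ ({l, m} : Finset (Fin b)) := Finset.card_pos.1 (by
    rw [Finset.card_sdiff_of_subset (Finset.subset_univ _), Finset.card_univ, Fintype.card_fin,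
      Finset.card_pair hlm]
    omega)
  simp only [Finset.mem_sdiff, Finset.mem_univ, true_and, Finset.mem_insert, Finset.mem_singleton, not_or] at hn
  obtain ⟨x₀, y₀, hxy⟩ := CfsgLib.Orth.exists_binary D.two (hv.nz l) (hv.nz m) (D.q2 (v n))
  have hp : D.q2 (x₀ • v l + y₀ • v m) = D.q2 (v n) := by
    simp only [QuadraticMap.map_add ⇑D.q2, QuadraticMap.map_smul, polar_smul_left, polar_smul_right,
      hv.orth l m hlm, smul_eq_mul]
    linear_combination hxy
  obtain ⟨v', hR, e1, e2, e3⟩ := refr_two (S := {l, m}) hv (Finset.mem_insert_self l _)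
    (Finset.mem_insert_of_mem (Finset.mem_singleton_self m)) hlm (by rw [hp]; exact hv.nz n)
  have hm' : D.q2 (v' m) = D.q2 (v l) * D.q2 (v m) * D.q2 (v n) := by
    rw [e2, ← hxy]
    simp only [QuadraticMap.map_add ⇑D.q2, QuadraticMap.map_smul, polar_smul_left, polar_smul_right,
      hv.orth l m hlm, smul_eq_mul]
    ring
  have hall : ∀ k, sqSign (D.q2 (v' k)) = s n := by
    intro k
    by_cases hkl : k = l
    · rw [hkl, e1, hp]
    by_cases hkm : k = m
    · rw [hkm, hm', sqSign_eq_iff (mul_ne_zero (mul_ne_zero (hv.nz l) (hv.nz m)) (hv.nz n)) (hv.nz n), mul_assoc]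
      exact ((sqSign_eq_iff (hv.nz l) (hv.nz m)).1 hs).mul ⟨D.q2 (v n), rfl⟩
    rw [e3 k hkl hkm]
    rcases Int.units_eq_one_or (s l) with h | h <;> rcases Int.units_eq_one_or (s k) with h' | h' <;>
      rcases Int.units_eq_one_or (s n) with h'' | h'' <;>
        first
        | exact h'.trans h''.symm
        | exact absurd (h'.trans h.symm) (hno k hkl hkm)
        | exact absurd (h''.trans h.symm) (hno n hn.1 hn.2)
  refine ⟨⟨u, v', hu, hR.1, fun l' m' hlm' _ => by
    obtain ⟨k, hk⟩ : ∃ k, k ∈ Finset.univ \ ({l', m'} : Finset (Fin b)) := Finset.card_pos.1 (by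
      rw [Finset.card_sdiff_of_subset (Finset.subset_univ _), Finset.card_univ, Fintype.card_fin,
        Finset.card_pair hlm']
      omega)
    simp only [Finset.mem_sdiff, Finset.mem_univ, true_and, Finset.mem_insert, Finset.mem_singleton, not_or] at hk
    exact ⟨k, hk.1, hk.2, (hall k).trans (hall l').symm⟩⟩, fun x hx => ?_⟩
  obtain ⟨S, T, hS, hT, hTs, e⟩ := hST x hx
  refine ⟨S, T, hS, e.trans ?_⟩
  congr 2
  show blockSign D.q2 v T = blockSign D.q2 v' T
  have hboth : l ∈ T ↔ m ∈ T := by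
    have hev := hpar T hT hTs (s l)
    have e : (T.filter fun k => s k = s l) = ({l, m} : Finset (Fin b)).filter fun k => k ∈ T := by
      rw [← hcls]; ext k; simp [and_comm]
    rw [e] at hev
    rw [Finset.filter_insert, Finset.filter_singleton] at hev
    by_cases h1 : l ∈ T <;> by_cases h2 : m ∈ T
    · exact iff_of_true h1 h2
    · rw [if_pos h1, if_neg h2, insert_empty_eq, Finset.card_singleton] at hev
      exact absurd hev Nat.not_even_one
    · rw [if_neg h1, if_pos h2, Finset.card_singleton] at hev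
      exact absurd hev Nat.not_even_one
    · exact iff_of_false h1 h2
  refine hR.1.ext_O fun k => ?_
  rw [blockSign_app hR.1]
  by_cases hk : k = l ∨ k = m
  · have hkT : k ∈ T ↔ l ∈ T := by rcases hk with rfl | rfl; · rfl
                                   · exact hboth.symm
    obtain ⟨c, d, hcd⟩ : ∃ c d : F, v' k = c • v l + d • v m := by
      rcases hk with rfl | rfl
      · exact ⟨_, _, e1⟩
      · exact ⟨_, _, e2⟩
    rw [hcd, map_add, map_smul, map_smul, blockSign_app hv, blockSign_app hv]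
    simp only [hkT, ← hboth]
    split_ifs <;> module
  · rw [not_or] at hk
    rw [e3 k hk.1 hk.2, blockSign_app hv]

end Data

end CfsgLib.TensorOddMinus
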