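import Cfsg.Agent.Lib.TensorOddMinus.Transfer

/-!
An element of odd order of a proper overgroup which a sign map of two rows inverts, and which commutes with
every pair sign map up to that one, is trivial.
-/

set_option autoImplicit false
set_option linter.unusedSectionVars false

namespace CfsgLib.TensorOddMinus

open Matrix QuadraticMap CfsgLib.Orth
open CfsgLib.TensorOdd (IsFrame InBlock blockSign blockSign_app blockSign_mul_self sqSign_eq_iff)
open Cfsg.Agent.Spinor57 (sqSign)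

variable {ι : Type} [Fintype ι] [DecidableEq ι] {F : Type*} [Field F] [Fintype F] {Q : QuadraticForm F (ι → F)}

theorem blockSign_symmDiff {κ : Type} [Fintype κ] [DecidableEq κ] {v : κ → ι → F} (hv : IsFrame Q v)
    (S T : Finset κ) : blockSign Q v S * blockSign Q v T = blockSign Q v (symmDiff S T) :=
  hv.ext_O fun i => by
    rw [app_mul, blockSign_app hv T, blockSign_app hv (symmDiff S T)]
    by_cases h1 : i ∈ S <;> by_cases h2 : i ∈ T <;> simp [Finset.mem_symmDiff, blockSign_app hv, h1, h2]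

namespace Data

variable {q : QuadraticForm F (ι → F)} {a b : ℕ} {D : Data q a b} {M : Subgroup (O q)}

theorem Frames.e_ne (Φ : D.Frames) (c : Fin a × Fin b) : q (Φ.e c.1 c.2) ≠ 0 := Φ.isFrame.nz c

theorem Frames.sgn_mul (Φ : D.Frames) (S S' : Finset (Fin a)) (T T' : Finset (Fin b)) :
    Φ.sgn S T * Φ.sgn S' T' = Φ.sgn (symmDiff S S') (symmDiff T T') := by
  rw [Frames.sgn, Frames.sgn, ← map_mul, Prod.mk_mul_mk, blockSign_symmDiff Φ.hu, blockSign_symmDiff Φ.hv]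
  rfl

theorem mem_supp_symmDiff {S S' : Finset (Fin a)} {T T' : Finset (Fin b)} {c : Fin a × Fin b} :
    c ∈ supp (symmDiff S S') (symmDiff T T') ↔ ¬ (c ∈ supp S T ↔ c ∈ supp S' T') := by
  simp only [mem_supp, Finset.mem_symmDiff]
  tauto

/-- Conjugating an element of a root group by an element fixing the slice. -/
theorem IsRad.conj_fix {w : Fin b → F} {Θ : (Fin a → F) →ₗ[F] (ι → F)} {K : (Fin a → F) →ₗ[F] (Fin a → F)}
    {g y : O q} (h : D.IsRad w Θ K g) (hy : ∀ x, app y (D.tp x w) = D.tp x w) :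
    D.IsRad w ((app y).comp Θ) K (y * g * y⁻¹) := by
  have hC : ∀ z, D.C w (app y z) = D.C w z := fun z => CfsgLib.TensorMax63.ext_polar D.good1.nd fun x => by
    rw [polar_C, polar_C]
    conv_lhs => rw [← hy x, polar_app]
  refine ⟨fun x => by rw [LinearMap.comp_apply, hC, h.ker], fun z => ?_⟩
  obtain ⟨u, rfl⟩ : ∃ u, app y u = z := ⟨app y⁻¹ z, app_app_inv _ z⟩
  have hadj : D.adj ((app y).comp Θ) (app y u) = D.adj Θ u :=
    CfsgLib.TensorMax63.ext_polar D.good1.nd fun x => by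
      rw [polar_adj, polar_adj, LinearMap.comp_apply, polar_app]
  rw [app_mul, app_mul, app_inv_app, h.eqn, hadj, hC, map_add, map_sub, map_add, hy, hy]
  rfl

/-- A diagonal coefficient of full size leaves no room for another one. -/
theorem Frames.fix_of_diag (Φ : D.Frames) {y : O q} {c d : Fin a × Fin b}
    (hk : polar q (app y (Φ.e c.1 c.2)) (Φ.e c.1 c.2) = 2 * q (Φ.e c.1 c.2))
    (hd : ∀ c', c' ≠ c → c' ≠ d → polar q (app y (Φ.e c.1 c.2)) (Φ.e c'.1 c'.2) = 0) :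
    app y (Φ.e c.1 c.2) = Φ.e c.1 c.2 := by
  have hz : q (app y (Φ.e c.1 c.2) - Φ.e c.1 c.2) = 0 := by
    rw [sub_eq_add_neg, QuadraticMap.map_add ⇑q, QuadraticMap.map_neg, polar_neg_right, Q_app, hk]
    ring
  set z := app y (Φ.e c.1 c.2) - Φ.e c.1 c.2 with hzd
  obtain ⟨μ, hμ⟩ : ∃ μ : F, z = μ • Φ.e d.1 d.2 := by
    refine ⟨polar q z (Φ.e d.1 d.2) / (2 * q (Φ.e d.1 d.2)), Φ.isFrame.ext_vec fun c' => ?_⟩
    show polar q z (Φ.e c'.1 c'.2) = polar q (_ • Φ.e d.1 d.2) (Φ.e c'.1 c'.2)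
    rw [polar_smul_left, smul_eq_mul]
    by_cases hc'd : c' = d
    · rw [hc'd, polar_self', div_mul_cancel₀ _ (mul_ne_zero D.two (Φ.e_ne d))]
    · rw [show polar q (Φ.e d.1 d.2) (Φ.e c'.1 c'.2) = 0 from Φ.isFrame.orth d c' (Ne.symm hc'd), mul_zero, hzd,
        polar_sub_left]
      by_cases hc'c : c' = c
      · rw [hc'c, hk, polar_self', sub_self]
      · rw [hd c' hc'c hc'd, show polar q (Φ.e c.1 c.2) (Φ.e c'.1 c'.2) = 0 from
          Φ.isFrame.orth c c' (Ne.symm hc'c), sub_zero]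
  rw [hμ, QuadraticMap.map_smul, smul_eq_mul] at hz
  rcases mul_eq_zero.1 hz with h | h
  · rw [mul_self_eq_zero.1 h, zero_smul] at hμ
    exact sub_eq_zero.1 hμ
  · exact absurd h (Φ.e_ne d)

/-- An element with a sign map which flips all its off-diagonal coefficients. -/
theorem Frames.sum_diag (Φ : D.Frames) {y : O q} {S : Finset (Fin a)} {T : Finset (Fin b)} {c : Fin a × Fin b}
    (h : ∀ c', c' ≠ c → polar q (app y (Φ.e c.1 c.2)) (Φ.e c'.1 c'.2) ≠ 0 →
      ¬ (c ∈ supp S T ↔ c' ∈ supp S T)) :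
    app y (Φ.e c.1 c.2) + app (Φ.sgn S T) (app y (app (Φ.sgn S T) (Φ.e c.1 c.2))) =
      (polar q (app y (Φ.e c.1 c.2)) (Φ.e c.1 c.2) / q (Φ.e c.1 c.2)) • Φ.e c.1 c.2 := by
  refine Φ.isFrame.ext_vec fun c' => ?_
  show polar q _ (Φ.e c'.1 c'.2) = polar q _ (Φ.e c'.1 c'.2)
  rw [polar_add_left, polar_smul_left, smul_eq_mul]
  have e : polar q (app (Φ.sgn S T) (app y (app (Φ.sgn S T) (Φ.e c.1 c.2)))) (Φ.e c'.1 c'.2) =
      polar q (app y (app (Φ.sgn S T) (Φ.e c.1 c.2))) (app (Φ.sgn S T) (Φ.e c'.1 c'.2)) := by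
    conv_rhs => rw [← polar_app (Φ.sgn S T), ← app_mul (Φ.sgn S T) (Φ.sgn S T), Φ.sgn_mul_self, app_one]
  rw [e, Φ.sgn_app, Φ.sgn_app]
  by_cases hc : c' = c
  · subst hc
    rw [polar_self']
    have h1 : q (Φ.e c'.1 c'.2) ≠ 0 := Φ.e_ne c'
    split_ifs <;> (try simp only [map_neg, polar_neg_left, polar_neg_right, neg_neg]) <;> field_simp <;> ring_nf
  · rw [show polar q (Φ.e c.1 c.2) (Φ.e c'.1 c'.2) = 0 from Φ.isFrame.orth c c' (Ne.symm hc), mul_zero]
    by_cases hk : polar q (app y (Φ.e c.1 c.2)) (Φ.e c'.1 c'.2) = 0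
    · split_ifs <;> simp only [map_neg, polar_neg_left, polar_neg_right, neg_neg, hk, neg_zero, add_zero]
    · have hne := h c' hc hk
      split_ifs with h1 h2 h2
      · exact absurd (iff_of_true h1 h2) hne
      · rw [map_neg, polar_neg_left, add_neg_cancel]
      · rw [polar_neg_right, add_neg_cancel]
      · exact absurd (iff_of_false h1 h2) hne

/-- An orbit of odd length in a pair of opposite vectors is trivial. -/
theorem fix_of_scalar {y : O q} (hodd : Odd (orderOf y)) {z : ι → F} (hz : q z ≠ 0) {α : F}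
    (h : app y z = α • z) : app y z = z := by
  have h1 : α * α = 1 := by
    have e := Q_app y z
    rw [h, QuadraticMap.map_smul, smul_eq_mul] at e
    exact mul_right_cancel₀ hz (e.trans (one_mul _).symm)
  have hp : ∀ n, app (y ^ n) z = α ^ n • z := fun n => by
    induction n with
    | zero => rw [pow_zero, pow_zero, app_one, one_smul]
    | succ n ih => rw [pow_succ, app_mul, h, map_smul, ih, smul_smul, pow_succ']
  obtain ⟨m, hm⟩ := hodd
  have e := hp (orderOf y)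
  rw [pow_orderOf_eq_one, app_one, hm, pow_succ, pow_mul, _root_.sq, h1, one_pow, one_mul] at e
  rw [h, ← e]

theorem pair_parity {κ : Type} [DecidableEq κ] {l n x z : κ} (hln : l ≠ n) (hxz : x ≠ z) :
    (((l = x ∨ l = z) ↔ (n = x ∨ n = z)) ↔ ((x = l ∨ x = n) ↔ (z = l ∨ z = n))) := by
  grind

variable (D) in
/-- The even factor has two square classes in dimension four. -/
theorem two_classes (Φ : D.Frames) (hb4 : b = 4) :
    ∃ l m, sqSign (D.q2 (Φ.v l)) ≠ sqSign (D.q2 (Φ.v m)) := by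
  by_contra hcon
  push Not at hcon
  subst hb4
  have hsc : ∀ l : Fin 4, ∃ z : Fin 4 → F, D.q2 z = D.q2 (Φ.v 0) ∧ ∃ t : F, t ≠ 0 ∧ z = t • Φ.v l := by
    intro l
    obtain ⟨r, hr⟩ := (sqSign_eq_iff (Φ.hv.nz 0) (Φ.hv.nz l)).1 (hcon 0 l)
    have hr0 : r ≠ 0 := fun h => mul_ne_zero (Φ.hv.nz 0) (Φ.hv.nz l) (by rw [hr, h, mul_zero])
    refine ⟨(D.q2 (Φ.v 0) / r) • Φ.v l, ?_, _, div_ne_zero (Φ.hv.nz 0) hr0, rfl⟩
    rw [QuadraticMap.map_smul, smul_eq_mul]
    have := Φ.hv.nz l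
    field_simp
    linear_combination D.q2 (Φ.v 0) * hr
  choose z hzq t ht hz using hsc
  obtain ⟨x, y, hxy⟩ := CfsgLib.Orth.exists_binary D.two (one_ne_zero : (1 : F) ≠ 0) one_ne_zero (-1 : F)
  have ho : ∀ l m, l ≠ m → polar D.q2 (z l) (z m) = 0 := fun l m h => by
    rw [hz, hz, polar_smul_left, polar_smul_right, Φ.hv.orth l m h, smul_zero, smul_zero]
  have hp2 : ∀ l, polar D.q2 (z l) (Φ.v l) = t l * (2 * D.q2 (Φ.v l)) := fun l => by
    rw [hz, polar_smul_left, polar_self', smul_eq_mul]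
  have hp0 : ∀ l m, l ≠ m → polar D.q2 (z l) (Φ.v m) = 0 := fun l m h => by
    rw [hz, polar_smul_left, Φ.hv.orth l m h, smul_zero]
  have hne : x • z 0 + y • z 1 + z 2 ≠ 0 := fun h => by
    have := congrArg (fun w => polar D.q2 w (Φ.v 2)) h
    simp only [polar_add_left, polar_smul_left, hp0 0 2 (by decide), hp0 1 2 (by decide), hp2, smul_zero,
      zero_add, polar_zero_left] at this
    exact mul_ne_zero (ht 2) (mul_ne_zero D.two (Φ.hv.nz 2)) this
  obtain ⟨s, hs⟩ := D.good2.four (Fintype.card_fin 4) (x • z 0 + y • z 1 + z 2) ((-y) • z 0 + x • z 1 + z 3)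
    (by
      simp only [QuadraticMap.map_add ⇑D.q2, QuadraticMap.map_smul, polar_add_left, polar_smul_left,
        polar_smul_right, ho 0 1 (by decide), ho 0 2 (by decide), ho 1 2 (by decide), hzq, smul_eq_mul]
      linear_combination D.q2 (Φ.v 0) * hxy)
    (by
      simp only [QuadraticMap.map_add ⇑D.q2, QuadraticMap.map_smul, polar_add_left, polar_smul_left,
        polar_smul_right, ho 0 1 (by decide), ho 0 3 (by decide), ho 1 3 (by decide), hzq, smul_eq_mul]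
      linear_combination D.q2 (Φ.v 0) * hxy)
    (by
      simp only [polar_add_left, polar_add_right, polar_smul_left, polar_smul_right, ho 0 1 (by decide),
        ho 1 0 (by decide), ho 0 3 (by decide), ho 1 3 (by decide), ho 2 0 (by decide), ho 2 1 (by decide),
        ho 2 3 (by decide), polar_self', hzq, smul_eq_mul]
      ring)
    hne
  have := congrArg (fun w => polar D.q2 w (Φ.v 3)) hs
  simp only [polar_add_left, polar_smul_left, hp0 0 3 (by decide), hp0 1 3 (by decide), hp0 2 3 (by decide),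
    hp2, smul_zero, zero_add, add_zero] at this
  exact mul_ne_zero (ht 3) (mul_ne_zero D.two (Φ.hv.nz 3)) this

/-- Two different overlapping column pairs cannot have the same parities on every class. -/
theorem Frames.pair_overlap (Φ : D.Frames) (hb4 : 4 ≤ b) {c n k : Fin b} (hnk : n ≠ k) (hcn : c ≠ n) (hck : c ≠ k)
    (key : ∀ x z : Fin b, sqSign (D.q2 (Φ.v x)) = sqSign (D.q2 (Φ.v z)) →
      (((x = c ∨ x = n) ↔ (z = c ∨ z = n)) ↔ ((x = c ∨ x = k) ↔ (z = c ∨ z = k)))) : False := by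
  have hclosed : ∀ x z, sqSign (D.q2 (Φ.v x)) = sqSign (D.q2 (Φ.v z)) → (x = n ∨ x = k) → z ≠ n → z ≠ k →
      False := by
    intro x z hs hx hzn hzk
    have h := key x z hs
    rcases hx with rfl | rfl
    · simp only [or_iff_left hzn, or_iff_left hzk, or_true, true_iff,
        or_iff_left hnk, iff_false_intro (Ne.symm hcn), false_iff] at h
      by_cases hz : z = c <;> simp [hz] at h
    · simp only [or_iff_left hzn, or_iff_left hzk, or_true, true_iff,
        or_iff_left (Ne.symm hnk), iff_false_intro (Ne.symm hck), false_iff] at h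
      by_cases hz : z = c <;> simp [hz] at h
  by_cases hs : sqSign (D.q2 (Φ.v n)) = sqSign (D.q2 (Φ.v k))
  · obtain ⟨t, hpn, hpk, hp⟩ := Φ.notwo n k hnk hs
    exact hclosed n t hp.symm (Or.inl rfl) hpn hpk
  · obtain ⟨t, hp⟩ : ∃ p, p ∈ Finset.univ \ ({n, k} : Finset (Fin b)) := Finset.card_pos.1 (by
      rw [Finset.card_sdiff_of_subset (Finset.subset_univ _), Finset.card_univ, Fintype.card_fin,
        Finset.card_pair hnk]
      omega)
    simp only [Finset.mem_sdiff, Finset.mem_univ, true_and, Finset.mem_insert, Finset.mem_singleton, not_or] at hp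
    rcases Int.units_eq_one_or (sqSign (D.q2 (Φ.v t))) with ep | ep <;>
      rcases Int.units_eq_one_or (sqSign (D.q2 (Φ.v n))) with en | en <;>
      rcases Int.units_eq_one_or (sqSign (D.q2 (Φ.v k))) with ek | ek <;>
      first
      | exact hs (en.trans ek.symm)
      | exact hclosed n t (en.trans ep.symm) (Or.inl rfl) hp.1 hp.2
      | exact hclosed k t (ek.trans ep.symm) (Or.inr rfl) hp.1 hp.2

/-- Two column pairs with the same parities on every class are equal or disjoint with a union of classes. -/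
theorem Frames.pair_cols (Φ : D.Frames) (hb4 : 4 ≤ b) {l₀ n₀ p r : Fin b} (hl : l₀ ≠ n₀) (hm : p ≠ r)
    (key : ∀ x z : Fin b, sqSign (D.q2 (Φ.v x)) = sqSign (D.q2 (Φ.v z)) →
      (((x = l₀ ∨ x = n₀) ↔ (z = l₀ ∨ z = n₀)) ↔ ((x = p ∨ x = r) ↔ (z = p ∨ z = r)))) :
    ((p = l₀ ∧ r = n₀) ∨ (p = n₀ ∧ r = l₀)) ∨
      ([l₀, n₀, p, r].Nodup ∧ ∀ x z, sqSign (D.q2 (Φ.v x)) = sqSign (D.q2 (Φ.v z)) →
        x ∈ [l₀, n₀, p, r] → z ∈ [l₀, n₀, p, r]) := by
  have swapA : ∀ {A B : Fin b}, (∀ x : Fin b, (x = A ∨ x = B) ↔ (x = B ∨ x = A)) := fun _ => or_comm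
  by_cases e1 : p = l₀
  · by_cases e2 : r = n₀
    · exact Or.inl (Or.inl ⟨e1, e2⟩)
    subst e1
    exact (Φ.pair_overlap hb4 (Ne.symm e2) hl hm key).elim
  by_cases e3 : p = n₀
  · by_cases e4 : r = l₀
    · exact Or.inl (Or.inr ⟨e3, e4⟩)
    subst e3
    exact (Φ.pair_overlap hb4 (Ne.symm e4) (Ne.symm hl) hm fun x z hs => by
      simpa only [swapA (A := l₀)] using key x z hs).elim
  by_cases e5 : r = l₀
  · subst e5
    exact (Φ.pair_overlap hb4 (Ne.symm e3) hl (Ne.symm hm) fun x z hs => by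
      simpa only [swapA (A := p)] using key x z hs).elim
  by_cases e6 : r = n₀
  · subst e6
    exact (Φ.pair_overlap hb4 (Ne.symm e1) (Ne.symm hl) (Ne.symm hm) fun x z hs => by
      simpa only [swapA (A := p), swapA (A := l₀)] using key x z hs).elim
  have hd : [l₀, n₀, p, r].Nodup := by
    simp [hl, hm, Ne.symm e1, Ne.symm e3, Ne.symm e5, Ne.symm e6]
  refine Or.inr ⟨hd, fun x z hs hx => ?_⟩
  have := key x z hs
  simp only [List.mem_cons, List.not_mem_nil, or_false] at hx ⊢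
  have hexA : ∀ w, (w = l₀ ∨ w = n₀) → ¬ (w = p ∨ w = r) := by
    rintro w (rfl | rfl) (h | h)
    · exact e1 h.symm
    · exact e5 h.symm
    · exact e3 h.symm
    · exact e6 h.symm
  have k1 := hexA x
  have k2 := hexA z
  rw [← or_assoc] at hx ⊢
  generalize (x = l₀ ∨ x = n₀) = A, (z = l₀ ∨ z = n₀) = B, (x = p ∨ x = r) = C, (z = p ∨ z = r) = E at *
  by_cases B <;> by_cases E <;> by_cases A <;> by_cases C <;> simp_all

/-- Outside the columns of the pairs there is room for a singular vector. -/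
theorem Frames.exists_rest (Φ : D.Frames) (hb : Even b) (hb6 : 6 ≤ b) {l₀ n₀ : Fin b} (hl : l₀ ≠ n₀)
    (P : Fin b → Fin b → Prop)
    (hcols : ∀ p r, P p r → ((p = l₀ ∧ r = n₀) ∨ (p = n₀ ∧ r = l₀)) ∨
      ([l₀, n₀, p, r].Nodup ∧ ∀ x z, sqSign (D.q2 (Φ.v x)) = sqSign (D.q2 (Φ.v z)) →
        x ∈ [l₀, n₀, p, r] → z ∈ [l₀, n₀, p, r])) :
    ∃ L : Finset (Fin b), (∀ p r, P p r → p ∈ L) ∧ 3 ≤ Lᶜ.card := by
  by_cases h2 : ∀ p r, P p r → (p = l₀ ∨ p = n₀)
  · refine ⟨{l₀, n₀}, fun p r hc => by simpa using h2 p r hc, ?_⟩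
    rw [Finset.card_compl, Fintype.card_fin, Finset.card_pair (hl)]
    omega
  push Not at h2
  obtain ⟨p', r', hd, hd1, hd2⟩ := h2
  have one : ∀ {p r}, P p r → [l₀, n₀, p, r].Nodup →
      (∀ x z, sqSign (D.q2 (Φ.v x)) = sqSign (D.q2 (Φ.v z)) → x ∈ [l₀, n₀, p, r] → z ∈ [l₀, n₀, p, r]) →
      ∀ x, x ∈ [l₀, n₀, p, r] → sqSign (D.q2 (Φ.v x)) = sqSign (D.q2 (Φ.v l₀)) := by
    intro p r hc hn hcl x hx
    by_contra hne
    have hsub : (Finset.univ : Finset (Fin b)) ⊆ [l₀, n₀, p, r].toFinset := fun z _ => by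
      rw [List.mem_toFinset]
      rcases Int.units_eq_one_or (sqSign (D.q2 (Φ.v z))) with ez | ez <;> rcases Int.units_eq_one_or (sqSign (D.q2 (Φ.v x))) with ex | ex <;>
        rcases Int.units_eq_one_or (sqSign (D.q2 (Φ.v l₀))) with e0 | e0 <;>
        first
        | exact absurd (ex.trans e0.symm) hne
        | exact hcl x z (ex.trans ez.symm) hx
        | exact hcl l₀ z (e0.trans ez.symm) List.mem_cons_self
    have := (Finset.card_le_card hsub).trans (List.toFinset_card_le _)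
    simp only [Finset.card_univ, Fintype.card_fin, List.length_cons, List.length_nil] at this
    omega
  refine ⟨Finset.univ.filter fun x => sqSign (D.q2 (Φ.v x)) = sqSign (D.q2 (Φ.v l₀)), fun p r hc => ?_, ?_⟩
  · simp only [Finset.mem_filter, Finset.mem_univ, true_and]
    rcases hcols _ _ hc with (⟨e, -⟩ | ⟨e, -⟩) | ⟨hn, hcl⟩
    · rw [e]
    · rw [e]
      rcases hcols _ _ hd with (⟨e', -⟩ | ⟨e', -⟩) | ⟨hn, hcl⟩
      · exact absurd e' hd1
      · exact absurd e' hd2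
      · exact one hd hn hcl _ (by simp)
    · exact one hc hn hcl _ (by simp)
  rcases hcols _ _ hd with (⟨e', -⟩ | ⟨e', -⟩) | ⟨hn, hcl⟩
  · exact absurd e' hd1
  · exact absurd e' hd2
  have hLe : (Finset.univ.filter fun x => sqSign (D.q2 (Φ.v x)) = sqSign (D.q2 (Φ.v l₀))) = [l₀, n₀, p', r'].toFinset := by
    ext x
    simp only [Finset.mem_filter, Finset.mem_univ, true_and, List.mem_toFinset]
    exact ⟨fun hx => hcl l₀ x hx.symm List.mem_cons_self, fun hx => one hd hn hcl x hx⟩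
  have hcard : (Finset.univ.filter fun x => sqSign (D.q2 (Φ.v x)) = sqSign (D.q2 (Φ.v l₀))).card = 4 := by
    rw [hLe, List.toFinset_card_of_nodup hn]; rfl
  rw [Finset.card_compl, Fintype.card_fin, hcard]
  by_contra hlt
  have hb6' : b = 6 := by
    obtain ⟨m, hm⟩ := hb
    omega
  obtain ⟨x, z, hxz, hxzs⟩ := Finset.card_eq_two.1 (show (Finset.univ.filter fun x => sqSign (D.q2 (Φ.v x)) = sqSign (D.q2 (Φ.v l₀)))ᶜ.card = 2 by
    rw [Finset.card_compl, Fintype.card_fin, hcard]; omega)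
  have hxs : x ∈ (Finset.univ.filter fun x => sqSign (D.q2 (Φ.v x)) = sqSign (D.q2 (Φ.v l₀)))ᶜ := hxzs ▸ Finset.mem_insert_self x _
  have hzs : z ∈ (Finset.univ.filter fun x => sqSign (D.q2 (Φ.v x)) = sqSign (D.q2 (Φ.v l₀)))ᶜ :=
    hxzs ▸ Finset.mem_insert_of_mem (Finset.mem_singleton_self z)
  simp only [Finset.mem_compl, Finset.mem_filter, Finset.mem_univ, true_and] at hxs hzs
  have hxz' : sqSign (D.q2 (Φ.v x)) = sqSign (D.q2 (Φ.v z)) := by
    rcases Int.units_eq_one_or (sqSign (D.q2 (Φ.v x))) with e | e <;> rcases Int.units_eq_one_or (sqSign (D.q2 (Φ.v z))) with e' | e' <;>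
      rcases Int.units_eq_one_or (sqSign (D.q2 (Φ.v l₀))) with e0 | e0 <;>
      first
      | exact e.trans e'.symm
      | exact absurd (e.trans e0.symm) hxs
      | exact absurd (e'.trans e0.symm) hzs
  obtain ⟨p, hpx, hpz, hp⟩ := Φ.notwo x z hxz hxz'
  have : p ∈ (Finset.univ.filter fun x => sqSign (D.q2 (Φ.v x)) = sqSign (D.q2 (Φ.v l₀)))ᶜ := by
    simp only [Finset.mem_compl, Finset.mem_filter, Finset.mem_univ, true_and]
    exact fun e => hxs (hp.symm.trans e)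
  rw [hxzs] at this
  simp [hpx, hpz] at this

/-- In dimension four no matching of the columns by these pairs has constant class products. -/
theorem Frames.no_matching (Φ : D.Frames) (hb4 : 4 ≤ b) (hbf : b = 4) {l₀ n₀ : Fin b} (hl₀ : l₀ ≠ n₀)
    (σ : Fin b → Fin b) (hσne : ∀ x, x ≠ σ x)
    (hconst : ∀ x z, sqSign (D.q2 (Φ.v x)) * sqSign (D.q2 (Φ.v (σ x))) =
      sqSign (D.q2 (Φ.v z)) * sqSign (D.q2 (Φ.v (σ z))))
    (hcols : ∀ x, ((x = l₀ ∧ σ x = n₀) ∨ (x = n₀ ∧ σ x = l₀)) ∨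
      ([l₀, n₀, x, σ x].Nodup ∧ ∀ p r, sqSign (D.q2 (Φ.v p)) = sqSign (D.q2 (Φ.v r)) →
        p ∈ [l₀, n₀, x, σ x] → r ∈ [l₀, n₀, x, σ x])) : False := by
  obtain ⟨o, o', hoo⟩ := D.two_classes Φ hbf
  -- the odd member and the three others
  obtain ⟨l, m, n, hlm, hlnn, hmn, hsm, hsn⟩ : ∃ l m n, l ≠ m ∧ n ≠ l ∧ n ≠ m ∧ sqSign (D.q2 (Φ.v m)) = sqSign (D.q2 (Φ.v l)) ∧ sqSign (D.q2 (Φ.v n)) = sqSign (D.q2 (Φ.v l)) := by
    obtain ⟨P, R, hPR, hc, -⟩ := Φ.exists_sep hb4 hl₀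
    obtain ⟨n, h1, h2, h3⟩ := Φ.notwo P R hPR hc
    exact ⟨P, R, n, hPR, h1, h2, hc.symm, h3⟩
  obtain ⟨z, hz⟩ : ∃ z, sqSign (D.q2 (Φ.v z)) ≠ sqSign (D.q2 (Φ.v l)) := by
    by_cases e : sqSign (D.q2 (Φ.v o)) = sqSign (D.q2 (Φ.v l))
    · exact ⟨o', fun e' => hoo (e.trans e'.symm)⟩
    · exact ⟨o, e⟩
  have hz1 : z ≠ l ∧ z ≠ m ∧ z ≠ n :=
    ⟨fun e => hz (by rw [e]), fun e => hz (by rw [e, hsm]), fun e => hz (by rw [e, hsn])⟩
  have hall : ∀ x, x = l ∨ x = m ∨ x = n ∨ x = z := fun x => by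
    have hu : ({l, m, n, z} : Finset (Fin b)) = Finset.univ := Finset.eq_univ_of_card _ (by
      rw [Finset.card_insert_of_notMem (by simp [hlm, Ne.symm hlnn, Ne.symm hz1.1]),
        Finset.card_insert_of_notMem (by simp [Ne.symm hmn, Ne.symm hz1.2.1]),
        Finset.card_pair (Ne.symm hz1.2.2), Fintype.card_fin, hbf])
    have : x ∈ ({l, m, n, z} : Finset (Fin b)) := hu ▸ Finset.mem_univ x
    simpa using this
  have hmix : ∀ x, sqSign (D.q2 (Φ.v x)) = sqSign (D.q2 (Φ.v l)) → σ x = z := by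
    intro x hx
    have h1 := hconst z x
    have hzne : σ z ≠ z := Ne.symm (hσne z)
    have hzs : sqSign (D.q2 (Φ.v (σ z))) = sqSign (D.q2 (Φ.v l)) := by
      rcases hall (σ z) with e | e | e | e
      · rw [e]
      · rw [e, hsm]
      · rw [e, hsn]
      · exact absurd e hzne
    rw [hzs, hx] at h1
    have h2 : sqSign (D.q2 (Φ.v (σ x))) = sqSign (D.q2 (Φ.v z)) := by
      rcases Int.units_eq_one_or (sqSign (D.q2 (Φ.v l))) with e1 | e1 <;> rcases Int.units_eq_one_or (sqSign (D.q2 (Φ.v z))) with e2 | e2 <;>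
        rcases Int.units_eq_one_or (sqSign (D.q2 (Φ.v (σ x)))) with e3 | e3 <;>
        first
        | exact e3.trans e2.symm
        | exact absurd (e2.trans e1.symm) hz
        | (rw [e1, e2, e3] at h1; exact absurd h1 (by decide))
    rcases hall (σ x) with e | e | e | e
    · rw [e] at h2; exact absurd h2.symm hz
    · rw [e, hsm] at h2; exact absurd h2.symm hz
    · rw [e, hsn] at h2; exact absurd h2.symm hz
    · exact e
  -- two pairs with a common member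
  have hl : σ l = z := hmix l rfl
  have hm : σ m = z := hmix m hsm
  have hn : σ n = z := hmix n hsn
  have hpl : ∀ x, sqSign (D.q2 (Φ.v x)) = sqSign (D.q2 (Φ.v l)) → (x = l₀ ∧ z = n₀) ∨ (x = n₀ ∧ z = l₀) ∨
      [l₀, n₀, x, z].Nodup := by
    intro x hx
    have e : σ x = z := hmix x hx
    rcases hcols x with (⟨e1, e2⟩ | ⟨e1, e2⟩) | ⟨hnd, -⟩
    · exact Or.inl ⟨e1, e ▸ e2⟩
    · exact Or.inr (Or.inl ⟨e1, e ▸ e2⟩)
    · exact Or.inr (Or.inr (by simpa [e] using hnd))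
  have h1 := hpl l rfl
  have h2 := hpl m hsm
  have h3 := hpl n hsn
  have h4 := hall l₀
  have h5 := hall n₀
  have h6 := hl₀
  simp only [List.nodup_cons, List.mem_cons, List.not_mem_nil, or_false, not_or] at h1 h2 h3
  grind

set_option maxHeartbeats 1000000 in
/-- The exceptional configuration is trivial. -/
theorem Over.bad (hO : D.Over M) (ha : Odd a) (hb : Even b) (hb4 : 4 ≤ b) (h45 : b = 4 → 5 ≤ a) (Φ : D.Frames)
    {y : O q} (hyM : y ∈ M) (hodd : Odd (orderOf y)) {S₀ : Finset (Fin a)}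
    (h : ∀ S T, Φ.Gen S T → y * Φ.sgn S T = Φ.sgn S T * y ∨
      y * (Φ.sgn S T * Φ.sgn S₀ ∅) = Φ.sgn S T * Φ.sgn S₀ ∅ * y)
    {T₁ : Finset (Fin b)} (h₁ : Φ.Gen ∅ T₁)
    (hc₁ : y * (Φ.sgn ∅ T₁ * Φ.sgn S₀ ∅) = Φ.sgn ∅ T₁ * Φ.sgn S₀ ∅ * y) : y = 1 := by
  classical
  let K : Fin a × Fin b → Fin a × Fin b → F := fun c c' => polar q (app y (Φ.e c.1 c.2)) (Φ.e c'.1 c'.2)
  let Pair : Fin a × Fin b → Fin a × Fin b → Prop := fun c c' => c' ≠ c ∧ K c c' ≠ 0
  let Same : Finset (Fin a) → Finset (Fin b) → Fin a × Fin b → Fin a × Fin b → Prop :=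
    fun S T c c' => c ∈ supp S T ↔ c' ∈ supp S T
  have hprod : ∀ {S T c c'}, K c c' ≠ 0 → y * (Φ.sgn S T * Φ.sgn S₀ ∅) = Φ.sgn S T * Φ.sgn S₀ ∅ * y →
      (Same S T c c' ↔ Same S₀ ∅ c c') := by
    intro S T c c' hk e
    rw [Φ.sgn_mul] at e
    have := Φ.flag_of_comm Φ e hk
    rw [mem_supp_symmDiff, mem_supp_symmDiff] at this
    simp only [Same]
    tauto
  have hflip : ∀ {c c'}, Pair c c' → ¬ Same S₀ ∅ c c' := by
    rintro c c' ⟨hne, hk⟩ h0
    refine hne (Φ.sep hb4 fun S T hST => ?_).symm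
    rcases h S T hST with e | e
    · exact Φ.flag_of_comm Φ e hk
    · exact (hprod hk e).2 h0
  have hsame : ∀ {c c' d d'}, Pair c c' → Pair d d' → ∀ S T, Φ.Gen S T → (Same S T c c' ↔ Same S T d d') := by
    intro c c' d d' hc hd S T hST
    rcases h S T hST with e | e
    · exact iff_of_true (Φ.flag_of_comm Φ e hc.2) (Φ.flag_of_comm Φ e hd.2)
    · rw [hprod hc.2 e, hprod hd.2 e]
      exact iff_of_false (hflip hc) (hflip hd)
  have huniq : ∀ {c c' c''}, Pair c c' → Pair c c'' → c' = c'' := fun {c c' c''} hc hc' =>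
    Φ.sep hb4 fun S T hST => by
      have := hsame hc hc' S T hST
      simp only [Same] at this
      tauto
  have hrowne : ∀ {c c'}, Pair c c' → c.1 ≠ c'.1 := fun {c c'} hc e => hflip hc (by
    simp only [Same, mem_supp_left, e])
  have hcolne : ∀ {c c'}, Pair c c' → c.2 ≠ c'.2 := fun {c c'} hc e =>
    hflip hc ((hprod hc.2 hc₁).1 (by simp only [Same, mem_supp_right, e]))
  have hno : ∀ {c}, (∀ c', ¬ Pair c c') → app y (Φ.e c.1 c.2) = Φ.e c.1 c.2 := by
    intro c hc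
    refine fix_of_scalar hodd (Φ.e_ne c) (α := K c c / (2 * q (Φ.e c.1 c.2)))
      (Φ.isFrame.ext_vec fun c' => ?_)
    show K c c' = polar q (_ • Φ.e c.1 c.2) (Φ.e c'.1 c'.2)
    rw [polar_smul_left, smul_eq_mul]
    by_cases hcc : c' = c
    · rw [hcc, polar_self', div_mul_cancel₀ _ (mul_ne_zero D.two (Φ.e_ne c))]
    · rw [show polar q (Φ.e c.1 c.2) (Φ.e c'.1 c'.2) = 0 from Φ.isFrame.orth c c' (Ne.symm hcc), mul_zero]
      exact not_not.1 fun hk => hc c' ⟨hcc, hk⟩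
  have hfull : ∀ {c c'}, Pair c c' → K c c ≠ 2 * q (Φ.e c.1 c.2) := fun {c c'} hc hk => by
    have e := Φ.fix_of_diag (d := c') hk fun c'' h1 h2 => not_not.1 fun hk' => h2 (huniq ⟨h1, hk'⟩ hc)
    apply hc.2
    show polar q _ _ = 0
    rw [e]
    exact Φ.isFrame.orth c c' (Ne.symm hc.1)
  suffices H : ∀ c c', ¬ Pair c c' from
    Φ.isFrame.ext_O fun c => by rw [app_one]; exact hno (H c)
  intro c₀ c₀' h00
  -- the two rows
  have hrows : ∀ {c c'}, Pair c c' → ({c.1, c'.1} : Finset (Fin a)) = {c₀.1, c₀'.1} := by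
    intro c c' hc
    have key : ∀ x z : Fin a, x ≠ z →
        (((c₀.1 = x ∨ c₀.1 = z) ↔ (c₀'.1 = x ∨ c₀'.1 = z)) ↔ ((c.1 = x ∨ c.1 = z) ↔ (c'.1 = x ∨ c'.1 = z))) := by
      intro x z hxz
      have := hsame h00 hc {x, z} ∅ (Or.inl ⟨x, z, hxz, rfl, rfl⟩)
      simpa only [Same, mem_supp_left, Finset.mem_insert, Finset.mem_singleton] using this
    rcases four_values D.three_a ha key with ⟨e1, -⟩ | ⟨e1, e2⟩ | ⟨e1, e2⟩
    · exact absurd e1 (hrowne h00)
    · rw [e1, e2]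
    · rw [e1, e2]; exact Finset.pair_comm _ _
  have hrow : ∀ {c c'}, Pair c c' → (c.1 = c₀.1 ∨ c.1 = c₀'.1) ∧ (c'.1 = c₀.1 ∨ c'.1 = c₀'.1) := by
    intro c c' hc
    have e := hrows hc
    constructor
    · have : c.1 ∈ ({c₀.1, c₀'.1} : Finset (Fin a)) := e ▸ Finset.mem_insert_self _ _
      simpa using this
    · have : c'.1 ∈ ({c₀.1, c₀'.1} : Finset (Fin a)) :=
        e ▸ Finset.mem_insert_of_mem (Finset.mem_singleton_self _)
      simpa using this
  -- two column pairs are equal or disjoint with a union of classes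
  let s : Fin b → ℤˣ := fun l => sqSign (D.q2 (Φ.v l))
  have hcols : ∀ {c c'}, Pair c c' → ((c.2 = c₀.2 ∧ c'.2 = c₀'.2) ∨ (c.2 = c₀'.2 ∧ c'.2 = c₀.2)) ∨
      ([c₀.2, c₀'.2, c.2, c'.2].Nodup ∧ ∀ x z, s x = s z →
        x ∈ [c₀.2, c₀'.2, c.2, c'.2] → z ∈ [c₀.2, c₀'.2, c.2, c'.2]) := by
    intro c c' hc
    have hl := hcolne h00
    have hm := hcolne hc
    have key : ∀ x z : Fin b, s x = s z →
        (((x = c₀.2 ∨ x = c₀'.2) ↔ (z = c₀.2 ∨ z = c₀'.2)) ↔ ((x = c.2 ∨ x = c'.2) ↔ (z = c.2 ∨ z = c'.2))) := by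
      intro x z hs
      rcases eq_or_ne x z with rfl | hxz
      · exact iff_of_true Iff.rfl Iff.rfl
      have := hsame h00 hc ∅ {x, z} (Or.inr ⟨x, z, hxz, hs, rfl, rfl⟩)
      simp only [Same, mem_supp_right, Finset.mem_insert, Finset.mem_singleton] at this
      rwa [pair_parity hl hxz, pair_parity hm hxz] at this
    exact Φ.pair_cols hb4 hl hm key
  by_cases hb6 : 6 ≤ b
  · -- a singular vector in columns without partners
    obtain ⟨L, hL', hLc⟩ := Φ.exists_rest hb hb6 (hcolne h00)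
      (fun p r => ∃ c c', Pair c c' ∧ c.2 = p ∧ c'.2 = r) (by rintro p r ⟨c, c', hc, rfl, rfl⟩; exact hcols hc)
    have hL : ∀ c c', Pair c c' → c.2 ∈ L := fun c c' hc => hL' _ _ ⟨c, c', hc, rfl, rfl⟩
    obtain ⟨w, hwb, hw, hw0⟩ := exists_singular_block D.good2 Φ.hv hLc
    have hfix : ∀ x, app y (D.tp x w) = D.tp x w := by
      intro x
      have e : (app y).comp (D.tpL w) = D.tpL w := Φ.hu.ext_lin fun r => by
        show app y (D.tp (Φ.u r) w) = D.tp (Φ.u r) w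
        rw [hwb.eq_sum Φ.hv, D.tp_sum_right, map_sum]
        refine Finset.sum_congr rfl fun m hm => ?_
        rw [map_smul]
        congr 1
        exact hno (c := (r, m)) fun c' hc' => Finset.mem_compl.1 hm (hL _ _ hc')
      exact LinearMap.congr_fun e x
    -- compare the diagonal of a row with that of an untouched one
    obtain ⟨k, hk, hk'⟩ := exists_third D.three_a c₀.1 c₀'.1
    set t := Φ.sgn {c₀.1, k} ∅ with ht
    have htL : t = D.L (blockSign D.q1 Φ.u {c₀.1, k}) := Φ.sgn_left _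
    have htM : t ∈ M := Φ.gen_mem hb hO (Or.inl ⟨_, _, hk.symm, rfl, rfl⟩)
    have hc : polar D.q2 w (Φ.v c₀.2) = 0 :=
      hwb _ (fun hm => Finset.mem_compl.1 hm (hL _ _ h00))
    have hR := (D.isRad_R hw hc).conj_fix hfix
    have hRM : y * D.R (eich D.q2 w (Φ.v c₀.2)) * y⁻¹ ∈ M :=
      M.mul_mem (M.mul_mem hyM (hO.le_R (eich_mem D.good2 hw hc))) (M.inv_mem hyM)
    have hR' := hR.conj_L (blockSign D.q1 Φ.u {c₀.1, k})
    have hbinv : (blockSign D.q1 Φ.u {c₀.1, k})⁻¹ = blockSign D.q1 Φ.u {c₀.1, k} :=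
      inv_eq_of_mul_eq_one_right (blockSign_mul_self Φ.hu _)
    obtain ⟨X, hX⟩ := exists_diag Φ.hu fun r => K (r, c₀.2) (r, c₀.2) / q (Φ.e r c₀.2)
    have hΘ : (app y).comp (D.tpL (Φ.v c₀.2)) + (app (D.L (blockSign D.q1 Φ.u {c₀.1, k}))).comp
        (((app y).comp (D.tpL (Φ.v c₀.2))).comp (app (blockSign D.q1 Φ.u {c₀.1, k})⁻¹)) =
        (D.tpL (Φ.v c₀.2)).comp X := Φ.hu.ext_lin fun r => by
      simp only [LinearMap.add_apply, LinearMap.comp_apply, hX, map_smul, hbinv]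
      rw [← htL]
      show app y (Φ.e r c₀.2) + app t (app y (D.tp (app (blockSign D.q1 Φ.u {c₀.1, k}) (Φ.u r)) (Φ.v c₀.2))) =
        _ • Φ.e r c₀.2
      rw [← D.L_tp, ← htL]
      refine Φ.sum_diag (c := (r, c₀.2)) fun c' hne hk0 => ?_
      have hp : Pair (r, c₀.2) c' := ⟨hne, hk0⟩
      have e := hrows hp
      have h1 := (hrow hp).1
      have h2 := (hrow hp).2
      have hne1 := hrowne hp
      simp only [mem_supp_left, Finset.mem_insert, Finset.mem_singleton]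
      simp only at h1 h2 hne1 ⊢
      grind
    have hprodM := M.mul_mem hRM (M.mul_mem (M.mul_mem (htL ▸ htM) hRM) (M.inv_mem (htL ▸ htM)))
    have hrad := hR.mul hw hR'
    rw [hΘ] at hrad
    have e := hO.rad_diag Φ.hu hX hw hw0 (Φ.hv.nz c₀.2) hprodM hrad c₀.1 k
    have hkk : app y (Φ.e k c₀.2) = Φ.e k c₀.2 := hno (c := (k, c₀.2)) fun c' hc' => by
      rcases (hrow hc').1 with e | e
      · exact hk e
      · exact hk' e
    have hk2 : K (k, c₀.2) (k, c₀.2) = 2 * q (Φ.e k c₀.2) := by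
      show polar q _ _ = _
      rw [hkk, polar_self']
    rw [hk2, mul_div_cancel_right₀ _ (show q (Φ.e k c₀.2) ≠ 0 from Φ.e_ne (k, c₀.2)),
      div_eq_iff (show q (Φ.e c₀.1 c₀.2) ≠ 0 from Φ.e_ne c₀)] at e
    exact hfull h00 e
  -- dimension four
  have hbf : b = 4 := by
    obtain ⟨m, hm⟩ := hb
    omega
  have ha5 := h45 hbf
  obtain ⟨w, hwb, hw, hw0⟩ := exists_singular_block D.good1 Φ.hu (S := ({c₀.1, c₀'.1} : Finset (Fin a))ᶜ) (by
    rw [Finset.card_compl, Fintype.card_fin]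
    have := Finset.card_le_two (a := c₀.1) (b := c₀'.1)
    omega)
  have hfix : ∀ x, app y (D.swap.tp x w) = D.swap.tp x w := by
    intro x
    rw [D.swap_tp]
    have e : (app y).comp (D.tpR w) = D.tpR w := Φ.hv.ext_lin fun m => by
      show app y (D.tp w (Φ.v m)) = D.tp w (Φ.v m)
      rw [hwb.eq_sum Φ.hu, D.tp_sum_left, map_sum]
      refine Finset.sum_congr rfl fun r hr => ?_
      rw [map_smul]
      congr 1
      exact hno (c := (r, m)) fun c' hc' =>
        Finset.mem_compl.1 hr (by simpa using (hrow hc').1)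
    exact LinearMap.congr_fun e x
  -- a pair of one class splitting all column pairs
  obtain ⟨p, r, hpr, hpc, hsplit⟩ : ∃ p r, p ≠ r ∧ s p = s r ∧
      ∀ c c', Pair c c' → ¬ ((c.2 = p ∨ c.2 = r) ↔ (c'.2 = p ∨ c'.2 = r)) := by
    obtain ⟨p, r, hpr, hpc, hcase⟩ := Φ.exists_sep hb4 (hcolne h00)
    refine ⟨p, r, hpr, hpc, fun c c' hc hiff => ?_⟩
    have := (hsame h00 hc ∅ {p, r} (Or.inr ⟨p, r, hpr, hpc, rfl, rfl⟩)).2
      (by simpa only [Same, mem_supp_right, Finset.mem_insert, Finset.mem_singleton] using hiff)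
    simp only [Same, mem_supp_right, Finset.mem_insert, Finset.mem_singleton] at this
    have hl := hcolne h00
    grind
  set t := Φ.sgn ∅ {p, r} with ht
  have htL : t = D.swap.L (blockSign D.q2 Φ.v {p, r}) := (Φ.sgn_right _).trans (D.swap_L _).symm
  have htM : t ∈ M := Φ.gen_mem hb hO (Or.inr ⟨_, _, hpr, hpc, rfl, rfl⟩)
  have hbinv : (blockSign D.q2 Φ.v {p, r})⁻¹ = blockSign D.q2 Φ.v {p, r} :=
    inv_eq_of_mul_eq_one_right (blockSign_mul_self Φ.hv _)
  have hlam : ∀ l m, K (c₀.1, l) (c₀.1, l) / q (Φ.e c₀.1 l) = K (c₀.1, m) (c₀.1, m) / q (Φ.e c₀.1 m) := by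
    intro l m
    have hc : polar D.q1 w (Φ.u c₀.1) = 0 := hwb _ (by simp)
    have hR := (D.swap.isRad_R hw hc).conj_fix (D := D.swap) hfix
    have hRM : y * D.swap.R (eich D.q1 w (Φ.u c₀.1)) * y⁻¹ ∈ M :=
      M.mul_mem (M.mul_mem hyM (hO.swap.le_R (eich_mem D.good1 hw hc))) (M.inv_mem hyM)
    have hR' := hR.conj_L (D := D.swap) (blockSign D.q2 Φ.v {p, r})
    obtain ⟨X, hX⟩ := exists_diag Φ.hv fun l => K (c₀.1, l) (c₀.1, l) / q (Φ.e c₀.1 l)
    have hΘ : (app y).comp (D.swap.tpL (Φ.u c₀.1)) + (app (D.swap.L (blockSign D.q2 Φ.v {p, r}))).comp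
        (((app y).comp (D.swap.tpL (Φ.u c₀.1))).comp (app (blockSign D.q2 Φ.v {p, r})⁻¹)) =
        (D.swap.tpL (Φ.u c₀.1)).comp X := Φ.hv.ext_lin fun l => by
      simp only [LinearMap.add_apply, LinearMap.comp_apply, hX, map_smul, hbinv]
      rw [← htL]
      show app y (D.swap.tp (Φ.v l) (Φ.u c₀.1)) +
        app t (app y (D.swap.tp (app (blockSign D.q2 Φ.v {p, r}) (Φ.v l)) (Φ.u c₀.1))) =
        _ • D.swap.tp (Φ.v l) (Φ.u c₀.1)
      rw [D.swap_tp, D.swap_tp, ← D.R_tp, show D.R (blockSign D.q2 Φ.v {p, r}) = t from (Φ.sgn_right _).symm]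
      refine Φ.sum_diag (c := (c₀.1, l)) fun c' hne hk0 => ?_
      simp only [mem_supp_right, Finset.mem_insert, Finset.mem_singleton]
      exact hsplit _ _ ⟨hne, hk0⟩
    have hprodM := M.mul_mem hRM (M.mul_mem (M.mul_mem (htL ▸ htM) hRM) (M.inv_mem (htL ▸ htM)))
    have hrad := hR.mul (D := D.swap) hw hR'
    exact hO.swap.rad_diag Φ.hv hX hw hw0 (Φ.hu.nz c₀.1) hprodM
      (Eq.mp (congrArg (fun T => D.swap.IsRad w T _ _) hΘ) hrad) l m
  have hpart : ∀ l, ∃ c', Pair (c₀.1, l) c' := by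
    intro l
    by_contra hn
    push Not at hn
    apply hfull h00
    have e := hlam c₀.2 l
    have e2 : K (c₀.1, l) (c₀.1, l) = 2 * q (Φ.e c₀.1 l) := by
      show polar q _ _ = _
      rw [hno hn, polar_self']
    rw [e2, mul_div_cancel_right₀ _ (show q (Φ.e c₀.1 l) ≠ 0 from Φ.e_ne (c₀.1, l)),
      div_eq_iff (show q (Φ.e c₀.1 c₀.2) ≠ 0 from Φ.e_ne c₀)] at e
    exact e
  choose σ hσ using hpart
  set α := K (c₀.1, c₀.2) (c₀.1, c₀.2) / q (Φ.e c₀.1 c₀.2) / 2 with hα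
  set β₀ := 2 * D.q1 (Φ.u c₀.1) with hβ₀
  set β₁ := 2 * D.q1 (Φ.u c₀'.1) with hβ₁
  have hsq : ∀ l, IsSquare ((1 - α * α) * β₀ * β₁ * (D.q2 (Φ.v l) * D.q2 (Φ.v (σ l).2))) ∧ 1 - α * α ≠ 0 := by
    intro l
    have hrow' : (σ l).1 = c₀'.1 := ((hrow (hσ l)).2).resolve_left (Ne.symm (show c₀.1 ≠ (σ l).1 from hrowne (c := (c₀.1, l)) (hσ l)))
    set z := app y (Φ.e c₀.1 l) with hz
    have hz' : z = α • Φ.e c₀.1 l +
        (polar q z (Φ.e (σ l).1 (σ l).2) / (2 * q (Φ.e (σ l).1 (σ l).2))) • Φ.e (σ l).1 (σ l).2 := by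
      refine Φ.isFrame.ext_vec fun c' => ?_
      show polar q z (Φ.e c'.1 c'.2) = polar q _ (Φ.e c'.1 c'.2)
      rw [polar_add_left, polar_smul_left, polar_smul_left, smul_eq_mul, smul_eq_mul]
      by_cases h1 : c' = (c₀.1, l)
      · subst h1
        rw [show polar q (Φ.e (σ l).1 (σ l).2) (Φ.e c₀.1 l) = 0 from Φ.isFrame.orth (σ l) (c₀.1, l) (hσ l).1,
          mul_zero, add_zero, polar_self', hα, hlam c₀.2 l]
        have := D.two
        have : q (Φ.e c₀.1 l) ≠ 0 := Φ.e_ne (c₀.1, l)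
        field_simp
        rfl
      rw [show polar q (Φ.e c₀.1 l) (Φ.e c'.1 c'.2) = 0 from Φ.isFrame.orth (c₀.1, l) c' (Ne.symm h1), mul_zero,
        zero_add]
      by_cases h2 : c' = σ l
      · subst h2
        rw [polar_self', div_mul_cancel₀ _ (mul_ne_zero D.two (Φ.e_ne _))]
      · rw [show polar q (Φ.e (σ l).1 (σ l).2) (Φ.e c'.1 c'.2) = 0 from Φ.isFrame.orth (σ l) c' (Ne.symm h2),
          mul_zero]
        exact not_not.1 fun hk => h2 (huniq ⟨h1, hk⟩ (hσ l))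
    set β := polar q z (Φ.e (σ l).1 (σ l).2) / (2 * q (Φ.e (σ l).1 (σ l).2))
    have hβ : β ≠ 0 := div_ne_zero (hσ l).2 (mul_ne_zero D.two (Φ.e_ne _))
    have e : q z = q (Φ.e c₀.1 l) := Q_app y _
    rw [hz', QuadraticMap.map_add ⇑q, QuadraticMap.map_smul, QuadraticMap.map_smul, polar_smul_left,
      polar_smul_right, show polar q (Φ.e c₀.1 l) (Φ.e (σ l).1 (σ l).2) = 0 from
        Φ.isFrame.orth (c₀.1, l) (σ l) (Ne.symm (hσ l).1), smul_zero, smul_zero, add_zero] at e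
    simp only [Frames.e, D.Q_tp, hrow', smul_eq_mul, ← hβ₀, ← hβ₁] at e
    refine ⟨⟨β * β₁ * D.q2 (Φ.v (σ l).2), by linear_combination (-(β₁ * D.q2 (Φ.v (σ l).2))) * e⟩, fun h0 => ?_⟩
    have e2 : β * β * (β₁ * D.q2 (Φ.v (σ l).2)) = 0 := by linear_combination e + β₀ * D.q2 (Φ.v l) * h0
    exact mul_ne_zero (mul_ne_zero hβ hβ)
      (mul_ne_zero (mul_ne_zero D.two (Φ.hu.nz _)) (Φ.hv.nz _)) e2
  have hconst : ∀ l m, s l * s (σ l).2 = s m * s (σ m).2 := by
    intro l m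
    have hA : ∀ l, sqSign ((1 - α * α) * β₀ * β₁) = sqSign (D.q2 (Φ.v l) * D.q2 (Φ.v (σ l).2)) := fun l =>
      (sqSign_eq_iff (mul_ne_zero (mul_ne_zero (hsq l).2 (mul_ne_zero D.two (Φ.hu.nz _)))
        (mul_ne_zero D.two (Φ.hu.nz _))) (mul_ne_zero (Φ.hv.nz _) (Φ.hv.nz _))).2 (hsq l).1
    have := (hA l).symm.trans (hA m)
    rwa [Cfsg.Agent.Spinor57.sqSign_mul (Φ.hv.nz _) (Φ.hv.nz _),
      Cfsg.Agent.Spinor57.sqSign_mul (Φ.hv.nz _) (Φ.hv.nz _)] at this
  exact Φ.no_matching hb4 hbf (hcolne h00) (fun x => (σ x).2) (fun x => hcolne (hσ x)) hconst fun x => hcols (hσ x)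

end Data

end CfsgLib.TensorOddMinus
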