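import Cfsg.Agent.Lib.TensorOddMinus.Signs

/-!
The cells of a pair of frames and the coefficients of elements commuting with sign maps.
-/

set_option autoImplicit false
set_option linter.unusedSectionVars false

namespace CfsgLib.TensorOddMinus

open Matrix QuadraticMap CfsgLib.Orth
open CfsgLib.TensorOdd (IsFrame blockSign blockSign_app blockSign_empty)
open Cfsg.Agent.Spinor57 (sqSign)

variable {ι : Type} [Fintype ι] [DecidableEq ι] {F : Type*} [Field F] [Fintype F]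

namespace Data

variable {q : QuadraticForm F (ι → F)} {a b : ℕ} {D : Data q a b}

/-- The supports of the sign maps of the pairs. -/
def Frames.Gen (Φ : D.Frames) (S : Finset (Fin a)) (T : Finset (Fin b)) : Prop :=
  (∃ i k, i ≠ k ∧ S = {i, k} ∧ T = ∅) ∨
    ∃ l m, l ≠ m ∧ sqSign (D.q2 (Φ.v l)) = sqSign (D.q2 (Φ.v m)) ∧ S = ∅ ∧ T = {l, m}

theorem mem_supp {S : Finset (Fin a)} {T : Finset (Fin b)} {c : Fin a × Fin b} :
    c ∈ supp S T ↔ ¬ (c.1 ∈ S ↔ c.2 ∈ T) := by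
  simp [supp]

theorem mem_supp_left {S : Finset (Fin a)} {c : Fin a × Fin b} :
    c ∈ supp S (∅ : Finset (Fin b)) ↔ c.1 ∈ S := by
  simp [supp]

theorem mem_supp_right {T : Finset (Fin b)} {c : Fin a × Fin b} :
    c ∈ supp (∅ : Finset (Fin a)) T ↔ c.2 ∈ T := by
  simp [supp]

theorem Frames.isFrame (Φ : D.Frames) :
    IsFrame q (fun p : Fin a × Fin b => D.tp (Φ.u p.1) (Φ.v p.2)) := D.isFrame_tp Φ.hu Φ.hv

theorem Frames.sgn_app (Φ : D.Frames) (S : Finset (Fin a)) (T : Finset (Fin b)) (c : Fin a × Fin b) :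
    app (Φ.sgn S T) (Φ.e c.1 c.2) = if c ∈ supp S T then -Φ.e c.1 c.2 else Φ.e c.1 c.2 := by
  show app (D.ten _) _ = _
  rw [ten_blockSign Φ.hu Φ.hv]
  exact blockSign_app Φ.isFrame _ c

theorem Frames.sgn_mem_TT (Φ : D.Frames) (S : Finset (Fin a)) (T : Finset (Fin b)) : Φ.sgn S T ∈ D.TT :=
  D.mem_TT.2 ⟨_, _, rfl⟩

theorem Frames.sgn_mul_self (Φ : D.Frames) (S : Finset (Fin a)) (T : Finset (Fin b)) :
    Φ.sgn S T * Φ.sgn S T = 1 := by
  rw [Frames.sgn, ← map_mul, Prod.mk_mul_mk, CfsgLib.TensorOdd.blockSign_mul_self Φ.hu,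
    CfsgLib.TensorOdd.blockSign_mul_self Φ.hv, Prod.mk_one_one, map_one]

theorem Frames.sgn_comm (Φ : D.Frames) (S S' : Finset (Fin a)) (T T' : Finset (Fin b)) :
    Φ.sgn S T * Φ.sgn S' T' = Φ.sgn S' T' * Φ.sgn S T := by
  rw [Frames.sgn, Frames.sgn, ← map_mul, ← map_mul, Prod.mk_mul_mk, Prod.mk_mul_mk, blockSign_comm Φ.hu,
    blockSign_comm Φ.hv]

theorem Frames.sgn_left (Φ : D.Frames) (S : Finset (Fin a)) :
    Φ.sgn S ∅ = D.L (blockSign D.q1 Φ.u S) := by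
  rw [Frames.sgn, blockSign_empty Φ.hv]; rfl

theorem Frames.sgn_right (Φ : D.Frames) (T : Finset (Fin b)) :
    Φ.sgn ∅ T = D.R (blockSign D.q2 Φ.v T) := by
  rw [Frames.sgn, blockSign_empty Φ.hu]; rfl

theorem Frames.sgn_pair_left (Φ : D.Frames) (i k : Fin a) : Φ.sgn {i, k} ∅ = Φ.P i k := Φ.sgn_left _

theorem Frames.sgn_pair_right (Φ : D.Frames) (l m : Fin b) : Φ.sgn ∅ {l, m} = Φ.C l m := Φ.sgn_right _

theorem Frames.gen_mem {M : Subgroup (O q)} (Φ : D.Frames) (hb : Even b) (hO : D.Over M)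
    {S : Finset (Fin a)} {T : Finset (Fin b)} (h : Φ.Gen S T) : Φ.sgn S T ∈ M := by
  rcases h with ⟨i, k, hik, rfl, rfl⟩ | ⟨l, m, hlm, hc, rfl, rfl⟩
  · rw [Φ.sgn_pair_left]; exact Φ.P_mem hb hO hik
  · rw [Φ.sgn_pair_right]; exact Φ.C_mem hO hlm hc

/-- A non-zero coefficient between cells of equal signs. -/
theorem Frames.flag_of_comm (Φ Φ' : D.Frames) {g : O q} {S S' : Finset (Fin a)} {T T' : Finset (Fin b)}
    (h : g * Φ.sgn S T = Φ'.sgn S' T' * g) {c c' : Fin a × Fin b}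
    (hk : polar q (app g (Φ.e c.1 c.2)) (Φ'.e c'.1 c'.2) ≠ 0) : c ∈ supp S T ↔ c' ∈ supp S' T' := by
  have e := congrArg (fun x => polar q (app x (Φ.e c.1 c.2)) (app (Φ'.sgn S' T') (Φ'.e c'.1 c'.2))) h
  simp only [app_mul, polar_app] at e
  rw [Φ.sgn_app, Φ'.sgn_app] at e
  set k := polar q (app g (Φ.e c.1 c.2)) (Φ'.e c'.1 c'.2) with hk'
  by_contra hne
  have : -k = k := by
    split_ifs at e with h1 h2 h2
    · exact absurd (iff_of_true h1 h2) hne
    · rwa [map_neg, polar_neg_left] at e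
    · rwa [polar_neg_right] at e
    · exact absurd (iff_of_false h1 h2) hne
  have h2 : (2 : F) * k = 0 := by linear_combination -this
  exact hk ((mul_eq_zero.1 h2).resolve_left D.two)

theorem exists_third (h : 3 ≤ a) (i i' : Fin a) : ∃ k, k ≠ i ∧ k ≠ i' := by
  obtain ⟨k, hk⟩ : ∃ k, k ∈ (Finset.univ \ {i, i'} : Finset (Fin a)) := Finset.card_pos.1 (by
    rw [Finset.card_sdiff_of_subset (Finset.subset_univ _), Finset.card_univ, Fintype.card_fin]
    have := Finset.card_le_two (a := i) (b := i')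
    omega)
  simp only [Finset.mem_sdiff, Finset.mem_univ, true_and, Finset.mem_insert, Finset.mem_singleton, not_or] at hk
  exact ⟨k, hk.1, hk.2⟩

/-- The sign maps of the pairs separate the cells. -/
theorem Frames.sep (Φ : D.Frames) (hb4 : 4 ≤ b) {c c' : Fin a × Fin b}
    (h : ∀ S T, Φ.Gen S T → (c ∈ supp S T ↔ c' ∈ supp S T)) : c = c' := by
  refine Prod.ext ?_ ?_
  · by_contra hne
    obtain ⟨k, hk, hk'⟩ := exists_third D.three_a c.1 c'.1
    have := h {c.1, k} ∅ (Or.inl ⟨_, _, Ne.symm hk, rfl, rfl⟩)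
    simp only [mem_supp_left, Finset.mem_insert, Finset.mem_singleton] at this
    rcases this.1 (Or.inl trivial) with e | e
    · exact hne e.symm
    · exact hk' e.symm
  · by_contra hne
    obtain ⟨p, n, hpn, hc, hcase⟩ := Φ.exists_sep hb4 hne
    have := h ∅ {p, n} (Or.inr ⟨_, _, hpn, hc, rfl, rfl⟩)
    simp only [mem_supp_right, Finset.mem_insert, Finset.mem_singleton] at this
    rcases hcase with ⟨rfl, hn⟩ | ⟨rfl, hn⟩
    · rcases this.1 (Or.inl rfl) with e | e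
      · exact hne e.symm
      · exact hn e.symm
    · rcases this.2 (Or.inl rfl) with e | e
      · exact hne e
      · exact hn e.symm

theorem Frames.eq_row_sum (Φ : D.Frames) {z : ι → F} {j : Fin a}
    (h : ∀ c : Fin a × Fin b, c.1 ≠ j → polar q z (Φ.e c.1 c.2) = 0) :
    z = D.tp (Φ.u j) ((2 * D.q1 (Φ.u j))⁻¹ • D.swap.C (Φ.u j) z) := by
  refine Φ.isFrame.ext_vec fun c => ?_
  rw [D.polar_tp, polar_smul_left, smul_eq_mul,
    show polar D.q2 (D.swap.C (Φ.u j) z) (Φ.v c.2) = polar q z (D.tp (Φ.u j) (Φ.v c.2)) by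
      rw [← D.swap_tp]; exact D.swap.polar_C _ _ _]
  by_cases hc : c.1 = j
  · rw [hc, polar_self']
    have := Φ.hu.nz j
    have := D.two
    field_simp
  · rw [Φ.hu.orth j c.1 (Ne.symm hc), zero_mul]
    exact h c hc

/-- A slice mapped into a slice. -/
theorem exists_slice (Φ Φ' : D.Frames) (g : O q) (i j : Fin a)
    (h : ∀ (l : Fin b) (c' : Fin a × Fin b), c'.1 ≠ j → polar q (app g (Φ.e i l)) (Φ'.e c'.1 c'.2) = 0) :
    ∃ G : (Fin b → F) →ₗ[F] (Fin b → F), Function.Injective G ∧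
      (∀ y, app g (D.tp (Φ.u i) y) = D.tp (Φ'.u j) (G y)) ∧
      ∀ y, D.q1 (Φ'.u j) * D.q2 (G y) = D.q1 (Φ.u i) * D.q2 y := by
  refine ⟨(2 * D.q1 (Φ'.u j))⁻¹ • (D.swap.C (Φ'.u j)).comp ((app g).comp (D.tpR (Φ.u i))), ?_, ?_, ?_⟩
  all_goals
    have key : ∀ y, app g (D.tp (Φ.u i) y) = D.tp (Φ'.u j) (((2 * D.q1 (Φ'.u j))⁻¹ •
        (D.swap.C (Φ'.u j)).comp ((app g).comp (D.tpR (Φ.u i)))) y) := by
      have e : (app g).comp (D.tpR (Φ.u i)) = (D.tpR (Φ'.u j)).comp ((2 * D.q1 (Φ'.u j))⁻¹ •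
          (D.swap.C (Φ'.u j)).comp ((app g).comp (D.tpR (Φ.u i)))) := Φ.hv.ext_lin fun l => by
        exact Φ'.eq_row_sum (z := app g (Φ.e i l)) (h l)
      exact fun y => LinearMap.congr_fun e y
  · intro y y' hy
    refine D.tp_right_cancel (Φ.hu.li.ne_zero i) (app_injective g ?_)
    rw [key, key, hy]
  · exact key
  · intro y
    have e := Q_app g (D.tp (Φ.u i) y)
    rw [key, D.Q_tp, D.Q_tp, mul_assoc, mul_assoc] at e
    exact mul_left_cancel₀ D.two e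

end Data

end CfsgLib.TensorOddMinus
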