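import Cfsg.Agent.Lib.TensorOddMinus.Space
import Cfsg.Agent.Lib.TensorMax63.Setting
import Cfsg.Agent.Lib.TensorOdd.Frames
import Cfsg.Agent.Lib.Maximal.TensorTools

/-!
An orthogonal space identified with the tensor product of two orthogonal spaces, of arbitrary parities: the
stabiliser, contractions and the two factors.
-/

set_option autoImplicit false
set_option linter.unusedSectionVars false

namespace CfsgLib.TensorOddMinus

open Matrix QuadraticMap CfsgLib.Orth CfsgLib.Maximal.TensorTools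
open CfsgLib.TensorOdd (IsFrame reflList reflList_fix reflList_neg blockSign blockSign_app)
open CfsgLib.TensorMax63 (toVec polar_toVec ext_polar)
open scoped Kronecker

variable {ι : Type} [Fintype ι] [DecidableEq ι] {F : Type*} [Field F] [Fintype F]

theorem negId_aux (Q : QuadraticForm F (ι → F)) (x : ι → F) : Q ((-LinearMap.id : _ →ₗ[F] (ι → F)) x) = Q x := by
  simp

/-- `-1` as an isometry. -/
noncomputable def negId (Q : QuadraticForm F (ι → F)) : O Q :=
  mkO (-LinearMap.id) (-LinearMap.id) (by ext; simp) (by ext; simp) (negId_aux Q)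

@[simp] theorem app_negId {Q : QuadraticForm F (ι → F)} (x : ι → F) : app (negId Q) x = -x := by
  simp [negId, app_mkO]

/-- A tensor decomposition of the quadratic space `q`. -/
structure Data (q : QuadraticForm F (ι → F)) (a b : ℕ) where
  q1 : QuadraticForm F (Fin a → F)
  q2 : QuadraticForm F (Fin b → F)
  E : (Fin a × Fin b → F) ≃ₗ[F] (ι → F)
  polar_E : ∀ u v u' v', polar q (E (pure u v)) (E (pure u' v')) = polar q1 u u' * polar q2 v v'
  good1 : Good q1
  good2 : Good q2
  nd : q.polarBilin.Nondegenerate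

variable {q : QuadraticForm F (ι → F)} {a b : ℕ} (D : Data q a b)

namespace Data

theorem two (D : Data q a b) : (2 : F) ≠ 0 := D.good1.two

theorem three_a (D : Data q a b) : 3 ≤ a := by have := D.good1.three; simpa using this

theorem three_b (D : Data q a b) : 3 ≤ b := by have := D.good2.three; simpa using this

theorem card_eq (D : Data q a b) : Fintype.card ι = a * b := by
  have h := D.E.finrank_eq
  simp only [Module.finrank_fintype_fun_eq_card, Fintype.card_prod, Fintype.card_fin] at h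
  exact h.symm

theorem seven (D : Data q a b) : 7 ≤ Fintype.card ι := by
  rw [D.card_eq]
  have := Nat.mul_le_mul D.three_a D.three_b
  omega

/-- The pure tensor. -/
def tp (u : Fin a → F) (v : Fin b → F) : ι → F := D.E (pure u v)

theorem polar_tp (u : Fin a → F) (v : Fin b → F) (u' : Fin a → F) (v' : Fin b → F) :
    polar q (D.tp u v) (D.tp u' v') = polar D.q1 u u' * polar D.q2 v v' := D.polar_E u v u' v'

theorem tp_add_left (u u' : Fin a → F) (v : Fin b → F) : D.tp (u + u') v = D.tp u v + D.tp u' v := by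
  rw [tp, tp, tp, ← map_add]; congr 1; funext p; simp [CfsgLib.Maximal.TensorTools.pure, add_mul]

theorem tp_add_right (u : Fin a → F) (v v' : Fin b → F) : D.tp u (v + v') = D.tp u v + D.tp u v' := by
  rw [tp, tp, tp, ← map_add]; congr 1; funext p; simp [CfsgLib.Maximal.TensorTools.pure, mul_add]

theorem tp_smul_left (c : F) (u : Fin a → F) (v : Fin b → F) : D.tp (c • u) v = c • D.tp u v := by
  rw [tp, tp, ← map_smul]; congr 1; funext p; simp [CfsgLib.Maximal.TensorTools.pure, mul_assoc]

theorem tp_smul_right (c : F) (u : Fin a → F) (v : Fin b → F) : D.tp u (c • v) = c • D.tp u v := by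
  rw [tp, tp, ← map_smul]; congr 1; funext p; simp [CfsgLib.Maximal.TensorTools.pure, mul_left_comm]

theorem tp_neg_left (u : Fin a → F) (v : Fin b → F) : D.tp (-u) v = -D.tp u v := by
  rw [← neg_one_smul F u, D.tp_smul_left, neg_one_smul]

theorem tp_neg_right (u : Fin a → F) (v : Fin b → F) : D.tp u (-v) = -D.tp u v := by
  rw [← neg_one_smul F v, D.tp_smul_right, neg_one_smul]

/-- The linear map `u ↦ u ⊗ v`. -/
def tpL (v : Fin b → F) : (Fin a → F) →ₗ[F] (ι → F) where
  toFun u := D.tp u v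
  map_add' u u' := D.tp_add_left u u' v
  map_smul' c u := D.tp_smul_left c u v

/-- The linear map `v ↦ u ⊗ v`. -/
def tpR (u : Fin a → F) : (Fin b → F) →ₗ[F] (ι → F) where
  toFun v := D.tp u v
  map_add' v v' := D.tp_add_right u v v'
  map_smul' c v := D.tp_smul_right c u v

theorem tp_sum_left {κ : Type*} (s : Finset κ) (c : κ → F) (u : κ → Fin a → F) (v : Fin b → F) :
    D.tp (∑ i ∈ s, c i • u i) v = ∑ i ∈ s, c i • D.tp (u i) v := by
  show D.tpL v _ = _
  simp [tpL, map_sum]

theorem tp_sum_right {κ : Type*} (s : Finset κ) (c : κ → F) (u : Fin a → F) (v : κ → Fin b → F) :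
    D.tp u (∑ i ∈ s, c i • v i) = ∑ i ∈ s, c i • D.tp u (v i) := by
  show D.tpR u _ = _
  simp [tpR, map_sum]

theorem Q_tp (u : Fin a → F) (v : Fin b → F) : q (D.tp u v) = 2 * D.q1 u * D.q2 v := by
  have h := D.polar_tp u v u v
  rw [polar_self', polar_self', polar_self'] at h
  exact mul_left_cancel₀ D.two (by linear_combination h)

theorem tp_single (i : Fin a) (j : Fin b) : D.tp (Pi.single i 1) (Pi.single j 1) = D.E (Pi.single (i, j) 1) := by
  rw [tp]; congr 1; funext p
  simp only [CfsgLib.Maximal.TensorTools.pure, Pi.single_apply, Prod.ext_iff]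
  by_cases h1 : p.1 = i <;> by_cases h2 : p.2 = j <;> simp [h1, h2]

theorem ext_tp {M : Type*} [AddCommGroup M] [Module F M] {f g : (ι → F) →ₗ[F] M}
    (h : ∀ u v, f (D.tp u v) = g (D.tp u v)) : f = g :=
  ((Pi.basisFun F (Fin a × Fin b)).map D.E).ext fun p => by
    rw [Module.Basis.map_apply, Pi.basisFun_apply, ← D.tp_single p.1 p.2]; exact h _ _

theorem ext_tp_O {g g' : O q} (h : ∀ u v, app g (D.tp u v) = app g' (D.tp u v)) : g = g' :=
  ext_app fun x => by rw [D.ext_tp (f := app g) (g := app g') h]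

/-- Two equal pure tensors have proportional factors. -/
theorem tp_eq {u u' : Fin a → F} {v v' : Fin b → F} (hu : u ≠ 0) (hv : v ≠ 0) (h : D.tp u v = D.tp u' v') :
    ∃ t : F, t ≠ 0 ∧ u' = t • u ∧ v' = t⁻¹ • v := by
  have h' : pure u v = pure u' v' := D.E.injective h
  obtain ⟨i, hi⟩ := Function.ne_iff.1 hu
  obtain ⟨j, hj⟩ := Function.ne_iff.1 hv
  simp only [Pi.zero_apply] at hi hj
  have e : ∀ k l, u k * v l = u' k * v' l := fun k l => congrFun h' (k, l)
  have hv' : v' j ≠ 0 := fun h0 => mul_ne_zero hi hj (by rw [e, h0, mul_zero])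
  refine ⟨v j / v' j, div_ne_zero hj hv', funext fun k => ?_, funext fun l => ?_⟩
  · have h1 := e k j
    simp only [Pi.smul_apply, smul_eq_mul]
    field_simp
    linear_combination -h1
  · have h1 := e i l
    have h2 := e i j
    have hu' : u' i ≠ 0 := fun h0 => mul_ne_zero hi hj (by rw [h2, h0, zero_mul])
    simp only [Pi.smul_apply, smul_eq_mul]
    field_simp
    refine mul_left_cancel₀ hu' ?_
    linear_combination v l * h2 - v j * h1

theorem tp_ne_zero {u : Fin a → F} {v : Fin b → F} (hu : u ≠ 0) (hv : v ≠ 0) : D.tp u v ≠ 0 := by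
  intro h
  have h0 : pure u v = 0 := D.E.injective (by rw [map_zero]; exact h)
  obtain ⟨i, hi⟩ := Function.ne_iff.1 hu
  obtain ⟨j, hj⟩ := Function.ne_iff.1 hv
  exact mul_ne_zero hi hj (congrFun h0 (i, j))

theorem tp_left_cancel {u u' : Fin a → F} {v : Fin b → F} (hv : v ≠ 0) (h : D.tp u v = D.tp u' v) : u = u' := by
  by_contra hne
  refine D.tp_ne_zero (sub_ne_zero.2 hne) hv ?_
  show D.tpL v (u - u') = 0
  rw [map_sub]; exact sub_eq_zero.2 h

theorem tp_right_cancel {u : Fin a → F} {v v' : Fin b → F} (hu : u ≠ 0) (h : D.tp u v = D.tp u v') : v = v' := by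
  by_contra hne
  refine D.tp_ne_zero hu (sub_ne_zero.2 hne) ?_
  show D.tpR u (v - v') = 0
  rw [map_sub]; exact sub_eq_zero.2 h

/-- The Kronecker product of two linear maps, transported to `ι → F`. -/
noncomputable def kmap (A : (Fin a → F) →ₗ[F] (Fin a → F)) (B : (Fin b → F) →ₗ[F] (Fin b → F)) :
    (ι → F) →ₗ[F] (ι → F) :=
  D.E.toLinearMap ∘ₗ Matrix.toLin' (LinearMap.toMatrix' A ⊗ₖ LinearMap.toMatrix' B) ∘ₗ D.E.symm.toLinearMap

theorem kmap_tp (A : (Fin a → F) →ₗ[F] (Fin a → F)) (B : (Fin b → F) →ₗ[F] (Fin b → F))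
    (u : Fin a → F) (v : Fin b → F) : D.kmap A B (D.tp u v) = D.tp (A u) (B v) := by
  simp [kmap, tp, kronecker_mulVec_pure]

theorem kmap_comp (A A' : (Fin a → F) →ₗ[F] (Fin a → F)) (B B' : (Fin b → F) →ₗ[F] (Fin b → F)) :
    (D.kmap A B).comp (D.kmap A' B') = D.kmap (A.comp A') (B.comp B') :=
  D.ext_tp fun u v => by simp [kmap_tp]

theorem kmap_id : D.kmap LinearMap.id LinearMap.id = LinearMap.id :=
  D.ext_tp fun u v => by simp [kmap_tp]

theorem polar_kmap (A : O D.q1) (B : O D.q2) (x y : ι → F) :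
    polar q (D.kmap (app A) (app B) x) (D.kmap (app A) (app B) y) = polar q x y := by
  have h : q.polarBilin.compl₁₂ (D.kmap (app A) (app B)) (D.kmap (app A) (app B)) = q.polarBilin :=
    D.ext_tp fun u v => D.ext_tp fun u' v' => by
      simp [kmap_tp, polar_tp]
  exact LinearMap.congr_fun (LinearMap.congr_fun h x) y

theorem Q_kmap (A : O D.q1) (B : O D.q2) (x : ι → F) : q (D.kmap (app A) (app B) x) = q x := by
  have h := D.polar_kmap A B x x
  rw [polar_self', polar_self'] at h
  exact mul_left_cancel₀ D.two h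

theorem kmap_inv (A : O D.q1) (B : O D.q2) :
    (D.kmap (app A) (app B)).comp (D.kmap (app A⁻¹) (app B⁻¹)) = LinearMap.id := by
  rw [kmap_comp, show (app A).comp (app A⁻¹) = LinearMap.id from LinearMap.ext (app_app_inv A),
    show (app B).comp (app B⁻¹) = LinearMap.id from LinearMap.ext (app_app_inv B), kmap_id]

/-- The tensor product of two isometries. -/
noncomputable def ten : O D.q1 × O D.q2 →* O q where
  toFun p := mkO (D.kmap (app p.1) (app p.2)) (D.kmap (app p.1⁻¹) (app p.2⁻¹)) (D.kmap_inv p.1 p.2)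
    (by simpa using D.kmap_inv p.1⁻¹ p.2⁻¹) (D.Q_kmap p.1 p.2)
  map_one' := D.ext_tp_O fun u v => by simp [app_mkO, kmap_tp]
  map_mul' p p' := D.ext_tp_O fun u v => by simp [app_mkO, kmap_tp]

theorem ten_tp (A : O D.q1) (B : O D.q2) (u : Fin a → F) (v : Fin b → F) :
    app (D.ten (A, B)) (D.tp u v) = D.tp (app A u) (app B v) := by
  simp [ten, app_mkO, kmap_tp]

/-- Isometries of the first factor. -/
noncomputable def L : O D.q1 →* O q := D.ten.comp (MonoidHom.inl _ _)

/-- Isometries of the second factor. -/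
noncomputable def R : O D.q2 →* O q := D.ten.comp (MonoidHom.inr _ _)

theorem L_tp (A : O D.q1) (u : Fin a → F) (v : Fin b → F) : app (D.L A) (D.tp u v) = D.tp (app A u) v := by
  simp [L, ten_tp]

theorem R_tp (B : O D.q2) (u : Fin a → F) (v : Fin b → F) : app (D.R B) (D.tp u v) = D.tp u (app B v) := by
  simp [R, ten_tp]

theorem ten_eq (A : O D.q1) (B : O D.q2) : D.ten (A, B) = D.L A * D.R B :=
  D.ext_tp_O fun u v => by rw [app_mul, R_tp, L_tp, ten_tp]

theorem L_R_comm (A : O D.q1) (B : O D.q2) : D.L A * D.R B = D.R B * D.L A :=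
  D.ext_tp_O fun u v => by simp [L_tp, R_tp]

/-- The stabiliser of the decomposition inside the isometry group. -/
noncomputable def TT : Subgroup (O q) := D.ten.range

theorem L_mem (A : O D.q1) : D.L A ∈ D.TT := ⟨(A, 1), rfl⟩

theorem R_mem (B : O D.q2) : D.R B ∈ D.TT := ⟨(1, B), rfl⟩

theorem mem_TT {g : O q} : g ∈ D.TT ↔ ∃ A B, g = D.ten (A, B) := by
  constructor
  · rintro ⟨⟨A, B⟩, rfl⟩; exact ⟨A, B, rfl⟩
  · rintro ⟨A, B, rfl⟩; exact ⟨_, rfl⟩

theorem L_negId : D.L (negId D.q1) = negId q :=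
  D.ext_tp_O fun u v => by rw [L_tp, app_negId, app_negId, tp_neg_left]

theorem R_negId : D.R (negId D.q2) = negId q :=
  D.ext_tp_O fun u v => by rw [R_tp, app_negId, app_negId, tp_neg_right]

theorem L_omega {A : O D.q1} (h : A ∈ commutator (O D.q1)) : D.L A ∈ commutator (O q) := by
  have : (commutator (O D.q1)).map D.L ≤ commutator (O q) := by
    rw [commutator_def, Subgroup.map_commutator]
    exact Subgroup.commutator_mono le_top le_top
  exact this ⟨A, h, rfl⟩

theorem R_omega {B : O D.q2} (h : B ∈ commutator (O D.q2)) : D.R B ∈ commutator (O q) := by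
  have : (commutator (O D.q2)).map D.R ≤ commutator (O q) := by
    rw [commutator_def, Subgroup.map_commutator]
    exact Subgroup.commutator_mono le_top le_top
  exact this ⟨B, h, rfl⟩

/-- The frame of pure tensors. -/
theorem isFrame_tp {u : Fin a → Fin a → F} {v : Fin b → Fin b → F} (hu : IsFrame D.q1 u) (hv : IsFrame D.q2 v) :
    IsFrame q (fun p : Fin a × Fin b => D.tp (u p.1) (v p.2)) := by
  refine ⟨?_, fun p p' h => ?_, fun p => ?_, D.two⟩
  · have h1 := D.E.finrank_eq
    simpa only [Module.finrank_fintype_fun_eq_card] using h1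
  · rw [polar_tp]
    by_cases h1 : p.1 = p'.1
    · rw [hv.orth p.2 p'.2 fun h2 => h (Prod.ext h1 h2), mul_zero]
    · rw [hu.orth _ _ h1, zero_mul]
  · rw [Q_tp]; exact mul_ne_zero (mul_ne_zero D.two (hu.nz _)) (hv.nz _)

/-- A reflection of the first factor as a product of reflections. -/
theorem L_refl {z : Fin a → F} (hz : D.q1 z ≠ 0) {v : Fin b → Fin b → F} (hv : IsFrame D.q2 v) :
    D.L (refl D.q1 z) = reflList q ((Finset.univ : Finset (Fin b)).toList.map fun j => D.tp z (v j)) := by
  set l := reflList q ((Finset.univ : Finset (Fin b)).toList.map fun j => D.tp z (v j))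
  have hnz : ∀ j, q (D.tp z (v j)) ≠ 0 := fun j => by
    rw [Q_tp]; exact mul_ne_zero (mul_ne_zero D.two hz) (hv.nz j)
  have horth : ∀ i j, i ≠ j → polar q (D.tp z (v i)) (D.tp z (v j)) = 0 := fun i j h => by
    rw [polar_tp, hv.orth i j h, mul_zero]
  refine D.ext_tp_O fun u y => ?_
  set c := (D.q1 z)⁻¹ * polar D.q1 u z / 2 with hc
  have hu : polar D.q1 (u - c • z) z = 0 := by
    rw [polar_sub_left, polar_smul_left, polar_self', hc, smul_eq_mul]
    have := D.two
    field_simp
    ring
  have h1 : app l (D.tp (u - c • z) y) = D.tp (u - c • z) y := reflList_fix fun w hw => by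
    obtain ⟨j, -, rfl⟩ := List.mem_map.1 hw
    rw [polar_tp, hu, zero_mul]
  have h2 : app l (D.tp z y) = -D.tp z y := by
    rw [hv.eq_sum y, D.tp_sum_right, map_sum, ← Finset.sum_neg_distrib]
    refine Finset.sum_congr rfl fun j _ => ?_
    rw [map_smul, ← smul_neg]
    congr 1
    exact reflList_neg horth hnz (Finset.nodup_toList _) (Finset.mem_toList.2 (Finset.mem_univ j))
  have hsplit : D.tp u y = D.tp (u - c • z) y + c • D.tp z y := by
    rw [← D.tp_smul_left, ← D.tp_add_left, sub_add_cancel]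
  rw [hsplit, map_add, map_add, map_smul, map_smul, h1, h2, L_tp, L_tp, app_refl_of_ortho hu,
    app_refl_self hz, tp_neg_left]

/-- The factors exchanged. -/
noncomputable def swap : Data q b a where
  q1 := D.q2
  q2 := D.q1
  E := (LinearEquiv.funCongrLeft F F (Equiv.prodComm (Fin a) (Fin b))).trans D.E
  polar_E u v u' v' := by
    have e : ∀ (x : Fin b → F) (y : Fin a → F),
        (LinearEquiv.funCongrLeft F F (Equiv.prodComm (Fin a) (Fin b))) (pure x y) = pure y x := fun x y => by
      funext p; simp [CfsgLib.Maximal.TensorTools.pure, LinearEquiv.funCongrLeft_apply, LinearMap.funLeft_apply, mul_comm]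
    simp only [LinearEquiv.trans_apply, e, D.polar_E]
    ring
  good1 := D.good2
  good2 := D.good1
  nd := D.nd

theorem swap_tp (v : Fin b → F) (u : Fin a → F) : D.swap.tp v u = D.tp u v := by
  show D.E ((LinearEquiv.funCongrLeft F F (Equiv.prodComm (Fin a) (Fin b))) (pure v u)) = D.E (pure u v)
  congr 1
  funext p
  simp [CfsgLib.Maximal.TensorTools.pure, LinearEquiv.funCongrLeft_apply, LinearMap.funLeft_apply, mul_comm]

theorem swap_L (B : O D.q2) : D.swap.L B = D.R B :=
  D.ext_tp_O fun u v => by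
    have h : app (D.swap.L B) (D.swap.tp v u) = D.swap.tp (app B v) u := D.swap.L_tp B v u
    rw [D.swap_tp v u] at h
    rw [h, D.R_tp]
    exact D.swap_tp _ _

theorem swap_R (A : O D.q1) : D.swap.R A = D.L A :=
  D.ext_tp_O fun u v => by
    have h : app (D.swap.R A) (D.swap.tp v u) = D.swap.tp v (app A u) := D.swap.R_tp A v u
    rw [D.swap_tp v u] at h
    rw [h, D.L_tp]
    exact D.swap_tp _ _

theorem swap_ten (A : O D.q1) (B : O D.q2) : D.swap.ten (B, A) = D.ten (A, B) :=
  D.ext_tp_O fun u v => by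
    have h : app (D.swap.ten (B, A)) (D.swap.tp v u) = D.swap.tp (app B v) (app A u) := D.swap.ten_tp B A v u
    rw [D.swap_tp v u] at h
    rw [h, D.ten_tp]
    exact D.swap_tp _ _

theorem swap_TT : D.swap.TT = D.TT := by
  ext g
  constructor
  · rintro ⟨⟨B, A⟩, rfl⟩
    exact ⟨(A, B), (D.swap_ten A B).symm⟩
  · rintro ⟨⟨A, B⟩, rfl⟩
    exact ⟨(B, A), D.swap_ten A B⟩

theorem R_refl {z : Fin b → F} (hz : D.q2 z ≠ 0) {u : Fin a → Fin a → F} (hu : IsFrame D.q1 u) :
    D.R (refl D.q2 z) = reflList q ((Finset.univ : Finset (Fin a)).toList.map fun i => D.tp (u i) z) := by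
  have h := D.swap.L_refl (z := z) hz (v := u) hu
  refine ((D.swap_L _).symm.trans h).trans ?_
  congr 1
  exact List.map_congr_left fun i _ => D.swap_tp z (u i)


theorem tp_zero_left (v : Fin b → F) : D.tp 0 v = 0 := map_zero (D.tpL v)

theorem tp_zero_right (u : Fin a → F) : D.tp u 0 = 0 := map_zero (D.tpR u)

theorem tp_sub_left (u u' : Fin a → F) (v : Fin b → F) : D.tp (u - u') v = D.tp u v - D.tp u' v :=
  map_sub (D.tpL v) u u'

theorem tp_sub_right (u : Fin a → F) (v v' : Fin b → F) : D.tp u (v - v') = D.tp u v - D.tp u v' :=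
  map_sub (D.tpR u) v v'

/-- Contraction of the second factor with `φ`. -/
noncomputable def C (φ : Fin b → F) : (ι → F) →ₗ[F] (Fin a → F) :=
  (toVec D.good1.nd).comp (LinearMap.compl₂ q.polarBilin (D.tpL φ))

theorem polar_C (φ : Fin b → F) (z : ι → F) (x : Fin a → F) :
    polar D.q1 (D.C φ z) x = polar q z (D.tp x φ) := by
  rw [C, LinearMap.comp_apply, polar_toVec]
  rfl

theorem C_tp (φ : Fin b → F) (x : Fin a → F) (y : Fin b → F) :
    D.C φ (D.tp x y) = polar D.q2 y φ • x :=
  ext_polar D.good1.nd fun x' => by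
    rw [polar_C, polar_tp, polar_smul_left, smul_eq_mul, mul_comm]

/-- The adjoint of a map from the first factor. -/
noncomputable def adj (Θ : (Fin a → F) →ₗ[F] (ι → F)) : (ι → F) →ₗ[F] (Fin a → F) :=
  (toVec D.good1.nd).comp (LinearMap.compl₂ q.polarBilin Θ)

theorem polar_adj (Θ : (Fin a → F) →ₗ[F] (ι → F)) (z : ι → F) (x : Fin a → F) :
    polar D.q1 (D.adj Θ z) x = polar q z (Θ x) := by
  rw [adj, LinearMap.comp_apply, polar_toVec]
  rfl

/-- A group between the stabiliser in `Ω` and `Ω`, different from `Ω`. -/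
structure Over (M : Subgroup (O q)) : Prop where
  le : D.TT ⊓ commutator (O q) ≤ M
  omega : M ≤ commutator (O q)
  proper : ¬ commutator (O q) ≤ M

variable {D} {M : Subgroup (O q)}

theorem Over.le_L (hO : D.Over M) {A : O D.q1} (hA : A ∈ commutator (O D.q1)) : D.L A ∈ M :=
  hO.le ⟨D.L_mem A, D.L_omega hA⟩

theorem Over.le_R (hO : D.Over M) {B : O D.q2} (hB : B ∈ commutator (O D.q2)) : D.R B ∈ M :=
  hO.le ⟨D.R_mem B, D.R_omega hB⟩

theorem Over.swap (hO : D.Over M) : D.swap.Over M :=
  ⟨D.swap_TT.symm ▸ hO.le, hO.omega, hO.proper⟩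

end Data

end CfsgLib.TensorOddMinus
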