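import Cfsg.Agent.Lib.TensorOddMinus.Bad

/-!
Descent on elementary abelian groups of sign maps: a proper overgroup is the stabiliser.
-/

set_option autoImplicit false
set_option linter.unusedSectionVars false

namespace CfsgLib.TensorOddMinus

open Matrix QuadraticMap CfsgLib.Orth
open CfsgLib.TensorOdd (IsFrame blockSign blockSign_app blockSign_mul_self)
open Cfsg.Agent.Spinor57 (sqSign)

/-- A group of exponent two extended by a commuting involution. -/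
theorem exists_adjoin {G : Type*} [Group G] (V : Subgroup G) (hV : ∀ x ∈ V, x * x = 1) {t : G} (ht : t * t = 1)
    (hc : ∀ x ∈ V, t * x = x * t) :
    ∃ W : Subgroup G, V ≤ W ∧ t ∈ W ∧ (∀ x ∈ W, x * x = 1) ∧
      ∀ x ∈ W, ∃ v ∈ V, x = v ∨ x = t * v := by
  have htt : ∀ z : G, t * (t * z) = z := fun z => by rw [← mul_assoc, ht, one_mul]
  refine ⟨{ carrier := {x | ∃ v ∈ V, x = v ∨ x = t * v}
            one_mem' := ⟨1, V.one_mem, Or.inl rfl⟩
            mul_mem' := ?_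
            inv_mem' := ?_ }, fun x hx => ⟨x, hx, Or.inl rfl⟩, ⟨1, V.one_mem, Or.inr (mul_one t).symm⟩, ?_,
    fun x hx => hx⟩
  · rintro x y ⟨v, hv, hx⟩ ⟨w, hw, hy⟩
    refine ⟨v * w, V.mul_mem hv hw, ?_⟩
    rcases hx with hx | hx <;> rcases hy with hy | hy <;> rw [hx, hy]
    · exact Or.inl rfl
    · exact Or.inr (by rw [← mul_assoc v t, ← hc v hv, mul_assoc])
    · exact Or.inr (mul_assoc _ _ _)
    · exact Or.inl (by rw [mul_assoc, ← mul_assoc v t, ← hc v hv, mul_assoc, htt])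
  · rintro x ⟨v, hv, hx⟩
    refine ⟨v⁻¹, V.inv_mem hv, ?_⟩
    rcases hx with hx | hx <;> rw [hx]
    · exact Or.inl rfl
    · exact Or.inr (by rw [_root_.mul_inv_rev, inv_eq_of_mul_eq_one_right ht, hc _ (V.inv_mem hv)])
  · rintro x ⟨v, hv, rfl | rfl⟩
    · exact hV _ hv
    · rw [mul_assoc, ← mul_assoc v t, ← hc v hv, mul_assoc, htt, hV v hv]

/-- Inversion passes to powers. -/
theorem inv_pow_of_invert {G : Type*} [Group G] {t d : G} (ht : t * t = 1) (h : t * d * t = d⁻¹) (n : ℕ) :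
    t * d ^ n * t = (d ^ n)⁻¹ := by
  have e : t⁻¹ = t := inv_eq_of_mul_eq_one_right ht
  have h' : t * d * t⁻¹ = d⁻¹ := by rw [e]; exact h
  rw [← inv_pow, ← h', conj_pow, e]

variable {ι : Type} [Fintype ι] [DecidableEq ι] {F : Type*} [Field F] [Fintype F]

namespace Data

variable {q : QuadraticForm F (ι → F)} {a b : ℕ} {D : Data q a b} {M : Subgroup (O q)}

/-- A trivial product of an even sign map and another isometry. -/
theorem sgn_ten_one (ha : Odd a) {u : Fin a → Fin a → F} (hu : IsFrame D.q1 u) {W : Finset (Fin a)}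
    (hW : Even W.card) {Y : O D.q2} (h : D.ten (blockSign D.q1 u W, Y) = 1) : W = ∅ ∧ Y = 1 := by
  classical
  obtain ⟨y, hy⟩ := exists_anisotropic D.good2.nd (le_trans (by norm_num) D.good2.three)
  have hy0 : y ≠ 0 := fun e => hy (by rw [e, QuadraticMap.map_zero])
  have key : ∀ r z, D.tp (app (blockSign D.q1 u W) (u r)) (app Y z) = D.tp (u r) z := fun r z => by
    rw [← D.ten_tp, h, app_one]
  have hne : W = ∅ := by
    by_contra hne
    obtain ⟨r, hr⟩ := Finset.nonempty_iff_ne_empty.2 hne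
    obtain ⟨r', hr'⟩ : ∃ r', r' ∉ W := by
      by_contra hall
      push Not at hall
      rw [Finset.eq_univ_iff_forall.2 hall, Finset.card_univ, Fintype.card_fin] at hW
      exact Nat.not_even_iff_odd.2 ha hW
    have e1 := key r y
    have e2 := key r' y
    rw [blockSign_app hu, if_pos hr, D.tp_neg_left, ← D.tp_neg_right] at e1
    rw [blockSign_app hu, if_neg hr'] at e2
    have h1 := D.tp_right_cancel (hu.li.ne_zero r) e1
    have h2 := D.tp_right_cancel (hu.li.ne_zero r') e2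
    rw [h2] at h1
    have h3 : (2 : F) • y = 0 := by linear_combination (norm := module) -h1
    exact hy0 ((smul_eq_zero.1 h3).resolve_left D.two)
  subst hne
  refine ⟨rfl, R_injective ?_⟩
  rw [map_one, ← h, CfsgLib.TensorOdd.blockSign_empty hu]
  rfl

theorem ten_fix (ha : Odd a) {A : O D.q1} {B : O D.q2} {u : Fin a → Fin a → F} (hu : IsFrame D.q1 u)
    {v : Fin b → Fin b → F} (hv : IsFrame D.q2 v) {S : Finset (Fin a)} {T : Finset (Fin b)}
    (h : D.ten (A, B) * D.ten (blockSign D.q1 u S, blockSign D.q2 v T) =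
      D.ten (blockSign D.q1 u S, blockSign D.q2 v T) * D.ten (A, B)) :
    A * blockSign D.q1 u S = blockSign D.q1 u S * A ∧ B * blockSign D.q2 v T = blockSign D.q2 v T * B :=
  ten_comm ha h

/-- A column slice mapped into itself. -/
theorem exists_col_slice (Φ : D.Frames) (g : O q) (l : Fin b)
    (h : ∀ (i : Fin a) (c' : Fin a × Fin b), c'.2 ≠ l → polar q (app g (Φ.e i l)) (Φ.e c'.1 c'.2) = 0) :
    ∃ β : O D.q1, ∀ x, app g (D.tp x (Φ.v l)) = D.tp (app β x) (Φ.v l) := by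
  classical
  set G := (2 * D.q2 (Φ.v l))⁻¹ • (D.C (Φ.v l)).comp ((app g).comp (D.tpL (Φ.v l))) with hG
  have key : ∀ x, app g (D.tp x (Φ.v l)) = D.tp (G x) (Φ.v l) := by
    have e : (app g).comp (D.tpL (Φ.v l)) = (D.tpL (Φ.v l)).comp G := Φ.hu.ext_lin fun i => by
      refine Φ.isFrame.ext_vec fun c => ?_
      show polar q (app g (Φ.e i l)) (D.tp (Φ.u c.1) (Φ.v c.2)) =
        polar q (D.tp (G (Φ.u i)) (Φ.v l)) (D.tp (Φ.u c.1) (Φ.v c.2))
      have e1 : polar D.q1 (G (Φ.u i)) (Φ.u c.1) =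
          (2 * D.q2 (Φ.v l))⁻¹ * polar q (app g (Φ.e i l)) (D.tp (Φ.u c.1) (Φ.v l)) := by
        rw [hG, LinearMap.smul_apply, polar_smul_left, smul_eq_mul, LinearMap.comp_apply, polar_C]
        rfl
      rw [D.polar_tp, e1]
      by_cases hc : c.2 = l
      · rw [hc, polar_self']
        have := Φ.hv.nz l
        have := D.two
        field_simp
      · rw [Φ.hv.orth l c.2 (Ne.symm hc), mul_zero]
        exact h i c hc
    exact fun x => LinearMap.congr_fun e x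
  have hinj : Function.Injective G := fun x x' e =>
    D.tp_left_cancel (Φ.hv.li.ne_zero l) (app_injective g (by rw [key, key, e]))
  have hq : ∀ x, D.q1 (G x) = D.q1 x := fun x => by
    have e := Q_app g (D.tp x (Φ.v l))
    rw [key, D.Q_tp, D.Q_tp] at e
    exact mul_left_cancel₀ D.two (mul_right_cancel₀ (Φ.hv.nz l) e)
  refine ⟨CfsgLib.OrthOmega.ofEquiv (LinearEquiv.ofInjectiveEndo G hinj) fun x => hq x, fun x => ?_⟩
  rw [key]
  exact congrArg (fun z => D.tp z (Φ.v l))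
    (CfsgLib.OrthOmega.app_ofEquiv (Q := D.q1) (LinearEquiv.ofInjectiveEndo G hinj) (fun x => hq x) x).symm

section Step

variable (hO : D.Over M) (hR2 : RootGen D.q2) (ha : Odd a) (hb : Even b) (hb4 : 4 ≤ b)
  {V : Subgroup (O q)} (Φ : D.Frames) (hΦ : ∀ x ∈ V, ∃ S T, Even S.card ∧ x = Φ.sgn S T)
  (ih : ∀ t, t ∈ D.TT → t ∈ M → t * t = 1 → t ∉ V → (∀ x ∈ V, t * x = x * t) →
    ∀ g ∈ M, (∀ x ∈ V, g * x = x * g) → g * t = t * g → g ∈ D.TT)
include hO hR2 ha hb hb4 hΦ ih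

omit hR2 ha hb hb4 ih in
theorem sgn_comm_V (S : Finset (Fin a)) (T : Finset (Fin b)) (x : O q) (hx : x ∈ V) :
    Φ.sgn S T * x = x * Φ.sgn S T := by
  obtain ⟨S', T', -, rfl⟩ := hΦ x hx
  exact Φ.sgn_comm _ _ _ _

/-- Fusion. -/
theorem fusion {S : Finset (Fin a)} {T : Finset (Fin b)} (htM : Φ.sgn S T ∈ M) (htV : Φ.sgn S T ∉ V)
    {g : O q} (hg : g ∈ M) (hgV : ∀ x ∈ V, g * x = x * g) (h : g * Φ.sgn S T * g⁻¹ ∈ D.TT) : g ∈ D.TT := by
  have hconj : ∀ {r r' : O q}, r * r' = r' * r → g * r * g⁻¹ * (g * r' * g⁻¹) = g * r' * g⁻¹ * (g * r * g⁻¹) :=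
    fun {r r'} e => by
      calc g * r * g⁻¹ * (g * r' * g⁻¹) = g * (r * r') * g⁻¹ := by group
        _ = g * (r' * r) * g⁻¹ := by rw [e]
        _ = g * r' * g⁻¹ * (g * r * g⁻¹) := by group
  have hfix : ∀ x ∈ V, g * x * g⁻¹ = x := fun x hx => by rw [hgV x hx, mul_inv_cancel_right]
  refine hO.transfer hR2 ha hb hb4 Φ hg fun S' T' hgen => ?_
  refine ih _ h (M.mul_mem (M.mul_mem hg htM) (M.inv_mem hg)) ?_ (fun hV' => htV ?_) (fun x hx => ?_) _
    (M.mul_mem (M.mul_mem hg (Φ.gen_mem hb hO hgen)) (M.inv_mem hg)) (fun x hx => ?_)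
    (hconj (Φ.sgn_comm _ _ _ _))
  · calc g * Φ.sgn S T * g⁻¹ * (g * Φ.sgn S T * g⁻¹) = g * (Φ.sgn S T * Φ.sgn S T) * g⁻¹ := by group
      _ = 1 := by rw [Φ.sgn_mul_self, mul_one, mul_inv_cancel]
  · have e : g * (g * Φ.sgn S T * g⁻¹) = g * Φ.sgn S T * g⁻¹ * g := hgV _ hV'
    rw [inv_mul_cancel_right] at e
    rw [mul_left_cancel e.symm]
    exact hV'
  · have := hconj (sgn_comm_V hO Φ hΦ S T x hx)
    rwa [hfix x hx] at this
  · have := hconj (sgn_comm_V hO Φ hΦ S' T' x hx)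
    rwa [hfix x hx] at this

/-- A two-element inverted by a sign map lies in the stabiliser. -/
theorem two_part {S : Finset (Fin a)} {T : Finset (Fin b)} (htM : Φ.sgn S T ∈ M) (htV : Φ.sgn S T ∉ V) :
    ∀ (k : ℕ) {x : O q}, x ∈ M → (∀ v ∈ V, x * v = v * x) → Φ.sgn S T * x * Φ.sgn S T = x⁻¹ →
      x ^ 2 ^ k = 1 → x ∈ D.TT := by
  intro k
  induction k with
  | zero => intro x _ _ _ h; rw [pow_zero, pow_one] at h; rw [h]; exact one_mem _
  | succ k ihk =>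
    intro x hx hxV hinv hpow
    have hsq : x * x ∈ D.TT := by
      refine ihk (M.mul_mem hx hx) (fun v hv => by rw [mul_assoc, hxV v hv, ← mul_assoc, hxV v hv, mul_assoc]) ?_ ?_
      · have := inv_pow_of_invert (Φ.sgn_mul_self S T) hinv 2
        rwa [pow_two] at this
      · rw [← pow_two, ← pow_mul, ← pow_succ']; exact hpow
    refine fusion hO hR2 ha hb hb4 Φ hΦ ih htM htV hx hxV ?_
    have e : Φ.sgn S T * x⁻¹ = x * Φ.sgn S T := by
      rw [← hinv, ← mul_assoc, ← mul_assoc, Φ.sgn_mul_self, one_mul]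
    rw [mul_assoc, e, ← mul_assoc]
    exact D.TT.mul_mem hsq (Φ.sgn_mem_TT S T)

/-- An element of the stabiliser relating two sign maps. -/
theorem step {S S' : Finset (Fin a)} {T T' : Finset (Fin b)} (htM : Φ.sgn S T ∈ M) (htV : Φ.sgn S T ∉ V)
    (hsM : Φ.sgn S' T' ∈ M) (hsV : Φ.sgn S' T' ∉ V) {g : O q} (hg : g ∈ M) (hgV : ∀ x ∈ V, g * x = x * g) :
    ∃ (d : O q) (j m : ℕ), Odd m ∧ d ∈ M ∧ (∀ x ∈ V, d * x = x * d) ∧ g * Φ.sgn S' T' * g⁻¹ = Φ.sgn S T * d ∧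
      d ^ j * g ∈ D.TT ∧ (d ^ j * g) * Φ.sgn S' T' * (d ^ j * g)⁻¹ = Φ.sgn S T * (d ^ m)⁻¹ := by
  set t := Φ.sgn S T with ht
  set s' := g * Φ.sgn S' T' * g⁻¹ with hs'
  have ht2 : t * t = 1 := Φ.sgn_mul_self S T
  have hs2 : s' * s' = 1 := by
    calc s' * s' = g * (Φ.sgn S' T' * Φ.sgn S' T') * g⁻¹ := by rw [hs']; group
      _ = 1 := by rw [Φ.sgn_mul_self, mul_one, mul_inv_cancel]
  set d := t * s' with hd
  have hdM : d ∈ M := M.mul_mem htM (M.mul_mem (M.mul_mem hg hsM) (M.inv_mem hg))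
  have hdV : ∀ x ∈ V, d * x = x * d := fun x hx => by
    have h1 : s' * x = x * s' := by
      calc s' * x = g * Φ.sgn S' T' * (g⁻¹ * (x * g)) * g⁻¹ := by rw [hs']; group
        _ = g * (Φ.sgn S' T' * x) * g⁻¹ := by rw [← hgV x hx, inv_mul_cancel_left, mul_assoc g]
        _ = g * x * (Φ.sgn S' T' * g⁻¹) := by rw [sgn_comm_V hO Φ hΦ S' T' x hx]; group
        _ = x * s' := by rw [hgV x hx, hs']; group
    rw [hd, mul_assoc, h1, ← mul_assoc, ht, sgn_comm_V hO Φ hΦ S T x hx, mul_assoc]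
  have hpowV : ∀ (n : ℕ), ∀ x ∈ V, d ^ n * x = x * d ^ n := fun n x hx =>
    (Commute.pow_left (hdV x hx) n).eq
  have hinv : t * d * t = d⁻¹ := by
    rw [hd, _root_.mul_inv_rev, inv_eq_of_mul_eq_one_right hs2, inv_eq_of_mul_eq_one_right ht2, ← mul_assoc t,
      ht2, one_mul]
  obtain ⟨k, m, hm, hkm⟩ := Nat.exists_eq_two_pow_mul_odd (orderOf_pos d).ne'
  have hd0 : (d ^ m)⁻¹ ∈ D.TT := by
    refine two_part hO hR2 ha hb hb4 Φ hΦ ih htM htV k (M.inv_mem (M.pow_mem hdM m))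
      (fun x hx => (Commute.inv_left (hpowV m x hx)).eq) ?_ ?_
    · rw [inv_inv, ← inv_pow]
      have hinv' : t * d⁻¹ * t = (d⁻¹)⁻¹ := by
        rw [inv_inv, ← hinv, ← mul_assoc, ← mul_assoc, ht2, one_mul, mul_assoc, ht2, mul_one]
      have := inv_pow_of_invert ht2 hinv' m
      rwa [inv_pow, inv_inv, ← inv_pow] at this
    · rw [inv_pow, ← pow_mul, mul_comm, ← hkm, pow_orderOf_eq_one, inv_one]
  obtain ⟨r, hr⟩ := hm
  have key : d ^ (r + 1) * g * Φ.sgn S' T' * (d ^ (r + 1) * g)⁻¹ = t * (d ^ m)⁻¹ := by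
    have h1 : d ^ (r + 1) * t = t * (d ^ (r + 1))⁻¹ := by
      rw [← inv_pow_of_invert ht2 hinv (r + 1), ← mul_assoc, ← mul_assoc, ht2, one_mul]
    calc d ^ (r + 1) * g * Φ.sgn S' T' * (d ^ (r + 1) * g)⁻¹
        = d ^ (r + 1) * t * (t * s') * (d ^ (r + 1))⁻¹ := by
          rw [mul_assoc (d ^ (r + 1)) t, ← mul_assoc t t s', ht2, one_mul, hs']
          group
      _ = t * ((d ^ (r + 1))⁻¹ * d * (d ^ (r + 1))⁻¹) := by rw [h1, ← hd]; group
      _ = t * (d ^ m)⁻¹ := by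
          congr 1
          rw [hr]
          group
  refine ⟨d, r + 1, m, ⟨r, hr⟩, hdM, hdV, ?_, ?_, key⟩
  · rw [hd, ← mul_assoc, ht2, one_mul]
  refine fusion hO hR2 ha hb hb4 Φ hΦ ih hsM hsV (M.mul_mem (M.pow_mem hdM _) hg) (fun x hx => ?_) ?_
  · rw [mul_assoc, hgV x hx, ← mul_assoc, hpowV _ x hx, mul_assoc]
  · rw [key]
    exact D.TT.mul_mem (Φ.sgn_mem_TT S T) hd0

end Step

/-- The descent. -/
theorem Over.key (hO : D.Over M) (hR1 : RootGen D.q1) (hR2 : RootGen D.q2) (ha : Odd a) (hb : Even b)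
    (hb4 : 4 ≤ b) (h45 : b = 4 → 5 ≤ a) (V : Subgroup (O q)) (hVT : V ≤ D.TT) (hVM : V ≤ M)
    (h2 : ∀ x ∈ V, x * x = 1) {g : O q} (hg : g ∈ M) (hgV : ∀ x ∈ V, g * x = x * g) : g ∈ D.TT := by
  classical
  suffices H : ∀ n (V : Subgroup (O q)), Nat.card (O q) - Nat.card V = n → V ≤ D.TT → V ≤ M →
      (∀ x ∈ V, x * x = 1) → ∀ g ∈ M, (∀ x ∈ V, g * x = x * g) → g ∈ D.TT from
    H _ V rfl hVT hVM h2 g hg hgV
  intro n
  induction n using Nat.strong_induction_on with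
  | _ n ihn =>
  intro V hn hVT hVM h2 g hg hgV
  obtain ⟨Φ, hΦ⟩ := exists_frames ha hb hb4 hVT (hVM.trans hO.omega) h2
  have ih : ∀ t, t ∈ D.TT → t ∈ M → t * t = 1 → t ∉ V → (∀ x ∈ V, t * x = x * t) →
      ∀ g ∈ M, (∀ x ∈ V, g * x = x * g) → g * t = t * g → g ∈ D.TT := by
    intro t htT htM ht2 htV htc g' hg' hgV' hgt
    obtain ⟨W, hVW, htW, hW2, hWel⟩ := exists_adjoin V h2 ht2 htc
    have hlt : Nat.card V < Nat.card W := by
      refine lt_of_le_of_ne (Subgroup.card_le_of_le hVW) fun e => htV ?_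
      rw [Subgroup.eq_of_le_of_card_ge hVW e.ge]
      exact htW
    have hle : Nat.card W ≤ Nat.card (O q) := Subgroup.card_le_card_group W
    refine ihn _ (by omega) W rfl ?_ ?_ hW2 g' hg' ?_
    · intro x hx
      obtain ⟨v, hv, rfl | rfl⟩ := hWel x hx
      exacts [hVT hv, D.TT.mul_mem htT (hVT hv)]
    · intro x hx
      obtain ⟨v, hv, rfl | rfl⟩ := hWel x hx
      exacts [hVM hv, M.mul_mem htM (hVM hv)]
    · intro x hx
      obtain ⟨v, hv, rfl | rfl⟩ := hWel x hx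
      · exact hgV' _ hv
      · rw [← mul_assoc, hgt, mul_assoc, hgV' v hv, ← mul_assoc]
  by_cases hP : ∀ i k, i ≠ k → Φ.sgn {i, k} ∅ ∈ V
  · refine hO.slices_mem hR2 ha Φ Φ hg (Equiv.refl _) fun c c' hne => ?_
    by_contra hk
    obtain ⟨k, hk1, hk2⟩ := exists_third D.three_a c.1 c'.1
    have := Φ.flag_of_comm Φ (hgV _ (hP c.1 k (Ne.symm hk1))) hk
    simp only [mem_supp_left, Finset.mem_insert, Finset.mem_singleton, true_or, true_iff] at this
    rcases this with e | e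
    · exact hne e
    · exact hk2 e.symm
  by_cases hC : ∀ l m, l ≠ m → sqSign (D.q2 (Φ.v l)) = sqSign (D.q2 (Φ.v m)) → Φ.sgn ∅ {l, m} ∈ V
  · have hcol : ∀ l, ∃ β : O D.q1, ∀ x, app g (D.tp x (Φ.v l)) = D.tp (app β x) (Φ.v l) := fun l =>
      exists_col_slice Φ g l fun i c' hne => by
        by_contra hk
        obtain ⟨p, n', hpn, hc, hcase⟩ := Φ.exists_sep hb4 (Ne.symm hne)
        have := Φ.flag_of_comm Φ (c := (i, l)) (hgV _ (hC p n' hpn hc)) hk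
        simp only [mem_supp_right, Finset.mem_insert, Finset.mem_singleton] at this
        rcases hcase with ⟨e, hne'⟩ | ⟨e, hne'⟩
        · rcases this.1 (Or.inl e.symm) with h | h
          · exact hne (h.trans e)
          · exact hne' h.symm
        · rcases this.2 (Or.inl e.symm) with h | h
          · exact hne (e.symm.trans h.symm)
          · exact hne' h.symm
    choose β hβ using hcol
    have h := hO.swap.rows_mem (D := D.swap) hR1 Φ.hv hg (β := β) fun l x => by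
      rw [D.swap_tp, hβ l x]; exact (D.swap_tp _ _).symm
    rwa [D.swap_TT] at h
  push Not at hP hC
  have hgenM : ∀ {S T}, Φ.Gen S T → Φ.sgn S T ∈ M := fun h => Φ.gen_mem hb hO h
  by_cases hprod : ∃ i k l m, i ≠ k ∧ Φ.sgn {i, k} ∅ ∉ V ∧ l ≠ m ∧
      sqSign (D.q2 (Φ.v l)) = sqSign (D.q2 (Φ.v m)) ∧ Φ.sgn ∅ {l, m} ∉ V ∧
      Φ.sgn {i, k} ∅ * Φ.sgn ∅ {l, m} ∉ V
  · obtain ⟨i, k, l, m, hik, hpV, hlm, hc, hcV, hpc⟩ := hprod
    have htM := hgenM (Or.inl ⟨i, k, hik, rfl, rfl⟩ : Φ.Gen {i, k} ∅)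
    have hsM := hgenM (Or.inr ⟨l, m, hlm, hc, rfl, rfl⟩ : Φ.Gen ∅ {l, m})
    obtain ⟨d, j, mo, -, hdM, hdV, hs', hgT, hkey⟩ := step hO hR2 ha hb hb4 Φ hΦ ih htM hpV hsM hcV hg hgV
    set g' := d ^ j * g with hg'
    set d0 := (d ^ mo)⁻¹ with hd0
    obtain ⟨A, B, hAB⟩ := D.mem_TT.1 hgT
    set Y := B * blockSign D.q2 Φ.v {l, m} * B⁻¹ with hY
    have himg : g' * Φ.sgn ∅ {l, m} * g'⁻¹ = D.R Y := by
      rw [hAB, Φ.sgn_right, D.ten_eq, hY, map_mul, map_mul, map_inv, _root_.mul_inv_rev]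
      calc D.L A * D.R B * D.R (blockSign D.q2 Φ.v {l, m}) * ((D.R B)⁻¹ * (D.L A)⁻¹)
          = D.L A * D.R (B * blockSign D.q2 Φ.v {l, m} * B⁻¹) * (D.L A)⁻¹ := by
            rw [map_mul, map_mul, map_inv]; group
        _ = D.R (B * blockSign D.q2 Φ.v {l, m} * B⁻¹) := by rw [D.L_R_comm, mul_inv_cancel_right]
        _ = _ := by rw [map_mul, map_mul, map_inv]
    have hd0eq : d0 = D.ten (blockSign D.q1 Φ.u {i, k}, Y) := by
      have e := hkey.symm.trans himg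
      calc d0 = Φ.sgn {i, k} ∅ * (Φ.sgn {i, k} ∅ * d0) := by rw [← mul_assoc, Φ.sgn_mul_self, one_mul]
        _ = _ := by rw [e, Φ.sgn_left, ← D.ten_eq]
    have hd0M : d0 ∈ M := M.inv_mem (M.pow_mem hdM mo)
    have hd0V : ∀ x ∈ V, d0 * x = x * d0 := fun x hx => (Commute.inv_left (Commute.pow_left (hdV x hx) mo)).eq
    by_cases hd0in : d0 ∈ V
    · exfalso
      apply hpc
      obtain ⟨S', T', hS', e⟩ := hΦ d0 hd0in
      have hcomm : g' * d0 = d0 * g' := by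
        rw [hg', mul_assoc, hgV d0 hd0in, ← mul_assoc, (Commute.pow_left (hdV d0 hd0in) j).eq, mul_assoc]
      rw [e, hAB, Frames.sgn] at hcomm
      obtain ⟨-, hB⟩ := ten_comm ha hcomm
      have h1 : D.ten (blockSign D.q1 Φ.u (symmDiff S' {i, k}), blockSign D.q2 Φ.v T' * Y) = 1 := by
        rw [← blockSign_symmDiff Φ.hu, ← Prod.mk_mul_mk, map_mul, ← hd0eq, show D.ten (blockSign D.q1 Φ.u S',
          blockSign D.q2 Φ.v T') = d0 from e.symm, h2 d0 hd0in]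
      have hev : Even (symmDiff S' {i, k}).card := by
        have e1 := Finset.card_sdiff_add_card_inter S' {i, k}
        have e2 := Finset.card_sdiff_add_card_inter ({i, k} : Finset (Fin a)) S'
        rw [Finset.inter_comm {i, k} S', Finset.card_pair hik] at e2
        rw [symmDiff_def, Finset.sup_eq_union, Finset.card_union_of_disjoint disjoint_sdiff_sdiff]
        obtain ⟨r, hr⟩ := hS'
        rw [Nat.even_iff]
        omega
      obtain ⟨hW, hYT⟩ := sgn_ten_one ha Φ.hu hev h1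
      have hS : S' = {i, k} := symmDiff_eq_bot.1 hW
      have hYeq : blockSign D.q2 Φ.v {l, m} = blockSign D.q2 Φ.v T' := by
        have e1 : Y = blockSign D.q2 Φ.v T' := by
          have := congrArg (blockSign D.q2 Φ.v T' * ·) hYT
          simp only [← mul_assoc, blockSign_mul_self Φ.hv, one_mul, mul_one] at this
          exact this
        calc blockSign D.q2 Φ.v {l, m} = B⁻¹ * Y * B := by rw [hY]; group
          _ = B⁻¹ * (B * blockSign D.q2 Φ.v T') := by rw [e1, mul_assoc, hB]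
          _ = blockSign D.q2 Φ.v T' := inv_mul_cancel_left _ _
      have : Φ.sgn {i, k} ∅ * Φ.sgn ∅ {l, m} = d0 := by
        rw [e, Φ.sgn_left, Φ.sgn_right, hYeq, ← D.ten_eq, hS]
        rfl
      rw [this]; exact hd0in
    have hd0sq : d0 * d0 = 1 := by
      rw [hd0eq, ← map_mul, Prod.mk_mul_mk, blockSign_mul_self Φ.hu, hY]
      rw [show B * blockSign D.q2 Φ.v {l, m} * B⁻¹ * (B * blockSign D.q2 Φ.v {l, m} * B⁻¹) =
        B * (blockSign D.q2 Φ.v {l, m} * blockSign D.q2 Φ.v {l, m}) * B⁻¹ by group, blockSign_mul_self Φ.hv,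
        mul_one, mul_inv_cancel, Prod.mk_one_one, map_one]
    have hd0T : d0 ∈ D.TT := hd0eq ▸ D.mem_TT.2 ⟨_, _, rfl⟩
    have hcT : Φ.sgn {i, k} ∅ * d0 = d0 * Φ.sgn {i, k} ∅ := by
      rw [hd0eq, D.ten_eq, Φ.sgn_left, ← mul_assoc, ← map_mul, blockSign_mul_self Φ.hu, map_one, one_mul,
        mul_assoc, ← D.L_R_comm, ← mul_assoc, ← map_mul, blockSign_mul_self Φ.hu, map_one, one_mul]
    have hs'T : g * Φ.sgn ∅ {l, m} * g⁻¹ ∈ D.TT := by
      refine ih d0 hd0T hd0M hd0sq hd0in hd0V _ (M.mul_mem (M.mul_mem hg hsM) (M.inv_mem hg)) (fun x hx => ?_) ?_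
      · rw [hs', mul_assoc, hdV x hx, ← mul_assoc, sgn_comm_V hO Φ hΦ _ _ x hx, mul_assoc]
      · rw [hs', mul_assoc, hd0, ((Commute.refl d).pow_right mo).inv_right.eq, ← mul_assoc, ← hd0, hcT,
          mul_assoc]
    exact fusion hO hR2 ha hb hb4 Φ hΦ ih hsM hcV hg hgV hs'T
  push Not at hprod
  obtain ⟨i₀, k₀, hik₀, hp₀⟩ := hP
  obtain ⟨l₀, m₀, hlm₀, hc₀, hcV₀⟩ := hC
  have hpc₀ := hprod i₀ k₀ l₀ m₀ hik₀ hp₀ hlm₀ hc₀ hcV₀
  have htM := hgenM (Or.inl ⟨i₀, k₀, hik₀, rfl, rfl⟩ : Φ.Gen {i₀, k₀} ∅)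
  obtain ⟨d, j, mo, hmo, hdM, hdV, -, hgT, hkey⟩ := step hO hR2 ha hb hb4 Φ hΦ ih htM hp₀ htM hp₀ hg hgV
  obtain ⟨A, B, hAB⟩ := D.mem_TT.1 hgT
  have hyV : ∀ x ∈ V, d ^ j * x = x * d ^ j := fun x hx => (Commute.pow_left (hdV x hx) j).eq
  have hdm : d ^ mo = 1 := by
    have hcomm : d ^ j * g * (Φ.sgn {i₀, k₀} ∅ * Φ.sgn ∅ {l₀, m₀}) =
        Φ.sgn {i₀, k₀} ∅ * Φ.sgn ∅ {l₀, m₀} * (d ^ j * g) := by
      rw [mul_assoc (d ^ j), hgV _ hpc₀, ← mul_assoc (d ^ j), hyV _ hpc₀, mul_assoc]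
    rw [hAB, Φ.sgn_left, Φ.sgn_right, ← D.ten_eq] at hcomm
    obtain ⟨hA, -⟩ := ten_comm ha hcomm
    rw [hAB, Φ.sgn_left] at hkey
    have e : D.ten (A, B) * D.L (blockSign D.q1 Φ.u {i₀, k₀}) * (D.ten (A, B))⁻¹ =
        D.L (blockSign D.q1 Φ.u {i₀, k₀}) := by
      rw [mul_inv_eq_iff_eq_mul]
      show D.ten (A, B) * D.ten (blockSign D.q1 Φ.u {i₀, k₀}, 1) = D.ten (_, 1) * _
      rw [← map_mul, ← map_mul, Prod.mk_mul_mk, Prod.mk_mul_mk, hA, mul_one, one_mul]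
    rw [e] at hkey
    exact inv_eq_one.1 (mul_eq_left.1 hkey.symm)
  have hodd : Odd (orderOf (d ^ j)) :=
    hmo.of_dvd_nat ((orderOf_pow_dvd j).trans (orderOf_dvd_of_pow_eq_one hdm))
  have hd1 : d ^ j = 1 := hO.bad ha hb hb4 h45 Φ (M.pow_mem hdM j) hodd (S₀ := {i₀, k₀})
    (fun S T hST => by
      by_cases hr : Φ.sgn S T ∈ V
      · exact Or.inl (hyV _ hr)
      refine Or.inr (hyV _ ?_)
      rcases hST with ⟨i, k, hik, rfl, rfl⟩ | ⟨l, m, hlm, hc, rfl, rfl⟩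
      · have h1 := V.mul_mem (hprod i k l₀ m₀ hik hr hlm₀ hc₀ hcV₀) hpc₀
        rwa [Φ.sgn_comm {i₀, k₀} ∅ ∅ {l₀, m₀}, ← mul_assoc, mul_assoc (Φ.sgn {i, k} ∅), Φ.sgn_mul_self,
          mul_one] at h1
      · rw [Φ.sgn_comm]; exact hprod i₀ k₀ l m hik₀ hp₀ hlm hc hr)
    (Or.inr ⟨l₀, m₀, hlm₀, hc₀, rfl, rfl⟩) (hyV _ (by rw [Φ.sgn_comm]; exact hpc₀))
  rwa [hd1, one_mul] at hgT

/-- A proper overgroup lies in the stabiliser. -/
theorem Over.le_TT (hO : D.Over M) (hR1 : RootGen D.q1) (hR2 : RootGen D.q2) (ha : Odd a) (hb : Even b)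
    (hb4 : 4 ≤ b) (h45 : b = 4 → 5 ≤ a) : M ≤ D.TT := fun g hg =>
  hO.key hR1 hR2 ha hb hb4 h45 ⊥ bot_le bot_le (fun x hx => by rw [Subgroup.mem_bot.1 hx, mul_one]) hg
    (fun x hx => by rw [Subgroup.mem_bot.1 hx, mul_one, one_mul])

end Data

end CfsgLib.TensorOddMinus
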