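import Cfsg.Agent.Lib.TensorOddMinus.Rows

/-!
A subgroup normalised by `Ω` with a non-scalar member contains every root element, in every dimension from
three on (three over at least five elements, four of minus type).
-/

set_option autoImplicit false
set_option linter.unusedSectionVars false

namespace CfsgLib.TensorOddMinus

open Matrix QuadraticMap CfsgLib.Orth
open CfsgLib.TensorMax63 (Hyp mid mem_mid exists_hyp exists_aniso)
open CfsgLib.POmega (eich_smul eich_add_smul eich_neg_inv eich_zero_right)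

variable {ι : Type} [Fintype ι] [DecidableEq ι] {F : Type*} [Field F] [Fintype F] {Q : QuadraticForm F (ι → F)}
  {N : Subgroup (O Q)}

theorem IsScalar.eq_smul (hg : Good Q) {g : O Q} (h : IsScalar g) :
    ∃ s : F, s ≠ 0 ∧ ∀ x, app g x = s • x := by
  obtain ⟨t, ht, hx⟩ := h.sign hg
  exact ⟨t, fun e => by simp [e] at ht, hx⟩

/-- A singular vector off a hyperplane as the image of the partner. -/
theorem exists_opposite {w u z : ι → F} (P : Hyp Q w u) (hz : Q z = 0) (hwz : polar Q w z = 1) :
    ∃ a ∈ mid Q w u, app (eich Q w a) u = z := by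
  refine ⟨z - polar Q u z • w - polar Q w z • u, P.proj_mem z, ?_⟩
  set a := z - polar Q u z • w - polar Q w z • u with ha
  have hwa : polar Q w a = 0 := (mem_mid.1 (P.proj_mem z)).1
  have hua : polar Q u a = 0 := (mem_mid.1 (P.proj_mem z)).2
  have hqa : Q a = -polar Q u z := by
    have e : Q (a + (polar Q u z • w + u)) = 0 := by
      rw [show a + (polar Q u z • w + u) = z by rw [ha, hwz, one_smul]; abel, hz]
    simp only [QuadraticMap.map_add ⇑Q, QuadraticMap.map_smul, polar_add_right, polar_smul_right,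
      polar_smul_left, P.q₁, P.q₂, P.pair, polar_comm (f := ⇑Q) a w, polar_comm (f := ⇑Q) a u, hwa, hua,
      smul_eq_mul] at e
    linear_combination e
  rw [app_eich P.q₁ hwa, P.pair', hua, hqa, ha, hwz]
  module

theorem app_eich_mid {w u a : ι → F} (P : Hyp Q w u) (ha : a ∈ mid Q w u) :
    app (eich Q w a) w = w ∧ app (eich Q w a) u = u + a + (-Q a) • w ∧
      ∀ m ∈ mid Q w u, app (eich Q w a) m = m + (-polar Q m a) • w := by
  obtain ⟨h1, h2⟩ := mem_mid.1 ha
  refine ⟨?_, ?_, fun m hm => ?_⟩
  · rw [app_eich P.q₁ h1, P.self₁, h1]; simp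
  · rw [app_eich P.q₁ h1, P.pair', h2]; simp
  · rw [app_eich P.q₁ h1, polar_comm (f := ⇑Q) m w, (mem_mid.1 hm).1]; simp

variable (hg : Good Q) (hN : N ≤ commutator (O Q))
  (hconj : ∀ g ∈ commutator (O Q), ∀ n ∈ N, g * n * g⁻¹ ∈ N)

include hg hconj in
/-- An element moving a singular line to an orthogonal one gives one fixing a line. -/
theorem exists_fix_orth {n : O Q} (hn : n ∈ N) {w : ι → F} (hw : Q w = 0) (hw0 : w ≠ 0)
    (ho : polar Q w (app n w) = 0) (hne : ∀ t : F, app n w ≠ t • w) :
    ∃ k ∈ N, ¬ IsScalar k ∧ app k w = w := by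
  obtain ⟨w', P⟩ := exists_hyp hg.nd hw hw0
  set r := app n w - polar Q w' (app n w) • w with hr
  have hrm : r ∈ mid Q w w' := by
    have := P.proj_mem (app n w)
    rwa [ho, zero_smul, sub_zero] at this
  have hr0 : r ≠ 0 := fun e => hne _ (sub_eq_zero.1 e)
  have hqr : Q r = 0 := by
    rw [hr, sub_eq_add_neg, QuadraticMap.map_add ⇑Q, QuadraticMap.map_neg, QuadraticMap.map_smul,
      polar_neg_right, polar_smul_right, Q_app, hw, polar_comm (f := ⇑Q) (app n w) w, ho]
    simp
  have hd : 3 ≤ Module.finrank F (mid Q w w') := (mid_cases hg P).resolve_left fun h => hr0 (h r hrm hqr)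
  obtain ⟨c, hc, hqc, hrc⟩ := exists_perp hg P (by omega) hrm
  obtain ⟨hwc, -⟩ := mem_mid.1 hc
  have htc : polar Q (app n w) c = 0 := by
    rw [show app n w = r + polar Q w' (app n w) • w by rw [hr, sub_add_cancel], polar_add_left, polar_smul_left,
      hrc, hwc, smul_zero, add_zero]
  set x := eich Q w c with hx
  have hxw : app x w = w := by rw [hx, app_eich hw hwc, P.self₁, hwc]; simp
  have hxt : app x (app n w) = app n w := by
    rw [hx, app_eich hw hwc, polar_comm (f := ⇑Q) (app n w) w, ho, htc]; simp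
  refine ⟨n⁻¹ * (x * n * x⁻¹), N.mul_mem (N.inv_mem hn) (hconj _ (eich_mem hg hw hwc) n hn), fun hs => ?_, ?_⟩
  · obtain ⟨s, hs0, hsx⟩ := hs.eq_smul hg
    obtain ⟨t, ht⟩ := line_of_semi hg hw hw0 hwc hqc (app n) (app_injective n) (σ := s⁻¹) fun z => by
      have e := hsx (app x z)
      simp only [app_mul, app_inv_app] at e
      have e' := congrArg (app n) e
      rw [app_app_inv, map_smul] at e'
      rw [← hx, e', inv_smul_smul₀ hs0]
    exact hne t ht
  · have e : app x⁻¹ w = w := app_injective x (by rw [app_app_inv, hxw])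
    rw [app_mul, app_mul, app_mul, e, hxt, app_inv_app]

include hg hconj in
/-- Some element which is not a scalar fixes a singular line. -/
theorem exists_fix_line {n₀ : O Q} (hn₀ : n₀ ∈ N) (hns : ¬ IsScalar n₀) :
    ∃ k ∈ N, ¬ IsScalar k ∧ ∃ w, Q w = 0 ∧ w ≠ 0 ∧ ∃ t : F, app k w = t • w := by
  obtain ⟨w, hw, hw0, hne⟩ : ∃ w, Q w = 0 ∧ w ≠ 0 ∧ ∀ t : F, app n₀ w ≠ t • w := by
    by_contra hcon
    push Not at hcon
    exact hns (scalar_of_lines hg (app n₀) hcon)
  by_contra hfix
  push Not at hfix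
  -- elements fixing a line are scalar
  have hsc : ∀ {k}, k ∈ N → ∀ {v}, Q v = 0 → v ≠ 0 → ∀ t : F, app k v = t • v → IsScalar k :=
    fun {k} hk {v} hv hv0 t ht => by_contra fun h => hfix k hk h v hv hv0 t ht
  have hnon : ∀ {m}, m ∈ N → ∀ {v}, Q v = 0 → v ≠ 0 → ¬ IsScalar m → polar Q v (app m v) ≠ 0 := by
    intro m hm v hv hv0 hms ho
    obtain ⟨k, hk, hks, hkv⟩ := exists_fix_orth hg hconj hm hv hv0 ho fun t ht => hms (hsc hm hv hv0 t ht)
    exact hks (hsc hk hv hv0 1 (by rw [hkv, one_smul]))
  set α := polar Q w (app n₀ w) with hα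
  have hα0 : α ≠ 0 := hnon hn₀ hw hw0 hns
  set u := α⁻¹ • app n₀ w with hu
  have hnw : app n₀ w = α • u := by rw [hu, smul_inv_smul₀ hα0]
  have P : Hyp Q w u := ⟨hw, by rw [hu, QuadraticMap.map_smul, Q_app, hw, smul_zero], by
    rw [hu, polar_smul_right, smul_eq_mul, ← hα, inv_mul_cancel₀ hα0]⟩
  have hu0 : u ≠ 0 := fun e => by
    have := P.pair
    rw [e, polar_zero_right] at this
    exact zero_ne_one this
  -- the middle space has no singular vectors
  have han : ∀ r ∈ mid Q w u, Q r = 0 → r = 0 := by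
    intro r hr hqr
    by_contra hr0
    obtain ⟨e1, e2, -⟩ := app_eich_mid P hr
    rw [hqr, neg_zero, zero_smul, add_zero] at e2
    set e := eich Q w r with he
    obtain ⟨h1, h2⟩ := mem_mid.1 hr
    have hm : e * n₀ * e⁻¹ * n₀⁻¹ ∈ N := N.mul_mem (hconj e (eich_mem hg hw h1) n₀ hn₀) (N.inv_mem hn₀)
    have hew : app e⁻¹ w = w := app_injective e (by rw [app_app_inv, e1])
    have hnu : app n₀⁻¹ u = α⁻¹ • w := app_injective n₀ (by
      rw [app_app_inv, map_smul, hnw, inv_smul_smul₀ hα0])
    have hv : app (e * n₀ * e⁻¹ * n₀⁻¹) u = u + r := by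
      rw [app_mul, hnu, map_smul, app_mul, app_mul, hew, hnw, map_smul, inv_smul_smul₀ hα0, e2]
    refine hnon hm P.q₂ hu0 (fun hs => ?_) ?_
    · obtain ⟨s, -, hsx⟩ := hs.eq_smul hg
      rw [hsx u] at hv
      have e := congrArg (polar Q w) hv
      rw [polar_add_right, h1, polar_smul_right, P.pair, add_zero, smul_eq_mul, mul_one] at e
      rw [e, one_smul] at hv
      exact hr0 (left_eq_add.1 hv)
    · rw [hv, polar_add_right, P.self₂, h2, add_zero]
  -- squares are scalar
  have hsq : ∀ {m}, m ∈ N → IsScalar (m * m) ∧ ∀ {v : ι → F} {β : F},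
      Q v = 0 → app m w = β • v → polar Q w v = 1 → app m v = β⁻¹ • w := by
    intro m hm
    by_cases hms : IsScalar m
    · refine ⟨hms.mul hms, fun {v β} hv hmw hwv => ?_⟩
      obtain ⟨s, hs0, hsx⟩ := hms.eq_smul hg
      have := congrArg (polar Q w) hmw
      rw [hsx, polar_smul_right, polar_smul_right, P.self₁, hwv, smul_zero, smul_eq_mul, mul_one] at this
      rw [← this, zero_smul, hsx] at hmw
      exact absurd ((smul_eq_zero.1 hmw).resolve_left hs0) hw0
    set β := polar Q w (app m w) with hβ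
    have hβ0 : β ≠ 0 := hnon hm hw hw0 hms
    set v := β⁻¹ • app m w with hv
    have hmw : app m w = β • v := by rw [hv, smul_inv_smul₀ hβ0]
    have P' : Hyp Q w v := ⟨hw, by rw [hv, QuadraticMap.map_smul, Q_app, hw, smul_zero], by
      rw [hv, polar_smul_right, smul_eq_mul, ← hβ, inv_mul_cancel₀ hβ0]⟩
    have hγ : polar Q w (app m⁻¹ w) ≠ 0 := by
      rw [← polar_app m, app_app_inv, polar_comm]; exact hβ0
    obtain ⟨a, ha, hea⟩ := exists_opposite P' (z := (polar Q w (app m⁻¹ w))⁻¹ • app m⁻¹ w)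
      (by rw [QuadraticMap.map_smul, Q_app, hw, smul_zero])
      (by rw [polar_smul_right, smul_eq_mul, inv_mul_cancel₀ hγ])
    obtain ⟨hwa, -⟩ := mem_mid.1 ha
    set e := eich Q w a with he
    have hew : app e w = w := (app_eich_mid P' ha).1
    have hew' : app e⁻¹ w = w := app_injective e (by rw [app_app_inv, hew])
    have hconjw : app (e * m * e⁻¹) w = (β * (polar Q w (app m⁻¹ w))⁻¹) • app m⁻¹ w := by
      rw [app_mul, app_mul, hew', hmw, map_smul, hea, smul_smul]
    have hprod : IsScalar (m * (e * m * e⁻¹)) :=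
      hsc (N.mul_mem hm (hconj e (eich_mem hg hw hwa) m hm)) hw hw0 (β * (polar Q w (app m⁻¹ w))⁻¹) (by
        rw [app_mul, hconjw, map_smul, app_app_inv])
    have h2 : e * e * m * (e * e)⁻¹ = m := by
      have key : e * m * e⁻¹ = m⁻¹ * (m * (e * m * e⁻¹)) := (inv_mul_cancel_left _ _).symm
      calc e * e * m * (e * e)⁻¹ = e * (e * m * e⁻¹) * e⁻¹ := by group
        _ = e * (m⁻¹ * (m * (e * m * e⁻¹))) * e⁻¹ := by rw [← key]
        _ = e * m⁻¹ * e⁻¹ * (e * (m * (e * m * e⁻¹)) * e⁻¹) := by group
        _ = (e * m * e⁻¹)⁻¹ * (m * (e * m * e⁻¹)) := by rw [hprod.conj]; group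
        _ = (m⁻¹ * (m * (e * m * e⁻¹)))⁻¹ * (m * (e * m * e⁻¹)) := by rw [← key]
        _ = m := by
            generalize m * (e * m * e⁻¹) = c at hprod ⊢
            rw [_root_.mul_inv_rev, inv_inv, mul_assoc, ← hprod.comm m, ← mul_assoc, inv_mul_cancel, one_mul]
    have ha0 : a = 0 := by
      by_contra ha0
      have hqa : Q a ≠ 0 := fun h => by
        have hr := P.proj_mem a
        rw [hwa, zero_smul, sub_zero] at hr
        have h0 := han _ hr (by
          rw [sub_eq_add_neg, QuadraticMap.map_add ⇑Q, QuadraticMap.map_neg, QuadraticMap.map_smul,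
            polar_neg_right, polar_smul_right, h, hw, polar_comm (f := ⇑Q) a w, hwa]
          simp)
        refine ha0 ?_
        rw [sub_eq_zero] at h0
        have h1 := (mem_mid.1 ha).2
        rw [h0, polar_smul_right, P'.pair', smul_eq_mul, mul_one] at h1
        rw [h0, h1, zero_smul]
      have e2 : e * e = eich Q w ((2 : F) • a) := by rw [he, eich_add hw hwa hwa, two_smul]
      obtain ⟨t, ht⟩ := line_of_semi hg hw hw0 (c := (2 : F) • a) (by rw [polar_smul_right, hwa, smul_zero])
        (by rw [QuadraticMap.map_smul, smul_eq_mul]; exact mul_ne_zero (mul_ne_zero hg.two hg.two) hqa)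
        (app m) (app_injective m) (σ := 1) fun z => by
          rw [one_smul, ← e2, ← app_mul m, ← app_mul (e * e), mul_inv_eq_iff_eq_mul.1 h2]
      exact hms (hsc hm hw hw0 t ht)
    have he1 : e = 1 := by rw [he, ha0, eich_zero_right hw]
    have hmm : IsScalar (m * m) := by
      rw [he1, one_mul, inv_one, mul_one] at hprod
      exact hprod
    refine ⟨hmm, fun {v' β'} hv' hmw' hwv' => ?_⟩
    obtain ⟨s, hs0, hsx⟩ := hmm.eq_smul hg
    have e1 := hsx w
    rw [app_mul, hmw', map_smul] at e1
    have hβ' : β' ≠ 0 := fun h => by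
      rw [h, zero_smul] at hmw'
      exact hw0 (app_injective m (hmw'.trans (map_zero _).symm))
    have e2 := polar_app m w v'
    rw [hwv', hmw', polar_smul_left] at e2
    have e3 : app m v' = (s * β'⁻¹) • w := by
      rw [← inv_smul_smul₀ hβ' (app m v'), e1, smul_smul, mul_comm]
    rw [e3, polar_smul_right, polar_comm (f := ⇑Q) v' w, hwv', smul_eq_mul, smul_eq_mul, mul_one] at e2
    have hs1 : s = 1 := by field_simp at e2; exact e2
    rw [e3, hs1, one_mul]
  -- the restriction to the middle space is not linear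
  have hnu : app n₀ u = α⁻¹ • w := (hsq hn₀).2 P.q₂ hnw P.pair
  have hτ : ∀ a ∈ mid Q w u, (2 : F) • app n₀ a = (-(α * Q a)) • a := by
    intro a ha
    obtain ⟨e1, e2, e3⟩ := app_eich_mid P ha
    obtain ⟨hwa, hua⟩ := mem_mid.1 ha
    set e := eich Q w a with he
    set n₁ := e * n₀ * e⁻¹ with hn₁
    have hn₁N : n₁ ∈ N := hconj e (eich_mem hg hw hwa) n₀ hn₀
    have hew : app e⁻¹ w = w := app_injective e (by rw [app_app_inv, e1])
    have hna : app n₀ a ∈ mid Q w u := by
      refine mem_mid.2 ⟨?_, ?_⟩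
      · have h := polar_app n₀ u a
        rw [hua, hnu, polar_smul_left, smul_eq_mul] at h
        exact (mul_eq_zero.1 h).resolve_left (inv_ne_zero hα0)
      · have h := polar_app n₀ w a
        rw [hwa, hnw, polar_smul_left, smul_eq_mul] at h
        exact (mul_eq_zero.1 h).resolve_left hα0
    have hcomm : IsScalar (n₀⁻¹ * n₁⁻¹ * n₀ * n₁) := by
      have key : n₀⁻¹ * n₁⁻¹ * n₀ * n₁ = (n₀ * n₀)⁻¹ * (n₀ * (n₁ * n₁)⁻¹ * n₀⁻¹) *
          (n₀ * n₁ * (n₀ * n₁)) := by group
      rw [key, (hsq hn₁N).1.inv.conj]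
      exact ((hsq hn₀).1.inv.mul (hsq hn₁N).1.inv).mul (hsq (N.mul_mem hn₀ hn₁N)).1
    obtain ⟨σ, -, hσ⟩ := hcomm.eq_smul hg
    have hcomm' : app n₀ (app n₁ w) = σ • app n₁ (app n₀ w) := by
      have h := hσ w
      simp only [app_mul] at h
      have h' := congrArg (app n₁) (congrArg (app n₀) h)
      rw [app_app_inv, app_app_inv, map_smul, map_smul] at h'
      exact h'
    have hn₁w : app n₁ w = α • (u + a + (-Q a) • w) := by rw [hn₁, app_mul, app_mul, hew, hnw, map_smul, e2]
    have hein : app e⁻¹ u = u + (-a) + (-Q a) • w := by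
      rw [he, eich_neg_inv hw hwa, (app_eich_mid P ((mid Q w u).neg_mem ha)).2.1, QuadraticMap.map_neg]
    rw [hn₁w, map_smul, map_add, map_add, hnu, map_smul, hnw, hn₁, app_mul, app_mul, map_smul, hein] at hcomm'
    simp only [map_add, map_smul, map_neg, hnu, hnw, e1, e2, e3 _ hna, smul_add, smul_smul] at hcomm'
    have hw' := congrArg (polar Q w) hcomm'
    simp only [polar_add_right, polar_smul_right, polar_neg_right, P.self₁, P.pair, (mem_mid.1 hna).1, hwa,
      smul_eq_mul, smul_add, smul_smul, mul_zero, mul_one, add_zero, zero_add, neg_zero, smul_zero] at hw'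
    rcases eq_or_ne (Q a) 0 with hqa | hqa
    · rw [han a ha hqa, map_zero, smul_zero, smul_zero]
    have hσ1 : σ = 1 := mul_right_cancel₀ (mul_ne_zero (mul_ne_zero hα0 hqa) hα0) (by linear_combination hw')
    subst hσ1
    -- project to the middle space
    refine (sub_eq_zero.1 ?_)
    have hrest : ∀ y ∈ mid Q w u, polar Q y ((2 : F) • app n₀ a - (-(α * Q a)) • a) = 0 := by
      intro y hy
      obtain ⟨y1, y2⟩ := mem_mid.1 hy
      have h := congrArg (polar Q y) hcomm'
      simp only [polar_add_right, polar_smul_right, polar_neg_right, polar_sub_right,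
        polar_comm (f := ⇑Q) y w, polar_comm (f := ⇑Q) y u, y1, y2, smul_eq_mul, one_mul, mul_zero, add_zero,
        zero_add, smul_add, smul_smul, neg_zero, smul_zero] at h ⊢
      refine mul_left_cancel₀ hα0 ?_
      linear_combination h
    set z := (2 : F) • app n₀ a - (-(α * Q a)) • a with hz
    have hzm : z ∈ mid Q w u := (mid Q w u).sub_mem ((mid Q w u).smul_mem _ hna) ((mid Q w u).smul_mem _ ha)
    refine han z hzm ?_
    have h := hrest z hzm
    rw [polar_self'] at h
    exact (mul_eq_zero.1 h).resolve_left hg.two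
  have hd := P.finrank_mid hg.nd
  have h3 := hg.three
  obtain ⟨x, hx, hqx⟩ := exists_aniso (P.nondeg_mid hg.nd) (fun hb => by
    rw [hb, finrank_bot] at hd
    omega)
  rcases lt_or_ge (Module.finrank F (mid Q w u)) 2 with h2 | h2
  · have h5 : 5 ≤ Fintype.card F := hg.small (by omega)
    classical
    obtain ⟨k, hk⟩ : ∃ k, k ∈ (Finset.univ : Finset F) \ {0, 1, -1} := by
      refine Finset.card_pos.1 ?_
      have h1 := Finset.le_card_sdiff ({0, 1, -1} : Finset F) Finset.univ
      have h2 := Finset.card_le_three (a := (0 : F)) (b := 1) (c := -1)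
      rw [Finset.card_univ] at h1
      omega
    simp only [Finset.mem_sdiff, Finset.mem_univ, true_and, Finset.mem_insert, Finset.mem_singleton, not_or] at hk
    have e1 := congrArg (polar Q x) (hτ x hx)
    have e2 := congrArg (polar Q x) (hτ _ ((mid Q w u).smul_mem k hx))
    simp only [map_smul, polar_smul_right, QuadraticMap.map_smul, smul_eq_mul, polar_self'] at e1 e2
    have e3 : k * ((1 - k * k) * (α * Q x * (2 * Q x))) = 0 := by linear_combination k * e1 - e2
    rcases mul_eq_zero.1 e3 with h | h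
    · exact hk.1 h
    rcases mul_eq_zero.1 h with h | h
    · have h' : (1 - k) * (1 + k) = 0 := by linear_combination h
      rcases mul_eq_zero.1 h' with h | h
      · exact hk.2.1 (sub_eq_zero.1 h).symm
      · exact hk.2.2 (eq_neg_of_add_eq_zero_right h)
    · exact mul_ne_zero (mul_ne_zero hα0 hqx) (mul_ne_zero hg.two hqx) h
  · obtain ⟨y, hy, hqy, hxy⟩ := exists_perp hg P h2 hx
    have e1 := congrArg (polar Q x) (hτ x hx)
    have e2 := congrArg (polar Q x) (hτ y hy)
    have e3 := congrArg (polar Q x) (hτ (x + y) ((mid Q w u).add_mem hx hy))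
    simp only [map_add, smul_add, polar_smul_right, polar_add_right, QuadraticMap.map_add ⇑Q, hxy, polar_self',
      smul_eq_mul, mul_zero, add_zero] at e1 e2 e3
    have e4 : α * Q y * (2 * Q x) = 0 := by linear_combination e3 - e1 - e2
    exact mul_ne_zero (mul_ne_zero hα0 hqy) (mul_ne_zero hg.two hqx) e4

include hg hN hconj in
/-- A normalised subgroup with a non-scalar member contains every root element. -/
theorem eich_mem_of_normal {n₀ : O Q} (hn₀ : n₀ ∈ N) (hns : ¬ IsScalar n₀) {v d : ι → F} (hv : Q v = 0)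
    (hvd : polar Q v d = 0) : eich Q v d ∈ N := by
  rcases eq_or_ne v 0 with rfl | hv0
  · rw [eich_zero_left]; exact N.one_mem
  obtain ⟨k, hk, hks, w, hw, hw0, t, hkw⟩ := exists_fix_line hg hconj hn₀ hns
  obtain ⟨w', P⟩ := exists_hyp hg.nd hw hw0
  have ht : t ≠ 0 := fun h => by
    rw [h, zero_smul] at hkw
    exact hw0 (app_injective k (hkw.trans (map_zero _).symm))
  have hsmul : ∀ {m : ι → F}, polar Q w m = 0 → ∀ s : F, eich Q (s • w) m = eich Q w (s • m) :=
    fun hm s => eich_smul hw hm s
  have hproj : ∀ {m : ι → F}, polar Q w m = 0 →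
      m - polar Q w' m • w ∈ mid Q w w' ∧ eich Q w (m - polar Q w' m • w) = eich Q w m := fun {m} hm => by
    have h1 := P.proj_mem m
    rw [hm, zero_smul, sub_zero] at h1
    refine ⟨h1, ?_⟩
    rw [sub_eq_add_neg, ← neg_smul, eich_add_smul hw hm]
  obtain ⟨d₀, hd₀, hd₀0, hd₀N⟩ : ∃ d₀ ∈ mid Q w w', d₀ ≠ 0 ∧ eich Q w d₀ ∈ N := by
    by_cases hcase : ∀ a ∈ mid Q w w', ∃ s : F, t • app k a - a = s • w
    · -- `k` is a root element times a sign
      obtain ⟨x, hx, hqx⟩ := exists_aniso (P.nondeg_mid hg.nd) (fun hb => by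
        have e := P.finrank_mid hg.nd
        rw [hb, finrank_bot] at e
        have := hg.three
        omega)
      have htt : t * t = 1 := by
        obtain ⟨s, hs⟩ := hcase x hx
        have h := congrArg Q (sub_eq_iff_eq_add.1 hs)
        rw [QuadraticMap.map_smul, Q_app, QuadraticMap.map_add ⇑Q, QuadraticMap.map_smul, hw, polar_smul_left,
          (mem_mid.1 hx).1, smul_zero, smul_zero, zero_add, add_zero, smul_eq_mul] at h
        exact mul_right_cancel₀ hqx (h.trans (one_mul _).symm)
      have hwk : polar Q w (app k w') = t⁻¹ := by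
        have h := polar_app k w w'
        rw [hkw, polar_smul_left, P.pair, smul_eq_mul] at h
        exact eq_inv_of_mul_eq_one_right h
      obtain ⟨d, hd, hde⟩ := exists_opposite P (z := t • app k w') (by rw [QuadraticMap.map_smul, Q_app, P.q₂,
        smul_zero]) (by rw [polar_smul_right, hwk, smul_eq_mul, mul_inv_cancel₀ ht])
      obtain ⟨e1, e2, e3⟩ := app_eich_mid P hd
      have hall : app k = t • app (eich Q w d) := by
        refine LinearMap.ext fun z => ?_
        have hz := P.proj_mem z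
        set m := z - polar Q w' z • w - polar Q w z • w' with hm
        have hzm : z = polar Q w' z • w + polar Q w z • w' + m := by rw [hm]; abel
        have hkm : app k m = t • app (eich Q w d) m := by
          obtain ⟨s, hs⟩ := hcase m hz
          have hk1 : app k m = t • m + (t * s) • w := by
            have h := congrArg (t • ·) (sub_eq_iff_eq_add.1 hs)
            simp only [smul_smul, htt, one_smul, smul_add] at h
            rw [h, add_comm]
          have h := polar_app k w' m
          rw [(mem_mid.1 hz).2] at h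
          have h' : polar Q (t • app k w') (app k m) = 0 := by rw [polar_smul_left, h, smul_zero]
          rw [← hde, e2, hk1] at h'
          simp only [polar_add_left, polar_add_right, polar_smul_left, polar_smul_right, P.pair', P.self₁,
            (mem_mid.1 hz).1, (mem_mid.1 hz).2, polar_comm (f := ⇑Q) d w, (mem_mid.1 hd).1, smul_eq_mul] at h'
          have hts : t * s = -(t * polar Q d m) := by linear_combination h'
          rw [hk1, e3 m hz, polar_comm (f := ⇑Q) m d, hts, smul_add, smul_smul, mul_neg]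
        conv_lhs => rw [hzm]
        conv_rhs => rw [LinearMap.smul_apply, hzm]
        simp only [map_add, map_smul, hkw, hkm, hde, e1, smul_add, smul_smul]
        match_scalars <;> first | ring1 | linear_combination -(polar Q w z) * htt
      have hd0 : d ≠ 0 := fun h => hks ⟨t, fun z => by
        rw [hall, LinearMap.smul_apply, h, eich_zero_right hw, app_one]⟩
      refine ⟨(2 : F) • d, (mid Q w w').smul_mem _ hd, smul_ne_zero hg.two hd0, ?_⟩
      have : k * k = eich Q w ((2 : F) • d) := by
        refine ext_app fun z => ?_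
        rw [app_mul, two_smul, ← eich_add hw (mem_mid.1 hd).1 (mem_mid.1 hd).1, app_mul, hall]
        simp only [LinearMap.smul_apply, map_smul, smul_smul, htt, one_smul]
      exact this ▸ N.mul_mem hk hk
    · push Not at hcase
      obtain ⟨a, ha, hne⟩ := hcase
      obtain ⟨hwa, -⟩ := mem_mid.1 ha
      have hka : polar Q w (app k a) = 0 := by
        have h := polar_app k w a
        rw [hkw, polar_smul_left, hwa, smul_eq_mul] at h
        exact (mul_eq_zero.1 h).resolve_left ht
      set c := t • app k a - a with hc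
      have hwc : polar Q w c = 0 := by rw [hc, polar_sub_right, polar_smul_right, hka, hwa, smul_zero, sub_zero]
      obtain ⟨hcm, hce⟩ := hproj hwc
      refine ⟨_, hcm, fun h => hne _ (sub_eq_zero.1 h), ?_⟩
      rw [hce]
      have hkk := N.mul_mem hk (hconj _ (eich_mem hg hw hwa) k⁻¹ (N.inv_mem hk))
      have e : k * (eich Q w a * k⁻¹ * (eich Q w a)⁻¹) = eich Q w c := by
        rw [← mul_assoc, ← mul_assoc, eich_conj hw hwa, hkw, hsmul hka, eich_neg_inv hw hwa,
          eich_add hw (by rw [polar_smul_right, hka, smul_zero]) (by rw [polar_neg_right, hwa, neg_zero]),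
          ← sub_eq_add_neg]
      exact e ▸ hkk
  let S : AddSubgroup (ι → F) :=
    { carrier := {m | m ∈ mid Q w w' ∧ eich Q w m ∈ N}
      zero_mem' := ⟨(mid Q w w').zero_mem, by rw [eich_zero_right hw]; exact N.one_mem⟩
      add_mem' := fun {m m'} hm hm' => ⟨(mid Q w w').add_mem hm.1 hm'.1, by
        rw [← eich_add hw (mem_mid.1 hm.1).1 (mem_mid.1 hm'.1).1]; exact N.mul_mem hm.2 hm'.2⟩
      neg_mem' := fun {m} hm => ⟨(mid Q w w').neg_mem hm.1, by
        rw [← eich_neg_inv hw (mem_mid.1 hm.1).1]; exact N.inv_mem hm.2⟩ }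
  have hall : ∀ m ∈ mid Q w w', eich Q w m ∈ N := fun m hm => by
    refine (mid_eq_of_stable hg P S (fun m hm => hm.1) (fun c hc m hm => ?_)
      (fun y hy hqy z hz hqz m hm => ?_) (⟨hd₀, hd₀N⟩ : d₀ ∈ S) hd₀0 hm).2
    · obtain ⟨ρ, hρ, e1, -, e3⟩ := exists_torus hg P hc
      refine ⟨(mid Q w w').smul_mem _ hm.1, ?_⟩
      have h := hconj ρ hρ _ hm.2
      rwa [eich_conj hw (mem_mid.1 hm.1).1, e1, e3 m hm.1, hsmul (mem_mid.1 hm.1).1] at h
    · obtain ⟨ρ, hρ, s, hs, e1, -, e3⟩ := exists_rot hg P hy hqy hz hqz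
      have hmem := mid_refl hy (mid_refl hz hm.1)
      refine ⟨s, hs, (mid Q w w').smul_mem _ hmem, ?_⟩
      have h := hconj ρ hρ _ hm.2
      rwa [eich_conj hw (mem_mid.1 hm.1).1, e1, e3 m hm.1, hsmul (mem_mid.1 hmem).1] at h
  obtain ⟨ρ, hρ, s, hs, e⟩ := exists_line hg hv hv0 hw hw0
  set d' := s⁻¹ • app ρ⁻¹ d with hd'
  have hwd : polar Q w d' = 0 := by
    rw [hd', polar_smul_right, ← polar_app ρ, app_app_inv, e, polar_smul_left, hvd, smul_zero, smul_zero]
  have hd'N : eich Q w d' ∈ N := by
    obtain ⟨h1, h2⟩ := hproj hwd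
    exact h2 ▸ hall _ h1
  have h := hconj ρ hρ _ hd'N
  rwa [eich_conj hw hwd, e, hd', map_smul, app_app_inv,
    eich_smul hv (by rw [polar_smul_right, hvd, smul_zero]), smul_inv_smul₀ hs] at h

omit hconj in
include hg in
theorem rootGen : RootGen Q := fun _ hN hconj _ hn₀ hns _ _ hw hwd =>
  eich_mem_of_normal hg hN hconj hn₀ hns hw hwd

end CfsgLib.TensorOddMinus
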