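import Cfsg.Agent.Lib.TensorOddMinus.Descent
import Cfsg.Agent.Lib.TensorOddMinus.Normal
import Cfsg.Agent.Lib.TensorOdd.Assemble

/-!
The stabiliser of a tensor decomposition with factors of odd dimension and of even dimension and minus type is
maximal in `Ω`, unless the field has three elements and the odd factor dimension three.
-/

set_option autoImplicit false
set_option linter.unusedSectionVars false

namespace CfsgLib.TensorOddMinus

open Matrix QuadraticMap CfsgLib.Orth CfsgLib.GeomClasses CfsgLib.Maximal.TensorTools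
open CfsgLib.TensorMax63 (exists_hyp exists_aniso mem_mid)
open scoped Kronecker

variable {ι : Type} [Fintype ι] [DecidableEq ι] {F : Type*} [Field F] [Fintype F]

namespace Data

variable {q : QuadraticForm F (ι → F)} {a b : ℕ} (D : Data q a b)

/-- The stabiliser does not contain `Ω`. -/
theorem not_le_TT : ¬ _root_.commutator (O q) ≤ D.TT := by
  intro hle
  obtain ⟨s, -, hs0, hs⟩ := OrthTools.exists_singular D.good1.nd (⊤ : Submodule F (Fin a → F))
    (by rw [finrank_top, Module.finrank_fintype_fun_eq_card]; exact D.good1.three)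
  obtain ⟨w, -, hw0, hw⟩ := OrthTools.exists_singular D.good2.nd (⊤ : Submodule F (Fin b → F))
    (by rw [finrank_top, Module.finrank_fintype_fun_eq_card]; exact D.good2.three)
  obtain ⟨s', P⟩ := exists_hyp D.good1.nd hs hs0
  obtain ⟨w', P'⟩ := exists_hyp D.good2.nd hw hw0
  obtain ⟨d, hd, hqd⟩ := exists_aniso (P.nondeg_mid D.good1.nd) (fun hb => by
    have e := P.finrank_mid D.good1.nd
    rw [hb, finrank_bot] at e
    have := D.good1.three
    omega)
  obtain ⟨m, hm, hqm⟩ := exists_aniso (P'.nondeg_mid D.good2.nd) (fun hb => by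
    have e := P'.finrank_mid D.good2.nd
    rw [hb, finrank_bot] at e
    have := D.good2.three
    omega)
  obtain ⟨hsd, hs'd⟩ := mem_mid.1 hd
  obtain ⟨hwm, hw'm⟩ := mem_mid.1 hm
  have hu : q (D.tp s w) = 0 := by rw [D.Q_tp, hs, mul_zero, zero_mul]
  have huc : polar q (D.tp s w) (D.tp d m) = 0 := by rw [D.polar_tp, hsd, zero_mul]
  have hc : q (D.tp d m) ≠ 0 := by
    rw [D.Q_tp]; exact mul_ne_zero (mul_ne_zero D.two hqd) hqm
  obtain ⟨A, B, hAB⟩ := D.mem_TT.1 (hle (eich_mem_aniso D.two hu huc hc))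
  have e1 : D.tp s' m = D.tp (app A s') (app B m) := by
    rw [← D.ten_tp, ← hAB, app_eich hu huc, D.polar_tp, D.polar_tp, polar_comm (f := ⇑D.q2) m w, hwm, hs'd]
    simp
  obtain ⟨t, -, hAs, -⟩ := D.tp_eq (fun h0 => one_ne_zero (by rw [← P.pair, h0, polar_zero_right]))
    (fun h0 => hqm (by rw [h0, QuadraticMap.map_zero])) e1
  have e2 := congrArg (fun z => polar q z (D.tp d m)) ((D.ten_tp A B s' w').symm)
  rw [← hAB, app_eich hu huc, hAs, D.polar_tp, D.polar_tp, P.pair', P'.pair', one_mul, one_smul] at e2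
  simp only [polar_add_left, polar_smul_left, D.polar_tp, hsd, hs'd, polar_self', zero_mul, smul_zero, add_zero,
    zero_add, smul_eq_mul, mul_zero] at e2
  exact mul_ne_zero (mul_ne_zero D.two hqd) (mul_ne_zero D.two hqm) e2.symm

/-- The stabiliser is maximal in `Ω`. -/
theorem maximal (ha : Odd a) (hb : Even b) (hb4 : 4 ≤ b) (h45 : b = 4 → 5 ≤ a) :
    Cfsg.Geo.IsMaximalIn (_root_.commutator (O q)) (D.TT ⊓ _root_.commutator (O q)) := by
  refine ⟨lt_of_le_of_ne inf_le_right fun h => D.not_le_TT (inf_eq_right.1 h), fun M h1 h2 => ?_⟩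
  by_cases hM : _root_.commutator (O q) ≤ M
  · exact Or.inr (le_antisymm h2 hM)
  · have hO : D.Over M := ⟨h1, h2, hM⟩
    exact Or.inl (le_antisymm
      (le_inf (hO.le_TT (rootGen D.good1) (rootGen D.good2) ha hb hb4 h45) h2) h1)

end Data

/-- The tensor stabiliser is maximal for an odd factor and an even one of minus type. -/
theorem isMaximalIn_tensor {a b : ℕ} {Q : (ι → F) → F} (hQ : Cfsg.Geo.IsNondegenerateQuadraticForm Q)
    (h2 : (2 : F) ≠ 0) (h1 : 3 ≤ a) (ha : Odd a) (hb4 : 4 ≤ b) (hb : Even b)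
    (hsmall : a = 3 → 5 ≤ Fintype.card F) (h45 : b = 4 → 5 ≤ a) (e : ι ≃ Fin a × Fin b) (P : GL ι F)
    {f₁ : (Fin a → F) → (Fin a → F) → F} {f₂ : (Fin b → F) → (Fin b → F) → F}
    (hf₁ : Cfsg.Geo.IsSymmetricForm f₁) (hf₂ : Cfsg.Geo.IsSymmetricForm f₂)
    (hm : ¬ Cfsg.Geo.IsPlusTypeOn (fun v : Fin b → F => f₂ v v) ⊤)
    (hT : Cfsg.Geo.IsTensorFormStructure id (QuadraticMap.polar Q) f₁ f₂ e P) :
    Cfsg.Geo.IsMaximalIn (Cfsg.Geo.omegaGL Q)
      (Cfsg.Geo.tensorProductSubgroup a b e P ⊓ Cfsg.Geo.omegaGL Q) := by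
  classical
  obtain ⟨c, hc, hform⟩ := tensor_form_pure hf₁.bilinear hf₂.bilinear hT
  obtain ⟨q1, hq1, hp1⟩ := CfsgLib.TensorOdd.exists_quad h2 hc hf₁
  obtain ⟨q2, hq2, hp2⟩ := CfsgLib.TensorOdd.exists_quad h2 (one_ne_zero (α := F)) hf₂
  have hfour : b = 4 → ∀ x y, q2 x = 0 → q2 y = 0 → polar q2 x y = 0 → x ≠ 0 → ∃ t : F, y = t • x := by
    intro hb' x y hx hy hxy hx0
    by_contra hno
    push Not at hno
    have hli : LinearIndependent F ![x, y] := LinearIndependent.pair_iff.2 fun s t hst => by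
      by_cases ht : t = 0
      · rw [ht, zero_smul, add_zero] at hst
        exact ⟨(smul_eq_zero.1 hst).resolve_right hx0, ht⟩
      · refine absurd ?_ (hno (-(t⁻¹ * s)))
        have h0 : y = -(t⁻¹ • (s • x)) := by
          rw [eq_neg_of_add_eq_zero_left hst, smul_neg, neg_neg, inv_smul_smul₀ ht]
        rw [h0, neg_smul, smul_smul]
    refine hm ⟨Submodule.span F (Set.range ![x, y]), le_top, fun z hz => ?_, ?_⟩
    · obtain ⟨r, rfl⟩ := (Submodule.mem_span_range_iff_exists_fun F).1 hz
      show f₂ _ _ = 0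
      have e : ∀ v, f₂ v v = 2 * q2 v := fun v => by rw [← polar_self' (Q := q2), hp2, one_mul]
      rw [e, Fin.sum_univ_two]
      simp [QuadraticMap.map_add ⇑q2, QuadraticMap.map_smul, polar_smul_left, polar_smul_right, hx, hy, hxy]
    · rw [finrank_span_eq_card hli, Fintype.card_fin, finrank_top, Module.finrank_fin_fun, hb']
  set D : Data (quadOf hQ) a b :=
    { q1 := q1
      q2 := q2
      E := coord e P
      polar_E := fun u v u' v' => by
        rw [hp1, hp2, one_mul]
        refine (hform u v u' v').trans ?_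
        ring
      good1 := ⟨hq1, h2, by rwa [Fintype.card_fin], fun h => hsmall (by rwa [Fintype.card_fin] at h),
        fun h => absurd (show Odd (4 : ℕ) by rw [Fintype.card_fin] at h; exact h ▸ ha) (by decide)⟩
      good2 := ⟨hq2, h2, by rw [Fintype.card_fin]; omega,
        fun h => absurd (show b = 3 by rwa [Fintype.card_fin] at h) (by omega),
        fun h => hfour (by rwa [Fintype.card_fin] at h)⟩
      nd := OrthTools.quadOf_nondegenerate hQ } with hD
  have hTT : (Cfsg.Geo.tensorProductSubgroup a b e P).comap (O (quadOf hQ)).subtype = D.TT := by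
    ext g
    constructor
    · intro hg
      obtain ⟨α, β, hαβ⟩ := exists_factors (Subgroup.mem_comap.1 hg)
      let φ : (Fin a → F) →ₗ[F] (Fin a → F) := Matrix.mulVecLin (α : Matrix (Fin a) (Fin a) F)
      let ψ : (Fin b → F) →ₗ[F] (Fin b → F) := Matrix.mulVecLin (β : Matrix (Fin b) (Fin b) F)
      let ψ' : (Fin b → F) →ₗ[F] (Fin b → F) := Matrix.mulVecLin ((β⁻¹ : GL (Fin b) F) : Matrix (Fin b) (Fin b) F)
      have hg' : ∀ u v, app g (D.tp u v) = D.tp (φ u) (ψ v) := hαβ
      have hψi : Function.Injective ψ := fun v v' h => by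
        have := congrArg ψ' h
        simpa [ψ, ψ', Matrix.mulVec_mulVec, ← Units.val_mul] using this
      obtain ⟨u0, hu0⟩ := exists_anisotropic D.good1.nd (le_trans (by norm_num) D.good1.three)
      obtain ⟨v0, hv0⟩ := exists_anisotropic D.good2.nd (le_trans (by norm_num) D.good2.three)
      have hpol : ∀ u v u' v', polar D.q1 (φ u) (φ u') * polar D.q2 (ψ v) (ψ v') =
          polar D.q1 u u' * polar D.q2 v v' := fun u v u' v' => by
        rw [← D.polar_tp, ← hg', ← hg', polar_app, D.polar_tp]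
      have hψ0 : D.q1 (φ u0) ≠ 0 := fun h0 => by
        have e := hpol u0 v0 u0 v0
        rw [polar_self', polar_self', polar_self', polar_self', h0, mul_zero, zero_mul] at e
        exact mul_ne_zero (mul_ne_zero h2 hu0) (mul_ne_zero h2 hv0) e.symm
      refine Data.mem_TT_of_pure ha hψi (ν₀ := D.q1 u0 / D.q1 (φ u0)) (div_ne_zero hu0 hψ0) (fun v => ?_) hg'
      have e := hpol u0 v u0 v
      rw [polar_self', polar_self', polar_self', polar_self'] at e
      field_simp
      apply mul_left_cancel₀ h2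
      apply mul_left_cancel₀ h2
      linear_combination e
    · intro hg
      obtain ⟨A, B, rfl⟩ := D.mem_TT.1 hg
      rw [Subgroup.mem_comap]
      set G : GL ι F := (O (quadOf hQ)).subtype (D.ten (A, B))
      let k : GL (Fin a × Fin b) F :=
        ⟨((A : GL (Fin a) F) : Matrix (Fin a) (Fin a) F) ⊗ₖ ((B : GL (Fin b) F) : Matrix (Fin b) (Fin b) F),
          (((A : GL (Fin a) F)⁻¹ : GL (Fin a) F) : Matrix (Fin a) (Fin a) F) ⊗ₖ
            (((B : GL (Fin b) F)⁻¹ : GL (Fin b) F) : Matrix (Fin b) (Fin b) F),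
          by rw [← Matrix.mul_kronecker_mul]; simp, by rw [← Matrix.mul_kronecker_mul]; simp⟩
      have hGk : G = MulAut.conj P (Cfsg.Geo.glReindex e.symm k) := by
        refine Units.ext (Matrix.toLin'.injective (D.ext_tp fun u v => ?_))
        rw [Matrix.toLin'_apply, Matrix.toLin'_apply]
        show app (D.ten (A, B)) (D.tp u v) = _
        refine (D.ten_tp A B u v).trans ?_
        show coord e P (pure (app A u) (app B v)) = _
        rw [show D.tp u v = coord e P (pure u v) from rfl, conj_reindex_mulVec]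
        exact congrArg (coord e P) (kronecker_mulVec_pure _ _ u v).symm
      rw [hGk]
      exact ⟨_, ⟨k, ⟨_, _, rfl⟩, rfl⟩, rfl⟩
  refine CfsgLib.GeomClasses.OrthPair.maximal_transport hQ ?_
  rw [hTT]
  exact D.maximal ha hb hb4 h45

end CfsgLib.TensorOddMinus
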