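import Cfsg.Agent.Lib.TensorOddMinus.Radical
import Cfsg.Agent.Lib.TensorOdd.Factor

/-!
A diagonal operator which is not scalar does not commute with all its conjugates under `Ω`; consequently the
elements of a proper overgroup in a root group are scalar there.
-/

set_option autoImplicit false
set_option linter.unusedSectionVars false

namespace CfsgLib.TensorOddMinus

open Matrix QuadraticMap CfsgLib.Orth
open CfsgLib.TensorOdd (IsFrame InBlock exists_value_block)
open CfsgLib.TensorMax63 (ext_polar)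

variable {ι : Type} [Fintype ι] [DecidableEq ι] {F : Type*} [Field F] [Fintype F] {Q : QuadraticForm F (ι → F)}

section Diag

variable {κ : Type} [Fintype κ] [DecidableEq κ] {u : κ → ι → F} (hu : IsFrame Q u)
  {X : (ι → F) →ₗ[F] (ι → F)} {lam : κ → F} (hX : ∀ i, X (u i) = lam i • u i)
include hu hX

theorem polar_diag (x y : ι → F) : polar Q (X x) y = polar Q x (X y) := by
  have h : Q.polarBilin.comp X = Q.polarBilin.compl₂ X := hu.ext_lin fun i => hu.ext_lin fun j => by
    rw [LinearMap.comp_apply, LinearMap.compl₂_apply, polarBilin_apply_apply, polarBilin_apply_apply, hX, hX,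
      polar_smul_left, polar_smul_right]
    rcases eq_or_ne i j with rfl | hij
    · rfl
    · rw [hu.orth i j hij, smul_zero, smul_zero]
  exact LinearMap.congr_fun (LinearMap.congr_fun h x) y

theorem diag_block {S : Finset κ} {c : F} (hc : ∀ i ∈ S, lam i = c) {x : ι → F} (hx : InBlock Q u S x) :
    X x = c • x :=
  hu.ext_vec fun j => by
    rw [polar_diag hu hX, hX, polar_smul_right, polar_smul_left, smul_eq_mul, smul_eq_mul]
    by_cases hj : j ∈ S
    · rw [hc j hj]
    · rw [hx j hj, mul_zero, mul_zero]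

theorem comm_diag {Y : (ι → F) →ₗ[F] (ι → F)} (h : ∀ z, X (Y z) = Y (X z)) (f : F → F)
    {P : (ι → F) →ₗ[F] (ι → F)} (hP : ∀ i, P (u i) = f (lam i) • u i) (z : ι → F) : P (Y z) = Y (P z) := by
  have e : P.comp Y = Y.comp P := hu.ext_lin fun i => hu.ext_vec fun j => by
    rw [LinearMap.comp_apply, LinearMap.comp_apply, hP i, map_smul, polar_diag hu hP, hP j, polar_smul_left,
      polar_smul_right, smul_eq_mul, smul_eq_mul]
    have h1 : polar Q (X (Y (u i))) (u j) = lam j * polar Q (Y (u i)) (u j) := by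
      rw [polar_diag hu hX, hX, polar_smul_right, smul_eq_mul]
    rw [h, hX, map_smul, polar_smul_left, smul_eq_mul] at h1
    by_cases hp : polar Q (Y (u i)) (u j) = 0
    · rw [hp, mul_zero, mul_zero]
    · rw [mul_right_cancel₀ hp h1]
  exact LinearMap.congr_fun e z

end Diag

/-- The diagonal operator of a frame. -/
theorem exists_diag {κ : Type} [Fintype κ] [DecidableEq κ] {u : κ → ι → F} (hu : IsFrame Q u) (c : κ → F) :
    ∃ P : (ι → F) →ₗ[F] (ι → F), ∀ i, P (u i) = c i • u i :=
  ⟨hu.basis.constr F fun i => c i • u i, fun i => by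
    conv_lhs => rw [← hu.basis_apply i]
    rw [Module.Basis.constr_basis]⟩

section Good

variable (hg : Good Q)
include hg

/-- The two-valued case. -/
theorem noncomm_core {X : (ι → F) →ₗ[F] (ι → F)} (hsym : ∀ v w, polar Q (X v) w = polar Q v (X w))
    {x y z' : ι → F} {α β γ : F} (hx : X x = α • x) (hy : X y = β • y) (hz : X z' = γ • z')
    (hxy : polar Q x y = 0) (hqx : Q x ≠ 0) (h1 : Q x + Q y ≠ 0) (h2 : Q x ≠ Q y) (hαβ : α ≠ β) (hy0 : y ≠ 0)
    (hqz : Q z' = Q x + Q y) :
    ∃ ρ ∈ commutator (O Q), ∃ v, X (app ρ (X (app ρ⁻¹ v))) ≠ app ρ (X (app ρ⁻¹ (X v))) := by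
  have hval : Q (x + y) = Q x + Q y := by rw [QuadraticMap.map_add ⇑Q, hxy, add_zero]
  refine ⟨refl Q (x + y) * refl Q z', pair_mem hg.two (by rw [hval]; exact h1) (by rw [hval, hqz]), x,
    fun hcon => ?_⟩
  have hzc : ∀ v, app (refl Q z') (X v) = X (app (refl Q z') v) := fun v => by
    rw [app_refl, app_refl, map_sub, map_smul, hz, hsym, hz, polar_smul_right, smul_eq_mul, smul_smul]
    ring_nf
  have hw : ∀ v, app (refl Q (x + y) * refl Q z') (X (app (refl Q (x + y) * refl Q z')⁻¹ v)) =
      app (refl Q (x + y)) (X (app (refl Q (x + y)) v)) := fun v => by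
    rw [app_mul, hzc, _root_.mul_inv_rev, app_mul, app_app_inv, refl_inv]
  rw [hw, hw, hx, map_smul, map_smul, map_smul] at hcon
  set D := Q x + Q y
  set c := 2 * Q x / D with hc
  set p := α * (1 - c) * (2 * Q x) - c * β * (2 * Q y) with hp
  have hxz : polar Q x (x + y) = 2 * Q x := by rw [polar_add_right, polar_self', hxy, add_zero]
  have hyz : polar Q y (x + y) = 2 * Q y := by
    rw [polar_add_right, polar_self', polar_comm (f := ⇑Q) y x, hxy, zero_add]
  have e1 : app (refl Q (x + y)) x = (1 - c) • x - c • y := by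
    rw [app_refl, hxz, hval, hc, div_eq_inv_mul]
    module
  have e2 : app (refl Q (x + y)) (X (app (refl Q (x + y)) x)) =
      (α * (1 - c) - p / D) • x + (-(c * β) - p / D) • y := by
    rw [e1, map_sub, map_smul, map_smul, hx, hy, app_refl, hval, polar_sub_left, polar_smul_left,
      polar_smul_left, polar_smul_left, polar_smul_left, hxz, hyz, hp]
    simp only [smul_eq_mul]
    match_scalars <;> field_simp <;> ring
  rw [e2, map_add, map_smul, map_smul, hx, hy] at hcon
  have h3 : ((-(c * β) - p / D) * (β - α)) • y = 0 := by linear_combination (norm := module) hcon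
  have h4 := ((mul_eq_zero.1 ((smul_eq_zero.1 h3).resolve_right hy0)).resolve_right
    (sub_ne_zero.2 (Ne.symm hαβ)))
  have h5 : 2 * Q x * (Q x - Q y) * (β - α) = 0 := by
    rw [hp, hc] at h4
    field_simp at h4
    linear_combination -h4
  rcases mul_eq_zero.1 h5 with h | h
  · exact h2 (sub_eq_zero.1 ((mul_eq_zero.1 h).resolve_left (mul_ne_zero hg.two hqx)))
  · exact hαβ (sub_eq_zero.1 h).symm

/-- A singular vector in a block of three members. -/
theorem exists_singular_block {κ : Type} [Fintype κ] [DecidableEq κ] {u : κ → ι → F} (hu : IsFrame Q u)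
    {S : Finset κ} (hS : 3 ≤ S.card) : ∃ y, InBlock Q u S y ∧ Q y = 0 ∧ y ≠ 0 := by
  obtain ⟨i, j, k, hi, hj, hk, hij, hik, hjk⟩ := Finset.two_lt_card_iff.1 hS
  obtain ⟨s, t, hst⟩ := CfsgLib.Orth.exists_binary hg.two (hu.nz i) (hu.nz j) (-Q (u k))
  refine ⟨s • u i + t • u j + u k, (((InBlock.vec hu hi).smul s).add ((InBlock.vec hu hj).smul t)).add
    (InBlock.vec hu hk), ?_, fun h0 => ?_⟩
  · simp only [QuadraticMap.map_add ⇑Q, QuadraticMap.map_smul, polar_add_left, polar_smul_left,
      polar_smul_right, hu.orth i j hij, hu.orth i k hik, hu.orth j k hjk, smul_eq_mul]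
    linear_combination hst
  · have := congrArg (fun v => polar Q v (u k)) h0
    simp only [polar_add_left, polar_smul_left, hu.orth i k hik, hu.orth j k hjk, polar_zero_left, smul_zero,
      zero_add, add_zero] at this
    exact hu.polar_self_ne k this

/-- Over three elements one of two complementary blocks has a singular vector. -/
theorem exists_singular_split {κ : Type} [Fintype κ] [DecidableEq κ] {u : κ → ι → F} (hu : IsFrame Q u)
    (hq : Fintype.card F = 3) {S : Finset κ} (hS : S.Nonempty) (hS' : Sᶜ.Nonempty) :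
    (∃ y, InBlock Q u S y ∧ Q y = 0 ∧ y ≠ 0) ∨ ∃ y, InBlock Q u Sᶜ y ∧ Q y = 0 ∧ y ≠ 0 := by
  by_contra hcon
  obtain ⟨hA, hB⟩ := not_or.1 hcon
  have hsum : S.card + Sᶜ.card = Fintype.card ι := by rw [Finset.card_add_card_compl, hu.card]
  have h1 : S.card ≤ 2 := by
    by_contra h; exact hA (exists_singular_block hg hu (by omega))
  have h2 : Sᶜ.card ≤ 2 := by
    by_contra h; exact hB (exists_singular_block hg hu (by omega))
  have h3 : 3 ≤ Fintype.card ι := hg.three
  have hn : Fintype.card ι ≠ 3 := fun h => by have := hg.small h; omega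
  obtain ⟨i, j, hij, hSe⟩ := Finset.card_eq_two.1 (show S.card = 2 by omega)
  obtain ⟨k, l, hkl, hSe'⟩ := Finset.card_eq_two.1 (show Sᶜ.card = 2 by omega)
  obtain ⟨h30, hsq⟩ := CfsgLib.TensorOdd.three_facts (F := F) hq
  have hval : ∀ {a b : F}, a ≠ 0 → b ≠ 0 → a + b ≠ 0 → a = b := fun {a b} ha hb hab => by
    have : (a - b) * (a + b) = 0 := by linear_combination hsq a ha - hsq b hb
    exact sub_eq_zero.1 ((mul_eq_zero.1 this).resolve_right hab)
  have hAB : ∀ {T : Finset κ} {i j : κ}, i ∈ T → j ∈ T → i ≠ j →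
      (¬ ∃ y, InBlock Q u T y ∧ Q y = 0 ∧ y ≠ 0) → Q (u i) = Q (u j) := by
    intro T i j hi hj hij hT
    refine hval (hu.nz i) (hu.nz j) fun h0 => hT ⟨u i + u j, (InBlock.vec hu hi).add (InBlock.vec hu hj),
      by rw [QuadraticMap.map_add ⇑Q, hu.orth i j hij, add_zero, h0], fun h => ?_⟩
    have := congrArg (fun v => polar Q v (u i)) h
    simp only [polar_add_left, hu.orth j i hij.symm, polar_zero_left, add_zero] at this
    exact hu.polar_self_ne i this
  have eA := hAB (T := S) (i := i) (j := j) (by simp [hSe]) (by simp [hSe]) hij hA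
  have eB := hAB (T := Sᶜ) (i := k) (j := l) (by simp [hSe']) (by simp [hSe']) hkl hB
  have hne : ∀ a ∈ S, ∀ b ∈ Sᶜ, a ≠ b := fun a ha b hb h => (Finset.mem_compl.1 hb) (h ▸ ha)
  have hik := hne i (by simp [hSe]) k (by simp [hSe'])
  have hil := hne i (by simp [hSe]) l (by simp [hSe'])
  have hjk := hne j (by simp [hSe]) k (by simp [hSe'])
  have hjl := hne j (by simp [hSe]) l (by simp [hSe'])
  have hn4 : Fintype.card ι = 4 := by omega
  by_cases hs : Q (u i) + Q (u k) = 0
  · obtain ⟨t, ht⟩ := hg.four hn4 (u i + u k) (u j + u l)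
      (by rw [QuadraticMap.map_add ⇑Q, hu.orth i k hik, add_zero, hs])
      (by rw [QuadraticMap.map_add ⇑Q, hu.orth j l hjl, add_zero, ← eA, ← eB, hs])
      (by simp only [polar_add_left, polar_add_right, hu.orth i j hij, hu.orth i l hil, hu.orth k j hjk.symm,
        hu.orth k l hkl, add_zero])
      (fun h => by
        have := congrArg (fun v => polar Q v (u i)) h
        simp only [polar_add_left, hu.orth k i hik.symm, polar_zero_left, add_zero] at this
        exact hu.polar_self_ne i this)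
    have := congrArg (fun v => polar Q v (u j)) ht
    simp only [polar_add_left, polar_smul_left, hu.orth i j hij, hu.orth k j hjk.symm, hu.orth l j hjl.symm,
      add_zero, smul_zero] at this
    exact hu.polar_self_ne j this
  · have e := hval (hu.nz i) (hu.nz k) hs
    obtain ⟨t, ht⟩ := hg.four hn4 (u i + u j + u k) (u j - u k + u l)
      (by simp only [QuadraticMap.map_add ⇑Q, polar_add_left, hu.orth i j hij, hu.orth i k hik,
            hu.orth j k hjk, ← eA, ← e]
          linear_combination Q (u i) * h30)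
      (by simp only [sub_eq_add_neg, QuadraticMap.map_add ⇑Q, QuadraticMap.map_neg, polar_add_left,
            polar_neg_left, polar_neg_right, hu.orth j k hjk, hu.orth j l hjl, hu.orth k l hkl, ← eA, ← eB, ← e]
          linear_combination Q (u i) * h30)
      (by simp only [sub_eq_add_neg, polar_add_left, polar_add_right, polar_neg_right, hu.orth i j hij,
            hu.orth i k hik, hu.orth i l hil, hu.orth j k hjk, hu.orth j l hjl, hu.orth k j hjk.symm,
            hu.orth k l hkl, polar_self', ← eA, ← e]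
          ring)
      (fun h => by
        have := congrArg (fun v => polar Q v (u i)) h
        simp only [polar_add_left, hu.orth j i hij.symm, hu.orth k i hik.symm, polar_zero_left, add_zero] at this
        exact hu.polar_self_ne i this)
    have := congrArg (fun v => polar Q v (u l)) ht
    simp only [sub_eq_add_neg, polar_add_left, polar_neg_left, polar_smul_left, hu.orth i l hil,
      hu.orth j l hjl, hu.orth k l hkl, add_zero, neg_zero, zero_add, smul_zero] at this
    exact hu.polar_self_ne l this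

/-- A diagonal operator commuting with all its conjugates is scalar. -/
theorem diag_scalar {κ : Type} [Fintype κ] [DecidableEq κ] {u : κ → ι → F} (hu : IsFrame Q u)
    {X : (ι → F) →ₗ[F] (ι → F)} {lam : κ → F} (hX : ∀ i, X (u i) = lam i • u i)
    (h : ∀ ρ ∈ commutator (O Q), ∀ v, X (app ρ (X (app ρ⁻¹ v))) = app ρ (X (app ρ⁻¹ (X v))))
    (i j : κ) : lam i = lam j := by
  by_contra hne
  classical
  set S := Finset.univ.filter fun k => lam k = lam i with hS_def
  let f : F → F := fun x => if x = lam i then 1 else 0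
  obtain ⟨P, hP⟩ := exists_diag hu (f ∘ lam)
  have hPP : ∀ ρ ∈ commutator (O Q), ∀ v, P (app ρ (P (app ρ⁻¹ v))) = app ρ (P (app ρ⁻¹ (P v))) := by
    have step : ∀ ρ ∈ commutator (O Q), ∀ v, P (app ρ (X (app ρ⁻¹ v))) = app ρ (X (app ρ⁻¹ (P v))) :=
      fun ρ hρ v => comm_diag hu hX (Y := (app ρ).comp (X.comp (app ρ⁻¹))) (h ρ hρ) f hP v
    intro ρ hρ v
    refine comm_diag hu hX (Y := (app ρ).comp (P.comp (app ρ⁻¹))) (fun z => ?_) f hP v
    have e := congrArg (app ρ) (step ρ⁻¹ (inv_mem hρ) (app ρ⁻¹ z))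
    simp only [inv_inv, app_app_inv] at e
    exact e.symm
  have hSne : S.Nonempty := ⟨i, by simp [hS_def]⟩
  have hS'ne : Sᶜ.Nonempty := ⟨j, by simp [hS_def, Ne.symm hne]⟩
  have hcompl : Sᶜ ≠ S := fun e => by
    obtain ⟨k, hk⟩ := hSne
    exact Finset.mem_compl.1 (e.symm ▸ hk) hk
  have hone : ∀ {T : Finset κ}, T = S ∨ T = Sᶜ → ∃ c : F, (∀ k ∈ T, (f ∘ lam) k = c) ∧ (c = 1 ↔ T = S) := by
    rintro T (rfl | rfl)
    · exact ⟨1, fun k hk => by simp [hS_def] at hk; simp [f, hk], by simp⟩
    · refine ⟨0, fun k hk => by simp [hS_def] at hk; simp [f, hk], by simp [hcompl]⟩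
  obtain ⟨α₁, hα₁, hα₁'⟩ := hone (T := S) (Or.inl rfl)
  obtain ⟨α₂, hα₂, hα₂'⟩ := hone (T := Sᶜ) (Or.inr rfl)
  have hα : α₁ ≠ α₂ := fun h => hcompl (hα₂'.1 (h ▸ hα₁'.2 rfl))
  have hsym := polar_diag hu hP
  have core : ∀ {T T' : Finset κ} {β β' : F}, (∀ k ∈ T, (f ∘ lam) k = β) → (∀ k ∈ T', (f ∘ lam) k = β') →
      β ≠ β' → Disjoint T T' → ∀ {x y : ι → F}, InBlock Q u T x → InBlock Q u T' y → Q x ≠ 0 → y ≠ 0 →
      Q x + Q y ≠ 0 → Q x ≠ Q y → ∀ {z'} {γ : F}, P z' = γ • z' → Q z' = Q x + Q y → False := by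
    intro T T' β β' hT hT' hβ hd x y hx hy hqx hy0 h1 h2 z' γ hz hqz
    have hxy : polar Q x y = 0 := by
      rw [hx.eq_sum hu, ← polarBilin_apply_apply, map_sum, LinearMap.sum_apply]
      refine Finset.sum_eq_zero fun k hk => ?_
      rw [map_smul, LinearMap.smul_apply, polarBilin_apply_apply,
        show polar Q (u k) y = 0 by rw [polar_comm]; exact hy k (Finset.disjoint_left.1 hd hk), smul_zero]
    obtain ⟨ρ, hρ, v, hv⟩ := noncomm_core hg hsym (diag_block hu hP hT hx) (diag_block hu hP hT' hy) hz hxy hqx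
      h1 h2 hβ hy0 hqz
    exact hv (hPP ρ hρ v)
  have hd : Disjoint S Sᶜ := disjoint_compl_right
  rcases CfsgLib.TensorOdd.card_field (F := F) hg.two with hq | hq
  · rcases exists_singular_split hg hu hq hSne hS'ne with ⟨y, hy, hqy, hy0⟩ | ⟨y, hy, hqy, hy0⟩
    · obtain ⟨k, hk⟩ := hS'ne
      exact core hα₂ hα₁ (Ne.symm hα) hd.symm (InBlock.vec hu hk) hy (hu.nz k) hy0
        (by rw [hqy, add_zero]; exact hu.nz k) (by rw [hqy]; exact hu.nz k) (z' := u k) (hP k)
        (by rw [hqy, add_zero])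
    · obtain ⟨k, hk⟩ := hSne
      exact core hα₁ hα₂ hα hd (InBlock.vec hu hk) hy (hu.nz k) hy0
        (by rw [hqy, add_zero]; exact hu.nz k) (by rw [hqy]; exact hu.nz k) (z' := u k) (hP k)
        (by rw [hqy, add_zero])
  · have hsum : S.card + Sᶜ.card = Fintype.card ι := by rw [Finset.card_add_card_compl, hu.card]
    have h3 := hg.three
    have main : ∀ {T T' : Finset κ} {β β' : F}, (∀ k ∈ T, (f ∘ lam) k = β) → (∀ k ∈ T', (f ∘ lam) k = β') →
        β ≠ β' → Disjoint T T' → T.Nonempty → 2 ≤ T'.card → False := by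
      intro T T' β β' hT hT' hβ hd' ⟨k, hk⟩ hc
      obtain ⟨c, hc'⟩ : ∃ c, c ∈ (Finset.univ : Finset F) \ {0, Q (u k), -Q (u k)} := by
        refine Finset.card_pos.1 ?_
        have h1 := Finset.le_card_sdiff ({0, Q (u k), -Q (u k)} : Finset F) Finset.univ
        have h2 := Finset.card_le_three (a := (0 : F)) (b := Q (u k)) (c := -Q (u k))
        rw [Finset.card_univ] at h1
        omega
      simp only [Finset.mem_sdiff, Finset.mem_univ, true_and, Finset.mem_insert, Finset.mem_singleton, not_or] at hc'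
      obtain ⟨y, hy, hqy⟩ := exists_value_block hu hc c
      obtain ⟨z', hz', hqz⟩ := exists_value_block hu hc (Q (u k) + c)
      exact core hT hT' hβ hd' (InBlock.vec hu hk) hy (hu.nz k) (fun h => hc'.1 (by rw [← hqy, h, QuadraticMap.map_zero]))
        (fun h => hc'.2.2 (by rw [← hqy]; linear_combination h)) (fun h => hc'.2.1 (by rw [← hqy, h]))
        (diag_block hu hP hT' hz') (by rw [hqz, hqy])
    by_cases h2 : 2 ≤ Sᶜ.card
    · exact main hα₁ hα₂ hα hd hSne h2
    · exact main hα₂ hα₁ (Ne.symm hα) hd.symm hS'ne (by omega)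

end Good

namespace Data

variable {q : QuadraticForm F (ι → F)} {a b : ℕ} {D : Data q a b}

theorem adj_tpL {X : (Fin a → F) →ₗ[F] (Fin a → F)} (hsym : ∀ v w, polar D.q1 (X v) w = polar D.q1 v (X w))
    (c : Fin b → F) (y : Fin a → F) (c' : Fin b → F) :
    D.adj ((D.tpL c).comp X) (D.tp y c') = polar D.q2 c' c • X y :=
  ext_polar D.good1.nd fun x => by
    rw [polar_adj, LinearMap.comp_apply, polar_smul_left, hsym, smul_eq_mul, mul_comm]
    exact D.polar_tp _ _ _ _

/-- An element of a proper overgroup in a root group with a diagonal direction is scalar there. -/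
theorem Over.rad_diag {M : Subgroup (O q)} (hO : D.Over M) {u : Fin a → Fin a → F} (hu : IsFrame D.q1 u)
    {X : (Fin a → F) →ₗ[F] (Fin a → F)} {lam : Fin a → F} (hX : ∀ i, X (u i) = lam i • u i)
    {w c : Fin b → F} (hw : D.q2 w = 0) (hw0 : w ≠ 0) (hqc : D.q2 c ≠ 0)
    {K : (Fin a → F) →ₗ[F] (Fin a → F)} {g : O q} (hgM : g ∈ M) (h : D.IsRad w ((D.tpL c).comp X) K g)
    (i j : Fin a) : lam i = lam j := by
  refine diag_scalar D.good1 hu hX (fun ρ hρ v => ?_) i j
  have hsym := polar_diag hu hX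
  have hY : ∀ v w, polar D.q1 ((app ρ).comp (X.comp (app ρ⁻¹)) v) w =
      polar D.q1 v ((app ρ).comp (X.comp (app ρ⁻¹)) w) := fun v w => by
    simp only [LinearMap.comp_apply]
    conv_lhs => rw [← app_app_inv ρ w, polar_app, hsym]
    conv_rhs => rw [← app_app_inv ρ v, polar_app]
  have hΘ : (app (D.L ρ)).comp (((D.tpL c).comp X).comp (app ρ⁻¹)) =
      (D.tpL c).comp ((app ρ).comp (X.comp (app ρ⁻¹))) :=
    LinearMap.ext fun x => D.L_tp ρ _ c
  have h' := h.conj_L ρ
  rw [hΘ] at h'
  have hgM' := M.mul_mem (M.mul_mem (hO.le_L hρ) hgM) (M.inv_mem (hO.le_L hρ))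
  have e := hO.rad_comm hw hw0 hgM hgM' h h' v
  have k1 : ∀ Z : (Fin a → F) →ₗ[F] (Fin a → F), (D.tpL c).comp Z v = D.tp (Z v) c := fun Z => rfl
  rw [k1, k1, adj_tpL hY, adj_tpL hsym, polar_self'] at e
  exact ((smul_right_injective _ (mul_ne_zero D.two hqc)) e).symm

end Data

end CfsgLib.TensorOddMinus
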