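import Cfsg.Agent.Lib.TensorOddMinus.Data

/-!
Root groups at a singular slice: the group law, commutators, and the fact that a proper overgroup of the
stabiliser contains no non-trivial element which is the identity modulo a singular slice. Consequently the
elements of a root group lying in a proper overgroup commute.
-/

set_option autoImplicit false
set_option linter.unusedSectionVars false

namespace CfsgLib.TensorOddMinus

open Matrix QuadraticMap CfsgLib.Orth
open CfsgLib.TensorMax63 (Hyp mid mem_mid exists_hyp ext_polar exists_aniso)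

variable {ι : Type} [Fintype ι] [DecidableEq ι] {F : Type*} [Field F] [Fintype F]

/-- The skew map of two vectors. -/
noncomputable def sk {κ : Type} [Fintype κ] (p : QuadraticForm F (κ → F)) (a m : κ → F) :
    (κ → F) →ₗ[F] (κ → F) :=
  (p.polarBilin.flip a).smulRight m - (p.polarBilin.flip m).smulRight a

theorem sk_apply {κ : Type} [Fintype κ] (p : QuadraticForm F (κ → F)) (a m x : κ → F) :
    sk p a m x = polar p x a • m - polar p x m • a := rfl

variable {q : QuadraticForm F (ι → F)} {a b : ℕ}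

namespace Data

variable (D : Data q a b)

/-- An element of the root group of the slice of `w`. -/
structure IsRad (w : Fin b → F) (Θ : (Fin a → F) →ₗ[F] (ι → F)) (K : (Fin a → F) →ₗ[F] (Fin a → F))
    (g : O q) : Prop where
  ker : ∀ x, D.C w (Θ x) = 0
  eqn : ∀ z, app g z = z + Θ (D.C w z) - D.tp (D.adj Θ z) w + D.tp (K (D.C w z)) w

theorem adj_add (Θ Θ' : (Fin a → F) →ₗ[F] (ι → F)) (z : ι → F) :
    D.adj (Θ + Θ') z = D.adj Θ z + D.adj Θ' z :=
  ext_polar D.good1.nd fun x => by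
    rw [polar_add_left, polar_adj, polar_adj, polar_adj, LinearMap.add_apply, polar_add_right]

theorem adj_zero (z : ι → F) : D.adj 0 z = 0 :=
  ext_polar D.good1.nd fun x => by
    rw [polar_adj, LinearMap.zero_apply, polar_zero_right, polar_zero_left]

theorem C_self {w : Fin b → F} (hw : D.q2 w = 0) (x : Fin a → F) : D.C w (D.tp x w) = 0 := by
  rw [C_tp, polar_self', hw, mul_zero, zero_smul]

variable {D}

theorem adj_tp {w : Fin b → F} {Θ : (Fin a → F) →ₗ[F] (ι → F)} (hk : ∀ x, D.C w (Θ x) = 0) (x : Fin a → F) :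
    D.adj Θ (D.tp x w) = 0 :=
  ext_polar D.good1.nd fun x' => by
    rw [polar_adj, polar_comm, ← polar_C, hk, polar_zero_left, polar_zero_left]

theorem IsRad.C_app {w : Fin b → F} (hw : D.q2 w = 0) {Θ : (Fin a → F) →ₗ[F] (ι → F)}
    {K : (Fin a → F) →ₗ[F] (Fin a → F)} {g : O q} (h : D.IsRad w Θ K g) (z : ι → F) :
    D.C w (app g z) = D.C w z := by
  rw [h.eqn, map_add, map_sub, map_add, h.ker, D.C_self hw, D.C_self hw, add_zero, add_zero, sub_zero]

theorem IsRad.mul {w : Fin b → F} (hw : D.q2 w = 0) {Θ Θ' : (Fin a → F) →ₗ[F] (ι → F)}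
    {K K' : (Fin a → F) →ₗ[F] (Fin a → F)} {g g' : O q} (h : D.IsRad w Θ K g) (h' : D.IsRad w Θ' K' g') :
    D.IsRad w (Θ + Θ') (K + K' - (D.adj Θ).comp Θ') (g * g') := by
  refine ⟨fun x => by rw [LinearMap.add_apply, map_add, h.ker, h'.ker, add_zero], fun z => ?_⟩
  rw [app_mul, h.eqn, h'.C_app hw, h'.eqn z]
  simp only [map_add, map_sub, adj_tp h.ker, D.adj_add, LinearMap.add_apply, LinearMap.sub_apply,
    LinearMap.comp_apply, D.tp_add_left, D.tp_sub_left, sub_zero, add_zero]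
  abel

theorem IsRad.ext {w : Fin b → F} {Θ : (Fin a → F) →ₗ[F] (ι → F)} {K : (Fin a → F) →ₗ[F] (Fin a → F)}
    {g g' : O q} (h : D.IsRad w Θ K g) (h' : D.IsRad w Θ K g') : g = g' :=
  ext_app fun z => by rw [h.eqn, h'.eqn]

theorem IsRad.one {w : Fin b → F} : D.IsRad w 0 0 (1 : O q) :=
  ⟨fun x => map_zero _, fun z => by rw [app_one, D.adj_zero, D.tp_zero_left]; simp [D.tp_zero_left]⟩

/-- The commutator of two elements of a root group is the identity modulo the slice. -/
theorem IsRad.commutator {w : Fin b → F} (hw : D.q2 w = 0) {Θ Θ' : (Fin a → F) →ₗ[F] (ι → F)}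
    {K K' : (Fin a → F) →ₗ[F] (Fin a → F)} {g g' : O q} (h : D.IsRad w Θ K g) (h' : D.IsRad w Θ' K' g') :
    D.IsRad w 0 ((D.adj Θ').comp Θ - (D.adj Θ).comp Θ') (g * g' * (g' * g)⁻¹) := by
  refine ⟨fun x => map_zero _, fun z => ?_⟩
  obtain ⟨u, rfl⟩ : ∃ u, app (g' * g) u = z := ⟨app (g' * g)⁻¹ z, app_app_inv _ z⟩
  rw [app_mul (g * g'), app_inv_app, (h'.mul hw h).C_app hw, (h.mul hw h').eqn, (h'.mul hw h).eqn]
  simp only [D.adj_add, D.adj_zero, D.tp_zero_left, LinearMap.add_apply, LinearMap.sub_apply, LinearMap.comp_apply,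
    LinearMap.zero_apply, D.tp_add_left, D.tp_sub_left]
  abel

/-- The skew map in `M` at the slice of `w`. -/
def InW (D : Data q a b) (M : Subgroup (O q)) (w : Fin b → F) (K : (Fin a → F) →ₗ[F] (Fin a → F)) : Prop :=
  ∃ g ∈ M, D.IsRad w 0 K g

variable {M : Subgroup (O q)}

theorem InW.add {w : Fin b → F} (hw : D.q2 w = 0) {K K' : (Fin a → F) →ₗ[F] (Fin a → F)}
    (h : D.InW M w K) (h' : D.InW M w K') : D.InW M w (K + K') := by
  obtain ⟨g, hg, e⟩ := h
  obtain ⟨g', hg', e'⟩ := h'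
  refine ⟨g * g', M.mul_mem hg hg', ?_⟩
  have := e.mul hw e'
  rwa [add_zero, show (D.adj 0).comp (0 : (Fin a → F) →ₗ[F] (ι → F)) = 0 from LinearMap.comp_zero _, sub_zero]
    at this

theorem InW.neg {w : Fin b → F} (hw : D.q2 w = 0) {K : (Fin a → F) →ₗ[F] (Fin a → F)}
    (h : D.InW M w K) : D.InW M w (-K) := by
  obtain ⟨g, hg, e⟩ := h
  refine ⟨g⁻¹, M.inv_mem hg, fun x => map_zero _, fun z => app_injective g ?_⟩
  rw [app_app_inv]
  simp only [map_add, map_sub, e.eqn, D.adj_zero, D.tp_zero_left, LinearMap.zero_apply, LinearMap.neg_apply,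
    D.tp_neg_left, map_neg, D.C_self hw, map_zero, sub_zero, add_zero]
  abel

theorem InW.skew {w : Fin b → F} (hw : D.q2 w = 0) (hw0 : w ≠ 0) {K : (Fin a → F) →ₗ[F] (Fin a → F)}
    (h : D.InW M w K) (x y : Fin a → F) : polar D.q1 (K x) y + polar D.q1 x (K y) = 0 := by
  obtain ⟨g, -, e⟩ := h
  obtain ⟨w', P⟩ := exists_hyp D.good2.nd hw hw0
  have hval : ∀ x, app g (D.tp x w') = D.tp x w' + D.tp (K x) w := fun x => by
    rw [e.eqn, D.adj_zero, D.tp_zero_left, C_tp, P.pair', one_smul]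
    simp
  have h1 := polar_app g (D.tp x w') (D.tp y w')
  rw [hval, hval] at h1
  simp only [polar_add_left, polar_add_right, D.polar_tp, P.self₁, P.pair, P.pair', mul_zero, mul_one,
    add_zero] at h1
  linear_combination h1

variable (D)

theorem C_L (ρ : O D.q1) (φ : Fin b → F) (z : ι → F) : D.C φ (app (D.L ρ) z) = app ρ (D.C φ z) := by
  have h : (D.C φ).comp (app (D.L ρ)) = (app ρ).comp (D.C φ) := D.ext_tp fun u v => by
    rw [LinearMap.comp_apply, LinearMap.comp_apply, D.L_tp, C_tp, C_tp, map_smul]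
  exact LinearMap.congr_fun h z

variable {D}

/-- Conjugation by the first factor. -/
theorem IsRad.conj_L {w : Fin b → F} {Θ : (Fin a → F) →ₗ[F] (ι → F)}
    {K : (Fin a → F) →ₗ[F] (Fin a → F)} {g : O q} (h : D.IsRad w Θ K g) (ρ : O D.q1) :
    D.IsRad w ((app (D.L ρ)).comp (Θ.comp (app ρ⁻¹))) ((app ρ).comp (K.comp (app ρ⁻¹)))
      (D.L ρ * g * (D.L ρ)⁻¹) := by
  refine ⟨fun x => by rw [LinearMap.comp_apply, C_L, LinearMap.comp_apply, h.ker, map_zero], fun z => ?_⟩
  obtain ⟨u, rfl⟩ : ∃ u, app (D.L ρ) u = z := ⟨app (D.L ρ)⁻¹ z, app_app_inv _ z⟩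
  have hadj : D.adj ((app (D.L ρ)).comp (Θ.comp (app ρ⁻¹))) (app (D.L ρ) u) = app ρ (D.adj Θ u) :=
    ext_polar D.good1.nd fun x => by
      rw [polar_adj, LinearMap.comp_apply, polar_app, LinearMap.comp_apply, ← polar_adj, ← polar_app ρ,
        app_app_inv]
  rw [app_mul, app_mul, app_inv_app, h.eqn, hadj, C_L, map_add, map_sub, map_add, D.L_tp, D.L_tp]
  simp only [LinearMap.comp_apply, app_inv_app]

theorem InW.conj (hO : D.Over M) {w : Fin b → F} {K : (Fin a → F) →ₗ[F] (Fin a → F)} (h : D.InW M w K)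
    {ρ : O D.q1} (hρ : ρ ∈ _root_.commutator (O D.q1)) : D.InW M w ((app ρ).comp (K.comp (app ρ⁻¹))) := by
  obtain ⟨g, hg, e⟩ := h
  refine ⟨_, M.mul_mem (M.mul_mem (hO.le_L hρ) hg) (M.inv_mem (hO.le_L hρ)), ?_⟩
  have := e.conj_L ρ
  rwa [show (app (D.L ρ)).comp ((0 : (Fin a → F) →ₗ[F] (ι → F)).comp (app ρ⁻¹)) = 0 by simp] at this

variable (D)

theorem conj_sk (ρ : O D.q1) (s m : Fin a → F) :
    (app ρ).comp ((sk D.q1 s m).comp (app ρ⁻¹)) = sk D.q1 (app ρ s) (app ρ m) := by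
  refine LinearMap.ext fun x => ?_
  have h : ∀ v, polar D.q1 (app ρ⁻¹ x) v = polar D.q1 x (app ρ v) := fun v => by
    rw [← polar_app ρ, app_app_inv]
  simp only [LinearMap.comp_apply, sk_apply, map_sub, map_smul, h]

/-- The elements with both centre and direction in one singular slice. -/
theorem isRad_slice {w : Fin b → F} (hw : D.q2 w = 0) {s d : Fin a → F} (hsd : polar D.q1 s d = 0) :
    D.IsRad w 0 (sk D.q1 s d) (eich q (D.tp s w) (D.tp d w)) := by
  refine ⟨fun x => map_zero _, fun z => ?_⟩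
  have h0 : ∀ x, q (D.tp x w) = 0 := fun x => by rw [D.Q_tp, hw, mul_zero]
  rw [app_eich (h0 s) (by rw [D.polar_tp, hsd, zero_mul]), h0, D.adj_zero, D.tp_zero_left, sk_apply,
    D.tp_sub_left, D.tp_smul_left, D.tp_smul_left, polar_C, polar_C]
  simp
  abel

/-- The root element of the second factor. -/
theorem isRad_R {w c : Fin b → F} (hw : D.q2 w = 0) (hc : polar D.q2 w c = 0) :
    D.IsRad w (D.tpL c) (-D.q2 c • LinearMap.id) (D.R (eich D.q2 w c)) := by
  refine ⟨fun x => by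
    show D.C w (D.tp x c) = 0
    rw [C_tp, polar_comm, hc, zero_smul], fun z => ?_⟩
  have hadj : ∀ z, D.adj (D.tpL c) z = D.C c z := fun z => ext_polar D.good1.nd fun x => by
    rw [polar_adj, polar_C]; rfl
  have h : app (D.R (eich D.q2 w c)) = LinearMap.id + (D.tpL c).comp (D.C w) - (D.tpL w).comp (D.C c) +
      (D.tpL w).comp ((-D.q2 c • LinearMap.id : (Fin a → F) →ₗ[F] (Fin a → F)).comp (D.C w)) :=
    D.ext_tp fun x y => by
      simp only [LinearMap.add_apply, LinearMap.sub_apply, LinearMap.comp_apply, LinearMap.id_apply, D.R_tp,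
        app_eich hw hc, D.tp_add_right, D.tp_smul_right, C_tp, LinearMap.smul_apply, map_smul, smul_smul]
      show _ = D.tp x y + polar D.q2 y w • D.tp x c - polar D.q2 y c • D.tp x w + _ • D.tp x w
      module
  rw [h, hadj]
  rfl

/-- The elements with centre and direction in a slice of each kind lie in `M`. -/
def T1 (M : Subgroup (O q)) (s : Fin a → F) (w : Fin b → F) : Prop :=
  ∀ d, polar D.q1 s d = 0 → eich q (D.tp s w) (D.tp d w) ∈ M

variable {D}

/-- One skew map in `M` gives a whole singular point of the first factor. -/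
theorem exists_T1 (hO : D.Over M) {w : Fin b → F} (hw : D.q2 w = 0) (hw0 : w ≠ 0)
    {K : (Fin a → F) →ₗ[F] (Fin a → F)} (h : D.InW M w K) (hK : K ≠ 0) :
    ∃ s, D.q1 s = 0 ∧ s ≠ 0 ∧ D.T1 M s w := by
  have hsk := h.skew hw hw0
  have h2 := D.two
  obtain ⟨s, hs, hs0, hKs⟩ : ∃ s, D.q1 s = 0 ∧ s ≠ 0 ∧ ∀ t : F, K s ≠ t • s := by
    by_contra hc
    push Not at hc
    obtain ⟨t, ht⟩ := scalar_of_lines D.good1 K fun s hs hs0 => hc s hs hs0
    obtain ⟨x, hx⟩ := exists_anisotropic D.good1.nd (le_trans (by norm_num) D.good1.three)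
    have := hsk x x
    rw [ht, polar_smul_left, polar_smul_right, polar_self', smul_eq_mul, ← two_mul] at this
    have ht0 : t = 0 := ((mul_eq_zero.1 ((mul_eq_zero.1 this).resolve_left h2))).resolve_right
      (mul_ne_zero h2 hx)
    exact hK (LinearMap.ext fun y => by rw [ht, ht0, zero_smul]; rfl)
  obtain ⟨s', P⟩ := exists_hyp D.good1.nd hs hs0
  have hsKs : polar D.q1 s (K s) = 0 := by
    have := hsk s s
    rw [polar_comm (f := ⇑D.q1) (K s), ← two_mul] at this
    exact (mul_eq_zero.1 this).resolve_left h2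
  set r := K s - polar D.q1 s' (K s) • s with hr
  have hrm : r ∈ mid D.q1 s s' := by
    have := P.proj_mem (K s)
    rwa [hsKs, zero_smul, sub_zero] at this
  obtain ⟨c, hc, hqc⟩ := exists_aniso (P.nondeg_mid D.good1.nd) (fun hb => hKs (polar D.q1 s' (K s)) (by
    have : r ∈ (⊥ : Submodule F (Fin a → F)) := hb ▸ hrm
    rwa [Submodule.mem_bot, hr, sub_eq_zero] at this))
  have hsc := (mem_mid.1 hc).1
  -- the second difference along the root group of `s`
  set d := (-(2 * D.q1 c)) • K s + (2 * polar D.q1 (K s) c) • c with hd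
  have hsd : polar D.q1 s d = 0 := by
    rw [hd, polar_add_right, polar_smul_right, polar_smul_right, hsKs, hsc, smul_zero, smul_zero, add_zero]
  have hW : D.InW M w (sk D.q1 s d) := by
    have hnc : polar D.q1 s (-c) = 0 := by rw [polar_neg_right, hsc, neg_zero]
    have e := InW.add hw (InW.add hw (h.conj hO (eich_mem D.good1 hs hsc)) (h.conj hO (eich_mem D.good1 hs hnc)))
      (InW.add hw (InW.neg hw h) (InW.neg hw h))
    convert e using 2
    refine LinearMap.ext fun x => ?_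
    have hi : ∀ {v : Fin a → F}, polar D.q1 s v = 0 →
        app (eich D.q1 s v)⁻¹ x = app (eich D.q1 s (-v)) x := fun {v} hv => by
      rw [CfsgLib.POmega.eich_neg_inv hs hv]
    have k1 : polar D.q1 (K c) c = 0 := by
      have := hsk c c
      rw [polar_comm (f := ⇑D.q1) c, ← two_mul] at this
      exact (mul_eq_zero.1 this).resolve_left h2
    have k2 : polar D.q1 (K c) s = -polar D.q1 (K s) c := by
      rw [polar_comm (f := ⇑D.q1) (K s)]; exact eq_neg_of_add_eq_zero_left (hsk c s)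
    have k3 : ∀ v, polar D.q1 (K x) v = -polar D.q1 x (K v) := fun v => eq_neg_of_add_eq_zero_left (hsk x v)
    have k4 : polar D.q1 (K s) s = 0 := by rw [polar_comm, hsKs]
    simp only [LinearMap.add_apply, LinearMap.neg_apply, LinearMap.comp_apply, hi hsc, hi hnc, neg_neg,
      app_eich hs hsc, app_eich hs hnc, map_add, map_smul, map_neg, polar_add_left, polar_smul_left,
      polar_neg_left, polar_neg_right, k1, k2, k3, k4, QuadraticMap.map_neg, smul_eq_mul, sk_apply, hd,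
      polar_add_right, polar_smul_right]
    match_scalars <;> ring
  let S : AddSubgroup (Fin a → F) :=
    { carrier := {m | m ∈ mid D.q1 s s' ∧ D.InW M w (sk D.q1 s m)}
      zero_mem' := ⟨Submodule.zero_mem _, 1, M.one_mem, by
        rw [show sk D.q1 s 0 = 0 from LinearMap.ext fun x => by simp [sk_apply]]; exact IsRad.one⟩
      add_mem' := fun {m n} hm hn => ⟨Submodule.add_mem _ hm.1 hn.1, by
        rw [show sk D.q1 s (m + n) = sk D.q1 s m + sk D.q1 s n from LinearMap.ext fun x => by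
          simp [sk_apply, polar_add_right]; module]
        exact InW.add hw hm.2 hn.2⟩
      neg_mem' := fun {m} hm => ⟨Submodule.neg_mem _ hm.1, by
        rw [show sk D.q1 s (-m) = -sk D.q1 s m from LinearMap.ext fun x => by
          simp [sk_apply, polar_neg_right]; module]
        exact InW.neg hw hm.2⟩ }
  have hskadd : ∀ (m : Fin a → F) (t : F), sk D.q1 s (m + t • s) = sk D.q1 s m := fun m t => LinearMap.ext fun x => by
    simp [sk_apply, polar_add_right, polar_smul_right]; module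
  have hskscale : ∀ (m : Fin a → F) (t : F), sk D.q1 (t • s) m = sk D.q1 s (t • m) := fun m t =>
    LinearMap.ext fun x => by simp [sk_apply, polar_smul_right]; module
  have hm₀ : (-(2 * D.q1 c)) • app (refl D.q1 c) r ∈ S := by
    refine ⟨Submodule.smul_mem _ _ (mid_refl hc hrm), ?_⟩
    convert hW using 1
    conv_rhs => rw [← hskadd d (2 * D.q1 c * polar D.q1 s' (K s))]
    congr 1
    rw [app_refl, hd, hr, polar_sub_left, polar_smul_left, hsc]
    match_scalars <;> field_simp <;> simp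
  have hm0 : (-(2 * D.q1 c)) • app (refl D.q1 c) r ≠ 0 := by
    refine smul_ne_zero (neg_ne_zero.2 (mul_ne_zero h2 hqc)) fun h0 => ?_
    have hr0 : r = 0 := app_injective _ (by rw [h0, map_zero])
    exact hKs _ (sub_eq_zero.1 hr0)
  have hall : ∀ m ∈ mid D.q1 s s', D.InW M w (sk D.q1 s m) := fun m hm => by
    refine (mid_eq_of_stable D.good1 P S (fun m hm => hm.1) (fun k hk m hm => ?_)
      (fun y hy hqy z hz hqz m hm => ?_) hm₀ hm0 hm).2
    · obtain ⟨ρ, hρ, e1, -, e3⟩ := exists_torus D.good1 P hk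
      refine ⟨Submodule.smul_mem _ _ hm.1, ?_⟩
      have := hm.2.conj hO hρ
      rwa [D.conj_sk, e1, e3 m hm.1, hskscale] at this
    · obtain ⟨ρ, hρ, t, ht, e1, -, e3⟩ := exists_rot D.good1 P hy hqy hz hqz
      refine ⟨t, ht, Submodule.smul_mem _ _ (mid_refl hy (mid_refl hz hm.1)), ?_⟩
      have := hm.2.conj hO hρ
      rwa [D.conj_sk, e1, e3 m hm.1, hskscale] at this
  refine ⟨s, hs, hs0, fun d' hd' => ?_⟩
  have hproj := P.proj_mem d'
  rw [hd', zero_smul, sub_zero] at hproj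
  obtain ⟨g, hg, e⟩ := hall _ hproj
  have e' := D.isRad_slice hw hd'
  rw [show sk D.q1 s d' = sk D.q1 s (d' - polar D.q1 s' d' • s) by
    conv_lhs => rw [← sub_add_cancel d' (polar D.q1 s' d' • s), hskadd]] at e'
  exact (e'.ext e) ▸ hg

/-- The root elements are moved by the stabiliser. -/
theorem T1.transport (hO : D.Over M) {s : Fin a → F} {w : Fin b → F} (hs : D.q1 s = 0) (hs0 : s ≠ 0)
    (hw : D.q2 w = 0) (hw0 : w ≠ 0) (h : D.T1 M s w) {s' : Fin a → F} {w' : Fin b → F} (hs' : D.q1 s' = 0)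
    (hs'0 : s' ≠ 0) (hw' : D.q2 w' = 0) (hw'0 : w' ≠ 0) : D.T1 M s' w' := by
  intro d hd
  obtain ⟨ρ, hρ, t, ht, e⟩ := exists_line D.good1 hs' hs'0 hs hs0
  obtain ⟨σ, hσ, r, hr, e'⟩ := exists_line D.good2 hw' hw'0 hw hw0
  set g := D.L ρ * D.R σ with hg
  have hgM : g ∈ M := M.mul_mem (hO.le_L hρ) (hO.le_R hσ)
  set d₀ := (t * r * r)⁻¹ • app ρ⁻¹ d with hd₀
  have hsd : polar D.q1 s d₀ = 0 := by
    rw [hd₀, polar_smul_right, ← polar_app ρ, app_app_inv, e, polar_smul_left, hd, smul_zero, smul_zero]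
  have h1 := M.mul_mem (M.mul_mem hgM (h d₀ hsd)) (M.inv_mem hgM)
  have h0 : ∀ x, q (D.tp x w) = 0 := fun x => by rw [D.Q_tp, hw, mul_zero]
  have h0' : ∀ x, q (D.tp x w') = 0 := fun x => by rw [D.Q_tp, hw', mul_zero]
  rw [eich_conj (h0 s) (by rw [D.polar_tp, hsd, zero_mul])] at h1
  simp only [hg, app_mul, D.R_tp, D.L_tp, e, e', hd₀, map_smul, app_app_inv, D.tp_smul_left, D.tp_smul_right,
    smul_smul] at h1
  rw [CfsgLib.POmega.eich_smul (h0' s') (by rw [polar_smul_right, D.polar_tp, hd, zero_mul, smul_zero])] at h1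
  convert h1 using 2
  rw [smul_smul]
  convert (one_smul F (D.tp d w')).symm using 2
  field_simp

/-- Both kinds of root elements. -/
theorem exists_swap (hO : D.Over M) {s : Fin a → F} {w : Fin b → F} (hs : D.q1 s = 0) (hs0 : s ≠ 0)
    (hw : D.q2 w = 0) (hw0 : w ≠ 0) (h : D.T1 M s w) :
    ∃ K, D.swap.InW M s K ∧ K ≠ 0 := by
  obtain ⟨s', P⟩ := exists_hyp D.good1.nd hs hs0
  obtain ⟨d, hdm, hqd⟩ := exists_aniso (P.nondeg_mid D.good1.nd) (fun hb => by
    have e := P.finrank_mid D.good1.nd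
    rw [hb, finrank_bot] at e
    have := D.good1.three
    omega)
  have hsd := (mem_mid.1 hdm).1
  obtain ⟨w', P'⟩ := exists_hyp D.good2.nd hw hw0
  have hw'0 : w' ≠ 0 := fun h0 => one_ne_zero (by rw [← P'.pair, h0, polar_zero_right])
  have h' := T1.transport hO hs hs0 hw hw0 h hs hs0 P'.q₂ hw'0
  have hrad : ∀ v : Fin b → F, D.q2 v = 0 → D.swap.IsRad s
      ((D.q2.polarBilin.flip v).smulRight (D.tp d v)) 0 (eich q (D.tp s v) (D.tp d v)) := by
    intro v hv
    refine ⟨fun y => ?_, fun z => ?_⟩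
    · rw [LinearMap.smulRight_apply, map_smul, ← D.swap_tp, Data.C_tp]
      show _ • polar D.q1 d s • _ = 0
      rw [polar_comm, hsd, zero_smul, smul_zero]
    have hC : polar D.q2 (D.swap.C s z) v = polar q z (D.tp s v) := by
      rw [← D.swap_tp]; exact D.swap.polar_C s z v
    have hadj : D.swap.adj ((D.q2.polarBilin.flip v).smulRight (D.tp d v)) z = polar q z (D.tp d v) • v :=
      ext_polar D.good2.nd fun y => by
        refine (D.swap.polar_adj _ z y).trans ?_
        rw [LinearMap.smulRight_apply, polar_smul_right, polar_smul_left, LinearMap.flip_apply,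
          polarBilin_apply_apply, smul_eq_mul, smul_eq_mul, polar_comm (f := ⇑D.q2) y, mul_comm]
    have e1 : q (D.tp s v) = 0 := by rw [D.Q_tp, hv, mul_zero]
    have e2 : q (D.tp d v) = 0 := by rw [D.Q_tp, hv, mul_zero]
    rw [app_eich e1 (by rw [D.polar_tp, hsd, zero_mul]), e2, hadj, LinearMap.zero_apply, D.swap.tp_zero_left,
      D.swap_tp, LinearMap.smulRight_apply, LinearMap.flip_apply, polarBilin_apply_apply, hC, D.tp_smul_right]
    module
  refine ⟨_, ⟨_, ?_, (hrad w hw).commutator (D := D.swap) hs (hrad w' P'.q₂)⟩, fun h0 => ?_⟩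
  · exact M.mul_mem (M.mul_mem (h d hsd) (h' d hsd)) (M.inv_mem (M.mul_mem (h' d hsd) (h d hsd)))
  have h1 := congrArg (fun f : (Fin b → F) →ₗ[F] (Fin b → F) => polar D.q2 (f w) w') h0
  simp only [LinearMap.sub_apply, LinearMap.comp_apply, LinearMap.smulRight_apply, map_smul,
    LinearMap.flip_apply, polarBilin_apply_apply, P'.self₁, zero_smul, LinearMap.zero_apply, polar_zero_left,
    polar_sub_left, polar_smul_left, P'.pair, smul_zero, one_smul, zero_sub, map_zero, polar_neg_left, neg_eq_zero] at h1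
  have h2 := (D.swap.polar_adj ((D.q2.polarBilin.flip w).smulRight (D.tp d w)) (D.tp d w') w').symm.trans
    h1
  simp only [LinearMap.smulRight_apply, LinearMap.flip_apply, polarBilin_apply_apply, P'.pair', one_smul,
    D.polar_tp, mul_one, polar_self'] at h2
  exact mul_ne_zero D.two hqd h2

/-- The root group of a pure singular tensor lies in `M` as soon as both kinds of root elements do. -/
theorem full_of_both (h1 : ∀ s w, D.q1 s = 0 → s ≠ 0 → D.q2 w = 0 → w ≠ 0 → D.T1 M s w)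
    (h2 : ∀ s w, D.q1 s = 0 → s ≠ 0 → D.q2 w = 0 → w ≠ 0 →
      ∀ m, polar D.q2 w m = 0 → eich q (D.tp s w) (D.tp s m) ∈ M)
    (hL : ∀ ρ ∈ _root_.commutator (O D.q1), D.L ρ ∈ M)
    {s s' : Fin a → F} (P : Hyp D.q1 s s') {w w' : Fin b → F} (P' : Hyp D.q2 w w') :
    CfsgLib.GeomClasses.OrthEich.Full M (D.tp s w) := by
  have hs0 := P.ne₁
  have hw0 := P'.ne₁
  have hs'0 : s' ≠ 0 := fun h0 => one_ne_zero (by rw [← P.pair, h0, polar_zero_right])
  have hw'0 : w' ≠ 0 := fun h0 => one_ne_zero (by rw [← P'.pair, h0, polar_zero_right])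
  set u := D.tp s w with hu_def
  have hu : q u = 0 := by rw [hu_def, D.Q_tp, P'.q₁, mul_zero]
  let S : Submodule F (ι → F) :=
    { carrier := {c | polar q u c = 0 ∧ ∀ t : F, eich q u (t • c) ∈ M}
      zero_mem' := ⟨polar_zero_right _ _, fun t => by
        rw [smul_zero, CfsgLib.POmega.eich_zero_right hu]; exact M.one_mem⟩
      add_mem' := fun {c c'} hc hc' => ⟨by rw [polar_add_right, hc.1, hc'.1, add_zero], fun t => by
        rw [smul_add, ← eich_add hu (by rw [polar_smul_right, hc.1, smul_zero])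
          (by rw [polar_smul_right, hc'.1, smul_zero])]
        exact M.mul_mem (hc.2 t) (hc'.2 t)⟩
      smul_mem' := fun r c hc => ⟨by rw [polar_smul_right, hc.1, smul_zero], fun t => by
        rw [smul_smul]; exact hc.2 _⟩ }
  have hA : ∀ d, polar D.q1 s d = 0 → D.tp d w ∈ S := fun d hd =>
    ⟨by rw [hu_def, D.polar_tp, hd, zero_mul], fun t => by
      rw [← D.tp_smul_left]; exact h1 s w P.q₁ hs0 P'.q₁ hw0 _ (by rw [polar_smul_right, hd, smul_zero])⟩
  have hB : ∀ m, polar D.q2 w m = 0 → D.tp s m ∈ S := fun m hm =>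
    ⟨by rw [hu_def, D.polar_tp, hm, mul_zero], fun t => by
      rw [← D.tp_smul_right]; exact h2 s w P.q₁ hs0 P'.q₁ hw0 _ (by rw [polar_smul_right, hm, smul_zero])⟩
  -- moving `S` by elements of `M` fixing `u`
  have hmove : ∀ g ∈ M, app g u = u → ∀ c ∈ S, app g c ∈ S := by
    intro g hg hgu c hc
    refine ⟨by rw [← hgu, polar_app]; exact hc.1, fun t => ?_⟩
    have h := M.mul_mem (M.mul_mem hg (hc.2 t)) (M.inv_mem hg)
    rwa [eich_conj hu (by rw [polar_smul_right, hc.1, smul_zero]), hgu, map_smul] at h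
  obtain ⟨d₁, hd₁, hqd₁⟩ := exists_aniso (P.nondeg_mid D.good1.nd) (fun hb => by
    have e := P.finrank_mid D.good1.nd
    rw [hb, finrank_bot] at e
    have := D.good1.three
    omega)
  obtain ⟨m₁, hm₁, hqm₁⟩ := exists_aniso (P'.nondeg_mid D.good2.nd) (fun hb => by
    have e := P'.finrank_mid D.good2.nd
    rw [hb, finrank_bot] at e
    have := D.good2.three
    omega)
  obtain ⟨hsd₁, hs'd₁⟩ := mem_mid.1 hd₁
  obtain ⟨hwm₁, hw'm₁⟩ := mem_mid.1 hm₁
  -- the element with centre `s' ⊗ w`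
  have hg : ∀ m ∈ mid D.q2 w w', eich q (D.tp s' w) (D.tp s' m) ∈ M ∧
      ∀ x y, app (eich q (D.tp s' w) (D.tp s' m)) (D.tp x y) = D.tp x y +
        (polar D.q1 x s' * polar D.q2 y w) • D.tp s' m + (-(polar D.q1 x s' * polar D.q2 y m)) • D.tp s' w := by
    intro m hm
    obtain ⟨hwm, -⟩ := mem_mid.1 hm
    refine ⟨h2 s' w P.q₂ hs'0 P'.q₁ hw0 m hwm, fun x y => ?_⟩
    rw [app_eich (by rw [D.Q_tp, P'.q₁, mul_zero]) (by rw [D.polar_tp, hwm, mul_zero]), D.polar_tp, D.polar_tp,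
      D.Q_tp, P.q₂]
    simp
  have hg' : ∀ d ∈ mid D.q1 s s', eich q (D.tp s w') (D.tp d w') ∈ M ∧
      ∀ x y, app (eich q (D.tp s w') (D.tp d w')) (D.tp x y) = D.tp x y +
        (polar D.q1 x s * polar D.q2 y w') • D.tp d w' + (-(polar D.q1 x d * polar D.q2 y w')) • D.tp s w' := by
    intro d hd
    obtain ⟨hsd, -⟩ := mem_mid.1 hd
    refine ⟨h1 s w' P.q₁ hs0 P'.q₂ hw'0 d hsd, fun x y => ?_⟩
    rw [app_eich (by rw [D.Q_tp, P'.q₂, mul_zero]) (by rw [D.polar_tp, hsd, zero_mul]), D.polar_tp, D.polar_tp,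
      D.Q_tp, P'.q₂]
    simp
  have hfix : ∀ m ∈ mid D.q2 w w', app (eich q (D.tp s' w) (D.tp s' m)) u = u := fun m hm => by
    rw [hu_def, (hg m hm).2, P'.self₁, polar_comm (f := ⇑D.q2) w, polar_comm (f := ⇑D.q2) m,
      (mem_mid.1 hm).1]
    simp
  have hfix' : ∀ d ∈ mid D.q1 s s', app (eich q (D.tp s w') (D.tp d w')) u = u := fun d hd => by
    rw [hu_def, (hg' d hd).2, P.self₁, (mem_mid.1 hd).1]
    simp
  have hs'w : D.tp s' w ∈ S := by
    have h := S.sub_mem (hmove _ (hg m₁ hm₁).1 (hfix m₁ hm₁) _ (hB m₁ hwm₁)) (hB m₁ hwm₁)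
    rw [(hg m₁ hm₁).2, P.pair, polar_comm (f := ⇑D.q2) m₁ w, hwm₁, polar_self'] at h
    simp only [mul_zero, zero_smul, add_zero, one_mul, add_sub_cancel_left] at h
    exact (Submodule.smul_mem_iff S (neg_ne_zero.2 (mul_ne_zero D.two hqm₁))).1 h
  have hsw' : D.tp s w' ∈ S := by
    have h := S.sub_mem (hmove _ (hg' d₁ hd₁).1 (hfix' d₁ hd₁) _ (hA d₁ hsd₁)) (hA d₁ hsd₁)
    rw [(hg' d₁ hd₁).2, P'.pair, polar_comm (f := ⇑D.q1) d₁ s, hsd₁, polar_self'] at h
    simp only [zero_mul, zero_smul, add_zero, mul_one, add_sub_cancel_left] at h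
    exact (Submodule.smul_mem_iff S (neg_ne_zero.2 (mul_ne_zero D.two hqd₁))).1 h
  have hs'm : ∀ m ∈ mid D.q2 w w', D.tp s' m ∈ S := fun m hm => by
    have h := S.sub_mem (hmove _ (hg m hm).1 (hfix m hm) _ hsw') hsw'
    rw [(hg m hm).2, P.pair, P'.pair', polar_comm (f := ⇑D.q2) w' m, polar_comm (f := ⇑D.q2) m w',
      (mem_mid.1 hm).2] at h
    simpa using h
  have hdw' : ∀ d ∈ mid D.q1 s s', D.tp d w' ∈ S := fun d hd => by
    have h := S.sub_mem (hmove _ (hg' d hd).1 (hfix' d hd) _ hs'w) hs'w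
    rw [(hg' d hd).2, P'.pair, P.pair', polar_comm (f := ⇑D.q1) s' d, polar_comm (f := ⇑D.q1) d s',
      (mem_mid.1 hd).2] at h
    simpa using h
  have hdm : ∀ d ∈ mid D.q1 s s', ∀ m ∈ mid D.q2 w w', D.tp d m ∈ S := by
    intro d hd m hm
    obtain ⟨hsd, hs'd⟩ := mem_mid.1 hd
    have hsm := hB m (mem_mid.1 hm).1
    have hρ := hL _ (eich_mem D.good1 P.q₁ hsd)
    have hu' : app (D.L (eich D.q1 s d)) u = u := by
      rw [hu_def, D.L_tp, app_eich P.q₁ hsd, P.self₁, hsd]
      simp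
    have h := hmove _ hρ hu' _ (hs'm m hm)
    rw [D.L_tp, app_eich P.q₁ hsd, P.pair', polar_comm (f := ⇑D.q1) s' d, polar_comm (f := ⇑D.q1) d s', hs'd,
      D.tp_add_left, D.tp_add_left, D.tp_smul_left, D.tp_smul_left] at h
    have := S.sub_mem (S.sub_mem h (hs'm m hm)) (S.smul_mem (-0 - D.q1 d * 1) hsm)
    convert this using 1
    module
  refine ⟨hu, fun c hc => ?_⟩
  -- everything is congruent to a multiple of `s' ⊗ w'`
  have hall : ∀ x y, D.tp x y - (polar D.q1 s x * polar D.q2 w y) • D.tp s' w' ∈ S := by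
    intro x y
    have hd := P.proj_mem x
    have hm := P'.proj_mem y
    set d := x - polar D.q1 s' x • s - polar D.q1 s x • s' with hd_def
    set m := y - polar D.q2 w' y • w - polar D.q2 w y • w' with hm_def
    have ex : x = polar D.q1 s' x • s + polar D.q1 s x • s' + d := by rw [hd_def]; abel
    have ey : y = polar D.q2 w' y • w + polar D.q2 w y • w' + m := by rw [hm_def]; abel
    have h := S.add_mem (S.add_mem (S.add_mem
      (S.smul_mem (polar D.q1 s' x * polar D.q2 w' y) (hA s P.self₁))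
      (S.smul_mem (polar D.q1 s' x * polar D.q2 w y) hsw')) (S.smul_mem (polar D.q1 s x * polar D.q2 w' y) hs'w))
      (S.add_mem (S.add_mem (S.smul_mem (polar D.q1 s' x) (hB m (mem_mid.1 hm).1))
        (S.smul_mem (polar D.q1 s x) (hs'm m hm)))
        (S.add_mem (S.add_mem (S.smul_mem (polar D.q2 w' y) (hA d (mem_mid.1 hd).1))
          (S.smul_mem (polar D.q2 w y) (hdw' d hd))) (hdm d hd m hm)))
    convert h using 1
    conv_lhs => arg 1; rw [ex, ey]
    simp only [D.tp_add_left, D.tp_add_right, D.tp_smul_left, D.tp_smul_right, smul_add, smul_smul]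
    module
  let f : (ι → F) →ₗ[F] (ι → F) := LinearMap.id - (q.polarBilin u).smulRight (D.tp s' w')
  have hf : ∀ z, f z ∈ S := by
    intro z
    have e : (Submodule.mkQ S).comp f = 0 := D.ext_tp fun x y => by
      rw [LinearMap.comp_apply, LinearMap.zero_apply, Submodule.mkQ_apply, Submodule.Quotient.mk_eq_zero]
      show D.tp x y - polar q u (D.tp x y) • D.tp s' w' ∈ S
      rw [hu_def, D.polar_tp]
      exact hall x y
    have := LinearMap.congr_fun e z
    rwa [LinearMap.comp_apply, LinearMap.zero_apply, Submodule.mkQ_apply, Submodule.Quotient.mk_eq_zero] at this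
  have := (hf c).2 1
  have e : f c = c := by
    show c - polar q u c • D.tp s' w' = c
    rw [hc, zero_smul, sub_zero]
  rwa [e, one_smul] at this

/-- A proper overgroup contains no non-trivial element which is the identity modulo a singular slice. -/
theorem Over.inW_eq_zero (hO : D.Over M) {w : Fin b → F} (hw : D.q2 w = 0) (hw0 : w ≠ 0)
    {K : (Fin a → F) →ₗ[F] (Fin a → F)} (h : D.InW M w K) : K = 0 := by
  by_contra hK
  obtain ⟨s, hs, hs0, hT⟩ := exists_T1 hO hw hw0 h hK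
  have h1 : ∀ s w, D.q1 s = 0 → s ≠ 0 → D.q2 w = 0 → w ≠ 0 → D.T1 M s w := fun s' w' hs' hs'0 hw' hw'0 =>
    T1.transport hO hs hs0 hw hw0 hT hs' hs'0 hw' hw'0
  obtain ⟨K', hK', hK'0⟩ := exists_swap hO hs hs0 hw hw0 hT
  obtain ⟨w₁, hw₁, hw₁0, hT'⟩ := exists_T1 hO.swap hs hs0 hK' hK'0
  have h2 : ∀ s w, D.q1 s = 0 → s ≠ 0 → D.q2 w = 0 → w ≠ 0 →
      ∀ m, polar D.q2 w m = 0 → eich q (D.tp s w) (D.tp s m) ∈ M := fun s' w' hs' hs'0 hw' hw'0 m hm => by
    have := T1.transport hO.swap hw₁ hw₁0 hs hs0 hT' hw' hw'0 hs' hs'0 m hm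
    rwa [D.swap_tp, D.swap_tp] at this
  obtain ⟨s', P⟩ := exists_hyp D.good1.nd hs hs0
  obtain ⟨w', P'⟩ := exists_hyp D.good2.nd hw hw0
  have hL : ∀ ρ ∈ _root_.commutator (O D.q1), D.L ρ ∈ M := fun ρ hρ => hO.le_L hρ
  refine hO.proper (CfsgLib.GeomClasses.OrthEich.commutator_le_of_pair D.nd D.seven (full_of_both h1 h2 hL P P')
    (full_of_both h1 h2 hL ⟨P.q₂, P.q₁, P.pair'⟩ ⟨P'.q₂, P'.q₁, P'.pair'⟩) ?_)
  rw [D.polar_tp, P.pair', P'.pair', one_mul]
  exact one_ne_zero

/-- The elements of a root group lying in a proper overgroup commute. -/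
theorem Over.rad_comm (hO : D.Over M) {w : Fin b → F} (hw : D.q2 w = 0) (hw0 : w ≠ 0)
    {Θ Θ' : (Fin a → F) →ₗ[F] (ι → F)} {K K' : (Fin a → F) →ₗ[F] (Fin a → F)} {g g' : O q}
    (hg : g ∈ M) (hg' : g' ∈ M) (h : D.IsRad w Θ K g) (h' : D.IsRad w Θ' K' g') (x : Fin a → F) :
    D.adj Θ' (Θ x) = D.adj Θ (Θ' x) := by
  have := hO.inW_eq_zero hw hw0
    ⟨_, M.mul_mem (M.mul_mem hg hg') (M.inv_mem (M.mul_mem hg' hg)), h.commutator hw h'⟩
  exact sub_eq_zero.1 (LinearMap.congr_fun this x)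

end Data

end CfsgLib.TensorOddMinus
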