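import Cfsg.Agent.Lib.TensorOddMinus.Mix

/-!
An element of a proper overgroup preserving the slices of a frame of one factor lies in the stabiliser.
-/

set_option autoImplicit false
set_option linter.unusedSectionVars false

namespace CfsgLib.TensorOddMinus

open Matrix QuadraticMap CfsgLib.Orth
open CfsgLib.TensorOdd (IsFrame blockSign blockSign_app)
open CfsgLib.TensorMax63 (exists_hyp exists_aniso mem_mid Hyp mid)

variable {ι : Type} [Fintype ι] [DecidableEq ι] {F : Type*} [Field F] [Fintype F] {Q : QuadraticForm F (ι → F)}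

/-- A subgroup normalised by `Ω` with a non-scalar member contains all root elements. -/
def RootGen (Q : QuadraticForm F (ι → F)) : Prop :=
  ∀ N : Subgroup (O Q), N ≤ commutator (O Q) → (∀ g ∈ commutator (O Q), ∀ n ∈ N, g * n * g⁻¹ ∈ N) →
    ∀ n₀ ∈ N, ¬ IsScalar n₀ → ∀ w d, Q w = 0 → polar Q w d = 0 → eich Q w d ∈ N

namespace IsScalar

theorem one : IsScalar (1 : O Q) := ⟨1, fun x => by rw [app_one, one_smul]⟩

theorem mul {g h : O Q} (hg : IsScalar g) (hh : IsScalar h) : IsScalar (g * h) := by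
  obtain ⟨s, hs⟩ := hg
  obtain ⟨t, ht⟩ := hh
  exact ⟨t * s, fun x => by rw [app_mul, ht, map_smul, hs, smul_smul]⟩

theorem comm {g : O Q} (hg : IsScalar g) (h : O Q) : g * h = h * g := by
  obtain ⟨s, hs⟩ := hg
  exact ext_app fun x => by rw [app_mul, app_mul, hs, hs, map_smul]

theorem conj {g : O Q} (hg : IsScalar g) (h : O Q) : h * g * h⁻¹ = g := by
  rw [← hg.comm, mul_inv_cancel_right]

theorem inv {g : O Q} (hg : IsScalar g) : IsScalar g⁻¹ := by
  obtain ⟨s, hs⟩ := hg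
  refine ⟨s⁻¹, fun x => ?_⟩
  have h := hs (app g⁻¹ x)
  rw [app_app_inv] at h
  rcases eq_or_ne s 0 with rfl | h0
  · rw [zero_smul] at h
    rw [h, map_zero, smul_zero]
  · conv_rhs => rw [h]
    rw [inv_smul_smul₀ h0]

theorem sign (hg : Good Q) {g : O Q} (h : IsScalar g) : ∃ t : F, t * t = 1 ∧ ∀ x, app g x = t • x := by
  obtain ⟨t, ht⟩ := h
  obtain ⟨x, hx⟩ := exists_anisotropic hg.nd (le_trans (by norm_num) hg.three)
  refine ⟨t, ?_, ht⟩
  have h := Q_app g x
  rw [ht, QuadraticMap.map_smul, smul_eq_mul] at h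
  exact mul_right_cancel₀ hx (by rw [one_mul]; exact h)

theorem mul_self (hg : Good Q) {g : O Q} (h : IsScalar g) : g * g = 1 := by
  obtain ⟨t, ht, hx⟩ := h.sign hg
  exact ext_app fun x => by rw [app_mul, hx, hx, smul_smul, ht, one_smul, app_one]

end IsScalar

/-- An isometry commuting with the root elements up to scalars is scalar. -/
theorem scalar_of_semi (hg : Good Q) {a b : O Q}
    (h : ∀ w c, Q w = 0 → w ≠ 0 → polar Q w c = 0 → Q c ≠ 0 →
      IsScalar (a * eich Q w c * a⁻¹ * (b * eich Q w c * b⁻¹)⁻¹)) : IsScalar (b⁻¹ * a) := by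
  refine scalar_of_lines hg (app (b⁻¹ * a)) fun w hw hw0 => ?_
  obtain ⟨w', P⟩ := exists_hyp hg.nd hw hw0
  obtain ⟨c, hc, hqc⟩ := exists_aniso (P.nondeg_mid hg.nd) (fun hb => by
    have e := P.finrank_mid hg.nd
    rw [hb, finrank_bot] at e
    have := hg.three
    omega)
  obtain ⟨s, hs⟩ := h w c hw hw0 (mem_mid.1 hc).1 hqc
  refine line_of_semi hg hw hw0 (mem_mid.1 hc).1 hqc _ (app_injective _) (σ := s) fun z => ?_
  have e := hs (app b (app (eich Q w c) (app (b⁻¹ * a) z)))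
  rw [app_mul, app_mul] at e ⊢
  simp only [_root_.mul_inv_rev, inv_inv, app_mul, app_inv_app, app_app_inv] at e
  rw [e, map_smul, app_inv_app]

namespace Data

variable {q : QuadraticForm F (ι → F)} {a b : ℕ} {D : Data q a b}

/-- `g` preserves the slices of the frame `u`, acting by `β i` on the `i`-th one. -/
def IsRows (D : Data q a b) (u : Fin a → Fin a → F) (β : Fin a → O D.q2) (g : O q) : Prop :=
  ∀ i y, app g (D.tp (u i) y) = D.tp (u i) (app (β i) y)

theorem isRows_R (u : Fin a → Fin a → F) (B : O D.q2) : D.IsRows u (fun _ => B) (D.R B) :=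
  fun _ _ => D.R_tp B _ _

theorem IsRows.mul {u : Fin a → Fin a → F} {β β' : Fin a → O D.q2} {g g' : O q} (h : D.IsRows u β g)
    (h' : D.IsRows u β' g') : D.IsRows u (fun i => β i * β' i) (g * g') := fun i y => by
  rw [app_mul, h', h, app_mul]

theorem IsRows.inv {u : Fin a → Fin a → F} {β : Fin a → O D.q2} {g : O q} (h : D.IsRows u β g) :
    D.IsRows u (fun i => (β i)⁻¹) g⁻¹ := fun i y => app_injective g (by
  rw [app_app_inv, h, app_app_inv])

theorem isRows_one (u : Fin a → Fin a → F) : D.IsRows u (fun _ => 1) (1 : O q) := fun i y => by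
  rw [app_one, app_one]

theorem ext_rows {u : Fin a → Fin a → F} (hu : IsFrame D.q1 u) {N : Type*} [AddCommGroup N] [Module F N]
    {f g : (ι → F) →ₗ[F] N} (h : ∀ i y, f (D.tp (u i) y) = g (D.tp (u i) y)) : f = g :=
  D.ext_tp fun x y => by
    have e : f.comp (D.tpL y) = g.comp (D.tpL y) := hu.ext_lin fun i => h i y
    exact LinearMap.congr_fun e x

variable {M : Subgroup (O q)}

/-- A root element on a proper non-empty set of slices is not in a proper overgroup. -/
theorem Over.no_partial_root (hO : D.Over M) {u : Fin a → Fin a → F} (hu : IsFrame D.q1 u)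
    {T : Finset (Fin a)} {i j : Fin a} (hi : i ∉ T) (hj : j ∈ T) {w c : Fin b → F} (hw : D.q2 w = 0)
    (hw0 : w ≠ 0) (hc : polar D.q2 w c = 0) (hqc : D.q2 c ≠ 0) {g : O q} (hgM : g ∈ M)
    (h : D.IsRows u (fun k => if k ∈ T then eich D.q2 w c else 1) g) : False := by
  classical
  obtain ⟨X, hX⟩ := exists_diag hu fun k => if k ∈ T then (1 : F) else 0
  have hrad : D.IsRad w ((D.tpL c).comp X) (-D.q2 c • X) g := by
    refine ⟨fun x => ?_, fun z => ?_⟩
    · show D.C w (D.tp _ c) = 0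
      rw [C_tp, polar_comm, hc, zero_smul]
    have e : app g = LinearMap.id + ((D.tpL c).comp X).comp (D.C w) -
        (D.tpL w).comp (D.adj ((D.tpL c).comp X)) + (D.tpL w).comp ((-D.q2 c • X).comp (D.C w)) :=
      ext_rows hu fun k y => by
        rw [h]
        simp only [LinearMap.add_apply, LinearMap.sub_apply, LinearMap.comp_apply, LinearMap.id_apply,
          LinearMap.smul_apply, C_tp, adj_tpL (polar_diag hu hX), map_smul, hX]
        show _ = D.tp (u k) y + polar D.q2 y w • (_ • D.tp (u k) c) - polar D.q2 y c • (_ • D.tp (u k) w) +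
          polar D.q2 y w • (-D.q2 c) • (_ • D.tp (u k) w)
        split_ifs
        · simp only [app_eich hw hc, D.tp_add_right, D.tp_smul_right, D.tp_sub_right]
          module
        · simp
    rw [e]
    rfl
  have := hO.rad_diag hu hX hw hw0 hqc hgM hrad i j
  simp [hi, hj] at this

/-- Components in `Ω`, one of them scalar: all are scalar. -/
theorem Over.rows_scalar (hO : D.Over M) (hR : RootGen D.q2) {u : Fin a → Fin a → F} (hu : IsFrame D.q1 u)
    {g : O q} (hgM : g ∈ M) {γ : Fin a → O D.q2} (h : D.IsRows u γ g)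
    (hγ : ∀ i, γ i ∈ _root_.commutator (O D.q2)) (hs : ∃ i, IsScalar (γ i)) (i : Fin a) : IsScalar (γ i) := by
  classical
  suffices H : ∀ n (T : Finset (Fin a)), T.card = n → (∃ i, i ∉ T) → ∀ g ∈ M, ∀ γ : Fin a → O D.q2,
      D.IsRows u γ g → (∀ i, γ i ∈ _root_.commutator (O D.q2)) → (∀ i, i ∉ T → IsScalar (γ i)) →
      ∀ i, IsScalar (γ i) by
    obtain ⟨i₀, hi₀⟩ := hs
    refine H _ (Finset.univ.filter fun k => ¬ IsScalar (γ k)) rfl ⟨i₀, by simp [hi₀]⟩ g hgM γ h hγ
      (fun k hk => by simpa using hk) i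
  intro n
  induction n using Nat.strong_induction_on with
  | _ n ih =>
  intro T hTn hTne g hgM γ h hγ hout
  by_contra hcon
  push Not at hcon
  obtain ⟨j₀, hj₀⟩ := hcon
  have hjT : ∀ {γ : Fin a → O D.q2}, (∀ i, i ∉ T → IsScalar (γ i)) → ∀ {k}, ¬ IsScalar (γ k) → k ∈ T :=
    fun {γ} hout {k} hk => by_contra fun hn => hk (hout k hn)
  -- components at a member of `T`
  let C : (O q) → (Fin a → O D.q2) → Prop := fun y δ => y ∈ M ∧ D.IsRows u δ y ∧
    (∀ k, δ k ∈ _root_.commutator (O D.q2)) ∧ ∀ k, k ∉ T → IsScalar (δ k)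
  let N : Fin a → Subgroup (O D.q2) := fun k =>
    { carrier := {e | ∃ y δ, C y δ ∧ δ k = e}
      one_mem' := ⟨1, fun _ => 1, ⟨one_mem _, isRows_one u, fun _ => one_mem _, fun _ _ => IsScalar.one⟩, rfl⟩
      mul_mem' := by
        rintro e e' ⟨y, δ, ⟨h1, h2, h3, h4⟩, rfl⟩ ⟨y', δ', ⟨k1, k2, k3, k4⟩, rfl⟩
        exact ⟨y * y', fun i => δ i * δ' i, ⟨M.mul_mem h1 k1, h2.mul k2, fun i => mul_mem (h3 i) (k3 i),
          fun i hi => (h4 i hi).mul (k4 i hi)⟩, rfl⟩
      inv_mem' := by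
        rintro e ⟨y, δ, ⟨h1, h2, h3, h4⟩, rfl⟩
        exact ⟨y⁻¹, fun i => (δ i)⁻¹, ⟨M.inv_mem h1, h2.inv, fun i => inv_mem (h3 i),
          fun i hi => (h4 i hi).inv⟩, rfl⟩ }
  -- two elements differ by scalars after twisting
  have twist : ∀ {y y' δ δ'}, C y δ → C y' δ' → ∀ j ∈ T, ∀ k,
      IsScalar (δ k * δ' k * (δ k)⁻¹ * (δ j * δ' k * (δ j)⁻¹)⁻¹) := by
    rintro y y' δ δ' ⟨h1, h2, h3, h4⟩ ⟨k1, k2, k3, k4⟩ j hj k
    have hyR := hO.le_R (h3 j)
    refine ih (T.erase j).card (hTn ▸ Finset.card_erase_lt_of_mem hj) _ rfl ⟨j, Finset.notMem_erase _ _⟩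
      (y * y' * y⁻¹ * (D.R (δ j) * y' * (D.R (δ j))⁻¹)⁻¹)
      (M.mul_mem (M.mul_mem (M.mul_mem h1 k1) (M.inv_mem h1))
        (M.inv_mem (M.mul_mem (M.mul_mem hyR k1) (M.inv_mem hyR))))
      (fun i => δ i * δ' i * (δ i)⁻¹ * (δ j * δ' i * (δ j)⁻¹)⁻¹)
      (((h2.mul k2).mul h2.inv).mul (((isRows_R u _).mul k2).mul (isRows_R u _).inv).inv)
      (fun i => mul_mem (mul_mem (mul_mem (h3 i) (k3 i)) (inv_mem (h3 i)))
        (inv_mem (mul_mem (mul_mem (h3 j) (k3 i)) (inv_mem (h3 j))))) (fun i hi => ?_) k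
    by_cases hij : i = j
    · rw [hij, mul_inv_cancel]; exact IsScalar.one
    · have hiT : i ∉ T := fun h => hi (Finset.mem_erase.2 ⟨hij, h⟩)
      rw [(k4 i hiT).conj, (k4 i hiT).conj, mul_inv_cancel]
      exact IsScalar.one
  have hT : j₀ ∈ T := hjT hout hj₀
  obtain ⟨i, hi⟩ := hTne
  -- a root element in the component at `j₀`
  have hroot : ∀ k, k ∈ T → (∃ y δ, C y δ ∧ ¬ IsScalar (δ k)) →
      ∀ w c, D.q2 w = 0 → polar D.q2 w c = 0 → ∃ y δ, C y δ ∧ δ k = eich D.q2 w c := by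
    intro k _ ⟨y, δ, hC, hns⟩ w c hw hc
    refine hR (N k) ?_ ?_ (δ k) ⟨y, δ, hC, rfl⟩ hns w c hw hc
    · rintro e ⟨y, δ, hC, rfl⟩
      exact hC.2.2.1 k
    · rintro ρ hρ e ⟨y, δ, ⟨h1, h2, h3, h4⟩, rfl⟩
      have hρM := hO.le_R hρ
      exact ⟨D.R ρ * y * (D.R ρ)⁻¹, fun i => ρ * δ i * ρ⁻¹, ⟨M.mul_mem (M.mul_mem hρM h1) (M.inv_mem hρM),
        ((isRows_R u _).mul h2).mul (isRows_R u _).inv,
        fun i => mul_mem (mul_mem hρ (h3 i)) (inv_mem hρ), fun i hi => by show IsScalar (ρ * δ i * ρ⁻¹); rw [(h4 i hi).conj]; exact h4 i hi⟩, rfl⟩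
  -- every component is a scalar multiple of the one at `j₀`
  have hsame : ∀ {y δ}, C y δ → ∀ k ∈ T, (∃ y δ, C y δ ∧ ¬ IsScalar (δ k)) → IsScalar ((δ j₀)⁻¹ * δ k) := by
    intro y δ hC k hk hex
    refine scalar_of_semi D.good2 fun w c hw hw0 hc hqc => ?_
    obtain ⟨y', δ', hC', e⟩ := hroot k hk hex w c hw hc
    rw [← e]
    exact twist hC hC' j₀ hT k
  obtain ⟨w, -, hw0, hw⟩ := CfsgLib.GeomClasses.OrthTools.exists_singular D.good2.nd (⊤ : Submodule F (Fin b → F))
    (by rw [finrank_top, Module.finrank_fintype_fun_eq_card]; exact D.good2.three)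
  obtain ⟨w', P⟩ := exists_hyp D.good2.nd hw hw0
  obtain ⟨c, hc, hqc⟩ := exists_aniso (P.nondeg_mid D.good2.nd) (fun hb => by
    have e := P.finrank_mid D.good2.nd
    rw [hb, finrank_bot] at e
    have := D.good2.three
    omega)
  obtain ⟨hwc, -⟩ := mem_mid.1 hc
  obtain ⟨y, δ, hC, hδ⟩ := hroot j₀ hT ⟨g, γ, ⟨hgM, h, hγ, hout⟩, hj₀⟩ w c hw hwc
  set T₁ := T.filter fun k => ∃ y δ, C y δ ∧ ¬ IsScalar (δ k) with hT₁
  refine hO.no_partial_root hu (T := T₁) (i := i) (j := j₀) (fun h => hi (Finset.mem_filter.1 h).1)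
    (Finset.mem_filter.2 ⟨hT, g, γ, ⟨hgM, h, hγ, hout⟩, hj₀⟩) hw hw0 (c := (2 : F) • c)
    (by rw [polar_smul_right, hwc, smul_zero])
    (by rw [QuadraticMap.map_smul, smul_eq_mul]; exact mul_ne_zero (mul_ne_zero D.two D.two) hqc)
    (M.mul_mem hC.1 hC.1) fun k z => ?_
  rw [(hC.2.1.mul hC.2.1) k z]
  congr 1
  beta_reduce
  have e2 : eich D.q2 w c * eich D.q2 w c = eich D.q2 w ((2 : F) • c) := by
    rw [eich_add hw hwc hwc, two_smul]
  split_ifs with hk
  · obtain ⟨hkT, hex⟩ := Finset.mem_filter.1 hk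
    obtain hsc := hsame hC k hkT hex
    rw [hδ] at hsc
    rw [← e2, show δ k = eich D.q2 w c * ((eich D.q2 w c)⁻¹ * δ k) by rw [mul_inv_cancel_left]]
    generalize (eich D.q2 w c)⁻¹ * δ k = t at hsc ⊢
    rw [mul_assoc, ← mul_assoc t, hsc.comm (eich D.q2 w c), mul_assoc, hsc.mul_self D.good2, mul_one]
  · have hsk : IsScalar (δ k) := by
      by_cases hkT : k ∈ T
      · exact by_contra fun hn => hk (Finset.mem_filter.2 ⟨hkT, y, δ, hC, hn⟩)
      · exact hC.2.2.2 k hkT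
    rw [hsk.mul_self D.good2]

/-- An element of a proper overgroup preserving the slices of a frame lies in the stabiliser. -/
theorem Over.rows_mem (hO : D.Over M) (hR : RootGen D.q2) {u : Fin a → Fin a → F} (hu : IsFrame D.q1 u)
    {g : O q} (hgM : g ∈ M) {β : Fin a → O D.q2} (h : D.IsRows u β g) : g ∈ D.TT := by
  classical
  have i₀ : Fin a := ⟨0, lt_of_lt_of_le (by norm_num) D.three_a⟩
  have hsc : ∀ i, IsScalar ((β i₀)⁻¹ * β i) := by
    intro i
    refine scalar_of_semi D.good2 fun w c hw hw0 hc hqc => ?_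
    have he := eich_mem D.good2 hw hc
    have : (_root_.commutator (O D.q2)).Normal := inferInstance
    have hf := this.conj_mem _ he (β i₀)
    exact hO.rows_scalar hR hu
      (M.mul_mem (M.mul_mem (M.mul_mem hgM (hO.le_R he)) (M.inv_mem hgM)) (M.inv_mem (hO.le_R hf)))
      (((h.mul (isRows_R u _)).mul h.inv).mul (isRows_R u _).inv)
      (fun k => mul_mem (this.conj_mem _ he (β k)) (inv_mem hf))
      ⟨i₀, by simp only [mul_inv_cancel]; exact IsScalar.one⟩ i
  choose t ht hx using fun i => (hsc i).sign D.good2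
  set S := Finset.univ.filter fun i => t i = -1
  refine D.mem_TT.2 ⟨blockSign D.q1 u S, β i₀, ext_app fun z => ?_⟩
  have e : app g = app (D.ten (blockSign D.q1 u S, β i₀)) := ext_rows hu fun i y => by
    have e1 : app (β i) y = t i • app (β i₀) y := by
      have e2 := congrArg (app (β i₀)) (hx i y)
      rwa [app_mul, app_app_inv, map_smul] at e2
    rw [h, D.ten_tp, blockSign_app hu, e1, D.tp_smul_right]
    split_ifs with hi
    · rw [(Finset.mem_filter.1 hi).2, neg_one_smul, D.tp_neg_left]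
    · rcases mul_self_eq_one_iff.1 (ht i) with h1 | h1
      · rw [h1, one_smul]
      · exact absurd (Finset.mem_filter.2 ⟨Finset.mem_univ i, h1⟩) hi
  rw [e]

end Data

end CfsgLib.TensorOddMinus
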