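import Cfsg.Agent.Lib.TensorMax63.Root
import Cfsg.Agent.Lib.POmega.Basic

/-!
One orthogonal factor in odd characteristic: elements of `Ω` acting on a hyperbolic pair and its complement,
transitivity on singular lines, subgroups of the root group of a singular vector, operators fixing all singular
lines.
-/

set_option autoImplicit false
set_option linter.unusedSectionVars false

namespace CfsgLib.TensorOddMinus

open Matrix QuadraticMap CfsgLib.Orth
open CfsgLib.GeomClasses (OrthTools.orth OrthTools.mem_orth)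
open CfsgLib.TensorMax63 (Nondeg Hyp mid mem_mid exists_hyp exists_partner' nondeg_top nondeg_inf mem_orth_one
  finrank_inf_ge exists_aniso)

variable {ι : Type} [Fintype ι] [DecidableEq ι] {F : Type*} [Field F] [Fintype F] {Q : QuadraticForm F (ι → F)}

/-- A non-degenerate space of dimension at least three, not three-dimensional over three elements and not of
plus type in dimension four. -/
structure Good (Q : QuadraticForm F (ι → F)) : Prop where
  nd : Q.polarBilin.Nondegenerate
  two : (2 : F) ≠ 0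
  three : 3 ≤ Fintype.card ι
  small : Fintype.card ι = 3 → 5 ≤ Fintype.card F
  four : Fintype.card ι = 4 → ∀ x y, Q x = 0 → Q y = 0 → polar Q x y = 0 → x ≠ 0 → ∃ t : F, y = t • x

/-- A multiple of the identity. -/
def IsScalar (g : O Q) : Prop := ∃ t : F, ∀ x, app g x = t • x

/-- Products of two reflections of the same value lie in `Ω`. -/
theorem pair_mem (h2 : (2 : F) ≠ 0) {a b : ι → F} (ha : Q a ≠ 0) (hab : Q a = Q b) :
    refl Q a * refl Q b ∈ commutator (O Q) := by
  classical
  obtain ⟨g, hgg⟩ := conj_of_eq_value h2 ha hab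
  rw [commutator_eq_closure]
  exact Subgroup.subset_closure (pair_mem_commutator hgg)

theorem eich_mem_aniso (h2 : (2 : F) ≠ 0) {w a : ι → F} (hw : Q w = 0) (hwa : polar Q w a = 0) (ha : Q a ≠ 0) :
    eich Q w a ∈ commutator (O Q) := by
  rw [eich_eq_refl_mul hw hwa ha]
  refine pair_mem h2 ha ?_
  rw [QuadraticMap.map_add ⇑Q, QuadraticMap.map_smul, polar_smul_right, hw, polar_comm (f := ⇑Q) a w, hwa]
  simp

variable (hg : Good Q)
include hg

/-- The complement of a hyperbolic pair has no singular vectors or dimension at least three. -/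
theorem mid_cases {w w' : ι → F} (P : Hyp Q w w') :
    (∀ s ∈ mid Q w w', Q s = 0 → s = 0) ∨ 3 ≤ Module.finrank F (mid Q w w') := by
  have h3 := hg.three
  by_cases h4 : Fintype.card ι = 4
  · refine Or.inl fun s hs hqs => ?_
    obtain ⟨h1, h2⟩ := mem_mid.1 hs
    obtain ⟨t, rfl⟩ := hg.four h4 w s P.q₁ hqs h1 P.ne₁
    rw [polar_smul_right, P.pair', smul_eq_mul, mul_one] at h2
    rw [h2, zero_smul]
  rcases lt_or_ge (Fintype.card ι) 5 with h | h
  · refine Or.inl fun s hs hqs => ?_
    by_contra hs0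
    obtain ⟨t, ht, hqt, hst⟩ := exists_partner' (P.nondeg_mid hg.nd) hs hs0 hqs
    -- four independent vectors in a three-dimensional space
    obtain ⟨h1, h2⟩ := mem_mid.1 hs
    obtain ⟨k1, k2⟩ := mem_mid.1 ht
    have hli : LinearIndependent F ![w, w', s, t] := by
      rw [Fintype.linearIndependent_iff]
      intro c hc
      simp only [Fin.sum_univ_four, Matrix.cons_val_zero, Matrix.cons_val_one, Matrix.cons_val_two,
        Matrix.cons_val_three, Matrix.head_cons, Matrix.tail_cons] at hc
      have e1 := congrArg (fun z => polar Q w z) hc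
      have e2 := congrArg (fun z => polar Q w' z) hc
      have e3 := congrArg (fun z => polar Q s z) hc
      have e4 := congrArg (fun z => polar Q t z) hc
      simp only [polar_add_right, polar_smul_right, P.self₁, P.self₂, P.pair, P.pair', h1, h2, k1, k2,
        polar_comm (f := ⇑Q) s w, polar_comm (f := ⇑Q) s w', polar_comm (f := ⇑Q) t w, polar_comm (f := ⇑Q) t w',
        polar_comm (f := ⇑Q) t s, hst, polar_self' s, polar_self' t, hqs, hqt, polar_zero_right, smul_eq_mul,
        mul_zero, mul_one, add_zero, zero_add] at e1 e2 e3 e4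
      intro i
      fin_cases i <;> assumption
    have := hli.fintype_card_le_finrank
    rw [Module.finrank_fintype_fun_eq_card, Fintype.card_fin] at this
    omega
  · right
    have := P.finrank_mid hg.nd
    omega

/-- An anisotropic vector of the complement orthogonal to a given one. -/
theorem exists_perp {w w' : ι → F} (P : Hyp Q w w') (hd : 2 ≤ Module.finrank F (mid Q w w')) {s : ι → F}
    (hs : s ∈ mid Q w w') : ∃ y ∈ mid Q w w', Q y ≠ 0 ∧ polar Q s y = 0 := by
  have hX := P.nondeg_mid hg.nd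
  rcases eq_or_ne s 0 with rfl | hs0
  · obtain ⟨y, hy, hqy⟩ := exists_aniso hX (fun h => by rw [h, finrank_bot] at hd; omega)
    exact ⟨y, hy, hqy, polar_zero_left _ _⟩
  by_cases hqs : Q s = 0
  · have h3 : 3 ≤ Module.finrank F (mid Q w w') :=
      (mid_cases hg P).resolve_left fun h => hs0 (h s hs hqs)
    obtain ⟨t, ht, hqt, hst⟩ := exists_partner' hX hs hs0 hqs
    have he1 : Q (s + t) ≠ 0 := by rw [QuadraticMap.map_add ⇑Q, hqs, hqt, hst]; simp
    have he2 : Q (s - t) ≠ 0 := by
      rw [sub_eq_add_neg, QuadraticMap.map_add ⇑Q, QuadraticMap.map_neg, polar_neg_right, hqs, hqt, hst]; simp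
    have hd1 := nondeg_inf hg.two hX ((mid Q w w').add_mem hs ht) he1
    have hmem : s - t ∈ mid Q w w' ⊓ OrthTools.orth Q (Submodule.span F {s + t}) := by
      refine ⟨(mid Q w w').sub_mem hs ht, mem_orth_one.2 ?_⟩
      rw [polar_add_left, polar_sub_right, polar_sub_right, polar_self', polar_self', hqs, hqt,
        polar_comm (f := ⇑Q) t s]
      ring
    have hd2 := nondeg_inf hg.two hd1 hmem he2
    obtain ⟨y, hy, hqy⟩ := exists_aniso hd2 (fun h => by
      have e1 := finrank_inf_ge hg.nd (mid Q w w') (s + t)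
      have e2 := finrank_inf_ge hg.nd (mid Q w w' ⊓ OrthTools.orth Q (Submodule.span F {s + t})) (s - t)
      rw [h, finrank_bot] at e2
      omega)
    have h1 := mem_orth_one.1 hy.1.2
    have h2 := mem_orth_one.1 hy.2
    rw [polar_add_left] at h1
    rw [polar_sub_left] at h2
    refine ⟨y, hy.1.1, hqy, mul_left_cancel₀ hg.two ?_⟩
    linear_combination h1 + h2
  · obtain ⟨y, hy, hqy⟩ := exists_aniso (nondeg_inf hg.two hX hs hqs) (fun h => by
      have e1 := finrank_inf_ge hg.nd (mid Q w w') s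
      rw [h, finrank_bot] at e1
      omega)
    exact ⟨y, hy.1, hqy, mem_orth_one.1 hy.2⟩

omit hg in
theorem mid_refl {w w' y s : ι → F} (hy : y ∈ mid Q w w') (hs : s ∈ mid Q w w') :
    app (refl Q y) s ∈ mid Q w w' := by
  rw [app_refl]
  exact Submodule.sub_mem _ hs (Submodule.smul_mem _ _ hy)

/-- A non-zero subspace of the complement stable under its reflections is the complement. -/
theorem mid_irreducible {w w' : ι → F} (P : Hyp Q w w') {S : Submodule F (ι → F)} (hS : S ≤ mid Q w w')
    (hne : ∃ s ∈ S, s ≠ 0)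
    (hinv : ∀ u ∈ mid Q w w', Q u ≠ 0 → ∀ s ∈ S, app (refl Q u) s ∈ S) : S = mid Q w w' := by
  by_cases hbig : 5 ≤ Fintype.card F ∨ 3 ≤ Module.finrank F (mid Q w w')
  · exact CfsgLib.TensorMax63.irreducible hg.nd hg.two (P.nondeg_mid hg.nd) hbig hS hne hinv
  obtain ⟨hq3, hd3⟩ := not_or.1 hbig
  have han : ∀ s ∈ mid Q w w', Q s = 0 → s = 0 := (mid_cases hg P).resolve_right hd3
  obtain ⟨x, hx, hx0⟩ := hne
  have hqx : Q x ≠ 0 := fun h => hx0 (han x (hS hx) h)
  refine le_antisymm hS fun z hz => ?_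
  set c := (2 * Q x)⁻¹ * polar Q x z with hc
  have hy : z - c • x ∈ mid Q w w' := Submodule.sub_mem _ hz (Submodule.smul_mem _ _ (hS hx))
  have hxy : polar Q x (z - c • x) = 0 := by
    rw [polar_sub_right, polar_smul_right, polar_self', hc, smul_eq_mul]
    field_simp [hg.two]
    simp
  suffices z - c • x ∈ S by simpa using S.add_mem this (S.smul_mem c hx)
  generalize z - c • x = y at hy hxy ⊢
  rcases eq_or_ne y 0 with rfl | hy0
  · exact S.zero_mem
  have hsum : Q (x + y) ≠ 0 := fun h => by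
    have h0 := han _ (Submodule.add_mem _ (hS hx) hy) h
    have := congrArg (fun v => polar Q x v) h0
    simp only [polar_add_right, polar_zero_right, hxy, add_zero, polar_self'] at this
    exact mul_ne_zero hg.two hqx this
  have h := S.sub_mem hx (hinv (x + y) (Submodule.add_mem _ (hS hx) hy) hsum x hx)
  rw [app_refl, sub_sub_cancel] at h
  have hxx : polar Q x (x + y) ≠ 0 := by
    rw [polar_add_right, hxy, add_zero, polar_self']
    exact mul_ne_zero hg.two hqx
  have := (Submodule.smul_mem_iff S (mul_ne_zero (inv_ne_zero hsum) hxx)).1 h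
  simpa using S.sub_mem this hx

/-- Two reflections of the complement, compensated by the hyperbolic plane. -/
theorem exists_rot {w w' : ι → F} (P : Hyp Q w w') {y z : ι → F} (hy : y ∈ mid Q w w') (hqy : Q y ≠ 0)
    (hz : z ∈ mid Q w w') (hqz : Q z ≠ 0) :
    ∃ ρ ∈ commutator (O Q), ∃ t : F, t ≠ 0 ∧ app ρ w = t • w ∧ app ρ w' = t⁻¹ • w' ∧
      ∀ m ∈ mid Q w w', app ρ m = app (refl Q y) (app (refl Q z) m) := by
  obtain ⟨hwy, hw'y⟩ := mem_mid.1 hy
  obtain ⟨hwz, hw'z⟩ := mem_mid.1 hz
  have hval : ∀ k : F, Q (w + k • w') = k := fun k => by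
    rw [QuadraticMap.map_add ⇑Q, QuadraticMap.map_smul, polar_smul_right, P.q₁, P.q₂, P.pair]
    simp
  have hfix : ∀ (k : F) (m : ι → F), m ∈ mid Q w w' → app (refl Q (w + k • w')) m = m := fun k m hm => by
    obtain ⟨h1, h2⟩ := mem_mid.1 hm
    refine app_refl_of_ortho ?_
    rw [polar_comm, polar_add_left, polar_smul_left, h1, h2, smul_zero, add_zero]
  have hw1 : ∀ k : F, k ≠ 0 → app (refl Q (w + k • w')) w = -(k • w') := fun k hk => by
    rw [app_refl, polar_add_right, polar_smul_right, P.self₁, P.pair, hval, smul_eq_mul, mul_one, zero_add,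
      inv_mul_cancel₀ hk, one_smul]
    abel
  have hw2 : ∀ k : F, k ≠ 0 → app (refl Q (w + k • w')) w' = -(k⁻¹ • w) := fun k hk => by
    rw [app_refl, polar_add_right, polar_smul_right, P.self₂, P.pair', hval, smul_zero, add_zero, mul_one,
      smul_add, smul_smul, inv_mul_cancel₀ hk, one_smul]
    abel
  have hf : ∀ {v : ι → F}, v ∈ mid Q w w' → app (refl Q v) w = w ∧ app (refl Q v) w' = w' := fun hv =>
    ⟨app_refl_of_ortho (mem_mid.1 hv).1, app_refl_of_ortho (mem_mid.1 hv).2⟩
  refine ⟨(refl Q (w + Q y • w') * refl Q y) * (refl Q (w + Q z • w') * refl Q z),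
    mul_mem (pair_mem hg.two (by rw [hval]; exact hqy) (hval _))
      (pair_mem hg.two (by rw [hval]; exact hqz) (hval _)), Q z / Q y, div_ne_zero hqz hqy, ?_, ?_,
    fun m hm => ?_⟩
  · simp only [app_mul, (hf hz).1, hw1 _ hqz, map_neg, map_smul, (hf hy).2, hw2 _ hqy, smul_neg, neg_neg,
      smul_smul, div_eq_mul_inv]
  · simp only [app_mul, (hf hz).2, hw2 _ hqz, map_neg, map_smul, (hf hy).1, hw1 _ hqy, smul_neg, neg_neg,
      smul_smul, div_eq_mul_inv, _root_.mul_inv_rev, inv_inv, mul_comm]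
  · simp only [app_mul]
    rw [hfix _ _ (mid_refl hz hm), hfix _ _ (mid_refl hy (mid_refl hz hm))]

/-- Squares on a hyperbolic plane. -/
theorem exists_torus {w w' : ι → F} (P : Hyp Q w w') {k : F} (hk : k ≠ 0) :
    ∃ ρ ∈ commutator (O Q), app ρ w = (k * k) • w ∧ app ρ w' = (k * k)⁻¹ • w' ∧
      ∀ m ∈ mid Q w w', app ρ m = m := by
  have hk2 : k * k ≠ 0 := mul_ne_zero hk hk
  have hval : ∀ c : F, Q (w + c • w') = c := fun c => by
    rw [QuadraticMap.map_add ⇑Q, QuadraticMap.map_smul, polar_smul_right, P.q₁, P.q₂, P.pair]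
    simp
  have hw1 : ∀ c : F, c ≠ 0 → app (refl Q (w + c • w')) w = -(c • w') := fun c hc => by
    rw [app_refl, polar_add_right, polar_smul_right, P.self₁, P.pair, hval, smul_eq_mul, mul_one, zero_add,
      inv_mul_cancel₀ hc, one_smul]
    abel
  have hw2 : ∀ c : F, c ≠ 0 → app (refl Q (w + c • w')) w' = -(c⁻¹ • w) := fun c hc => by
    rw [app_refl, polar_add_right, polar_smul_right, P.self₂, P.pair', hval, smul_zero, add_zero, mul_one,
      smul_add, smul_smul, inv_mul_cancel₀ hc, one_smul]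
    abel
  refine ⟨refl Q (w + (1 : F) • w') * refl Q (w + (k * k) • w'), ?_, ?_, ?_, fun m hm => ?_⟩
  · rw [← refl_smul (inv_ne_zero hk) (w + (k * k) • w')]
    refine pair_mem hg.two (by rw [hval]; exact one_ne_zero) ?_
    rw [QuadraticMap.map_smul, hval, hval, smul_eq_mul]
    field_simp
  · rw [app_mul, hw1 _ hk2, map_neg, map_smul, hw2 _ one_ne_zero]
    simp
  · rw [app_mul, hw2 _ hk2, map_neg, map_smul, hw1 _ one_ne_zero]
    simp
  · obtain ⟨h1, h2⟩ := mem_mid.1 hm
    have e : ∀ c : F, app (refl Q (w + c • w')) m = m := fun c => app_refl_of_ortho (by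
      rw [polar_comm, polar_add_left, polar_smul_left, h1, h2, smul_zero, add_zero])
    rw [app_mul, e, e]

/-- An additive subgroup of the complement stable under compensated rotations and squares is everything. -/
theorem mid_eq_of_stable {w w' : ι → F} (P : Hyp Q w w') (S : AddSubgroup (ι → F))
    (hS : ∀ s ∈ S, s ∈ mid Q w w') (hsq : ∀ k : F, k ≠ 0 → ∀ s ∈ S, (k * k) • s ∈ S)
    (hrot : ∀ y ∈ mid Q w w', Q y ≠ 0 → ∀ z ∈ mid Q w w', Q z ≠ 0 → ∀ s ∈ S,
      ∃ t : F, t ≠ 0 ∧ t • app (refl Q y) (app (refl Q z) s) ∈ S)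
    {s₀ : ι → F} (hs₀ : s₀ ∈ S) (hne : s₀ ≠ 0) {x : ι → F} (hx : x ∈ mid Q w w') : x ∈ S := by
  have hsq' : ∀ k : F, ∀ s ∈ S, (k * k) • s ∈ S := fun k s hs => by
    rcases eq_or_ne k 0 with rfl | hk
    · rw [mul_zero, zero_smul]; exact S.zero_mem
    · exact hsq k hk s hs
  have hsmul : ∀ (t : F), ∀ s ∈ S, t • s ∈ S := fun t s hs => by
    obtain ⟨a, b, hab⟩ := exists_binary hg.two (one_ne_zero : (1 : F) ≠ 0) (one_ne_zero : (1 : F) ≠ 0) t
    have := S.add_mem (hsq' a s hs) (hsq' b s hs)
    rwa [← add_smul, show a * a + b * b = t by linear_combination hab] at this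
  let U : Submodule F (ι → F) :=
    { carrier := S, zero_mem' := S.zero_mem, add_mem' := fun h h' => S.add_mem h h'
      smul_mem' := fun t s hs => hsmul t s hs }
  have hU : U ≤ mid Q w w' := fun s hs => hS s hs
  suffices U = mid Q w w' by exact (this ▸ hx : x ∈ U)
  by_cases hd : 2 ≤ Module.finrank F (mid Q w w')
  · refine mid_irreducible hg P hU ⟨s₀, hs₀, hne⟩ fun u hu hqu s hs => ?_
    obtain ⟨z, hz, hqz, hsz⟩ := exists_perp hg P hd (hS s hs)
    obtain ⟨t, ht, h⟩ := hrot u hu hqu z hz hqz s hs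
    rw [app_refl_of_ortho hsz] at h
    exact (Submodule.smul_mem_iff U ht).1 h
  · refine Submodule.eq_of_le_of_finrank_le hU ?_
    have : 1 ≤ Module.finrank F U := Submodule.one_le_finrank_iff.2 fun h => hne (by
      have : s₀ ∈ U := hs₀
      rw [h] at this
      exact this)
    omega

/-- The Eichler elements lie in `Ω`. -/
theorem eich_mem {w a : ι → F} (hw : Q w = 0) (hwa : polar Q w a = 0) : eich Q w a ∈ commutator (O Q) := by
  by_cases ha : Q a = 0
  swap
  · exact eich_mem_aniso hg.two hw hwa ha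
  rcases eq_or_ne w 0 with rfl | hw0
  · rw [eich_zero_left]; exact one_mem _
  obtain ⟨w', P⟩ := exists_hyp hg.nd hw hw0
  set r := a - polar Q w' a • w with hr
  have hrm : r ∈ mid Q w w' := by
    have := P.proj_mem a
    rwa [hwa, zero_smul, sub_zero] at this
  have hqr : Q r = 0 := by
    rw [hr, sub_eq_add_neg, QuadraticMap.map_add ⇑Q, QuadraticMap.map_neg, QuadraticMap.map_smul,
      polar_neg_right, polar_smul_right, ha, hw, polar_comm (f := ⇑Q) a w, hwa]
    simp
  have hwr : polar Q w r = 0 := (mem_mid.1 hrm).1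
  have e : eich Q w a = eich Q w r := by
    have h := eich_add hw hwr (show polar Q w (polar Q w' a • w) = 0 by
      rw [polar_smul_right, P.self₁, smul_zero])
    rw [eich_smul_self hw, mul_one, hr, sub_add_cancel] at h
    exact h.symm
  rw [e]
  rcases eq_or_ne r 0 with h | hr0
  · rw [h, CfsgLib.POmega.eich_zero_right hw]; exact one_mem _
  have h3 : 3 ≤ Module.finrank F (mid Q w w') := (mid_cases hg P).resolve_left fun h => hr0 (h r hrm hqr)
  obtain ⟨y, hy, hqy, hry⟩ := exists_perp hg P (by omega) hrm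
  have hwy := (mem_mid.1 hy).1
  have h1 : polar Q w (r + y) = 0 := by rw [polar_add_right, hwr, hwy, add_zero]
  have h2 : polar Q w (-y) = 0 := by rw [polar_neg_right, hwy, neg_zero]
  rw [show r = r + y + -y by abel, ← eich_add hw h1 h2]
  exact mul_mem (eich_mem_aniso hg.two hw h1 (by rwa [QuadraticMap.map_add ⇑Q, hqr, hry, add_zero, zero_add]))
    (eich_mem_aniso hg.two hw h2 (by rwa [QuadraticMap.map_neg]))

/-- `Ω` moves any singular line to any other one not orthogonal to it. -/
theorem exists_line_nonorth {v w : ι → F} (hv : Q v = 0) (hw : Q w = 0) (h : polar Q v w ≠ 0) :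
    ∃ ρ ∈ commutator (O Q), ∃ t : F, t ≠ 0 ∧ app ρ w = t • v := by
  have hw0 : w ≠ 0 := fun h0 => h (by rw [h0, polar_zero_right])
  set v₁ := (polar Q w v)⁻¹ • v with hv₁
  have h' : polar Q w v ≠ 0 := by rwa [polar_comm]
  have P : Hyp Q w v₁ := ⟨hw, by rw [hv₁, QuadraticMap.map_smul, hv, smul_zero], by
    rw [hv₁, polar_smul_right, smul_eq_mul, inv_mul_cancel₀ h']⟩
  obtain ⟨z, hz, hqz⟩ := exists_aniso (P.nondeg_mid hg.nd) (fun hb => by
    have e := P.finrank_mid hg.nd
    rw [hb, finrank_bot] at e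
    have := hg.three
    omega)
  have hval : Q (w + Q z • v₁) = Q z := by
    rw [QuadraticMap.map_add ⇑Q, QuadraticMap.map_smul, polar_smul_right, P.q₁, P.q₂, P.pair]
    simp
  refine ⟨refl Q (w + Q z • v₁) * refl Q z, pair_mem hg.two (by rw [hval]; exact hqz) hval,
    -(Q z * (polar Q w v)⁻¹), neg_ne_zero.2 (mul_ne_zero hqz (inv_ne_zero h')), ?_⟩
  rw [app_mul, app_refl_of_ortho (mem_mid.1 hz).1, app_refl, polar_add_right, polar_smul_right, P.self₁, P.pair,
    hval, smul_eq_mul, mul_one, zero_add, inv_mul_cancel₀ hqz, one_smul, hv₁, smul_smul, neg_smul]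
  abel

/-- `Ω` is transitive on singular lines. -/
theorem exists_line {v w : ι → F} (hv : Q v = 0) (hv0 : v ≠ 0) (hw : Q w = 0) (hw0 : w ≠ 0) :
    ∃ ρ ∈ commutator (O Q), ∃ t : F, t ≠ 0 ∧ app ρ w = t • v := by
  by_cases h : polar Q v w = 0
  swap
  · exact exists_line_nonorth hg hv hw h
  obtain ⟨v', P⟩ := exists_hyp hg.nd hv hv0
  obtain ⟨w', P'⟩ := exists_hyp hg.nd hw hw0
  obtain ⟨y, hy, h1, h2⟩ : ∃ y, Q y = 0 ∧ polar Q v y ≠ 0 ∧ polar Q y w ≠ 0 := by
    by_cases e1 : polar Q v' w = 0
    swap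
    · exact ⟨v', P.q₂, by rw [P.pair]; exact one_ne_zero, e1⟩
    by_cases e2 : polar Q v w' = 0
    swap
    · exact ⟨w', P'.q₂, e2, by rw [P'.pair']; exact one_ne_zero⟩
    refine ⟨v' + w' + (-polar Q v' w') • v, ?_, ?_, ?_⟩
    · simp only [QuadraticMap.map_add ⇑Q, QuadraticMap.map_smul, polar_add_left, polar_smul_right, P.q₂, P'.q₂,
        P.q₁, P.pair', polar_comm (f := ⇑Q) w' v, e2, smul_eq_mul]
      ring
    · rw [polar_add_right, polar_add_right, polar_smul_right, P.pair, e2, P.self₁]; simp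
    · rw [polar_add_left, polar_add_left, polar_smul_left, e1, P'.pair', h]; simp
  obtain ⟨ρ, hρ, t, ht, e⟩ := exists_line_nonorth hg hy hw h2
  obtain ⟨σ, hσ, s, hs, e'⟩ := exists_line_nonorth hg hv hy h1
  exact ⟨σ * ρ, mul_mem hσ hρ, t * s, mul_ne_zero ht hs, by rw [app_mul, e, map_smul, e', smul_smul]⟩

/-- Anisotropic vectors of the complement span it. -/
theorem mid_ext {w w' : ι → F} (P : Hyp Q w w') {M : Type*} [AddCommGroup M] [Module F M]
    {f g : (ι → F) →ₗ[F] M} (h : ∀ y ∈ mid Q w w', Q y ≠ 0 → f y = g y) {m : ι → F} (hm : m ∈ mid Q w w') :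
    f m = g m := by
  by_cases hqm : Q m = 0
  swap
  · exact h m hm hqm
  rcases eq_or_ne m 0 with rfl | hm0
  · simp
  obtain ⟨r, hr, hqr, hmr⟩ := exists_partner' (P.nondeg_mid hg.nd) hm hm0 hqm
  have e1 := h (m + r) (Submodule.add_mem _ hm hr) (by rw [QuadraticMap.map_add ⇑Q, hqm, hqr, hmr]; simp)
  have e2 := h (m - r) (Submodule.sub_mem _ hm hr) (by
    rw [sub_eq_add_neg, QuadraticMap.map_add ⇑Q, QuadraticMap.map_neg, polar_neg_right, hqm, hqr, hmr]; simp)
  rw [map_add, map_add] at e1
  rw [map_sub, map_sub] at e2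
  have e3 : (2 : F) • f m = (2 : F) • g m := by linear_combination (norm := module) e1 + e2
  exact smul_right_injective M hg.two e3

/-- A linear map fixing every singular line is scalar. -/
theorem scalar_of_lines (u : (ι → F) →ₗ[F] (ι → F))
    (h : ∀ s, Q s = 0 → s ≠ 0 → ∃ t : F, u s = t • s) : ∃ t : F, ∀ x, u x = t • x := by
  obtain ⟨w, -, hw0, hw⟩ := CfsgLib.GeomClasses.OrthTools.exists_singular hg.nd (⊤ : Submodule F (ι → F))
    (by rw [finrank_top, Module.finrank_fintype_fun_eq_card]; exact hg.three)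
  obtain ⟨w', P⟩ := exists_hyp hg.nd hw hw0
  have hw'0 : w' ≠ 0 := fun h0 => one_ne_zero (by rw [← P.pair, h0, polar_zero_right])
  obtain ⟨a, ha⟩ := h w P.q₁ hw0
  obtain ⟨b, hb⟩ := h w' P.q₂ hw'0
  have key : ∀ m ∈ mid Q w w', Q m ≠ 0 → b = a ∧ u m = a • m := by
    intro m hm hqm
    obtain ⟨h1, h2⟩ := mem_mid.1 hm
    have hs : ∀ e : F, e * e = 1 → Q (w + (-Q m) • w' + e • m) = 0 ∧ w + (-Q m) • w' + e • m ≠ 0 := by
      intro e he
      refine ⟨?_, fun h0 => ?_⟩
      · simp only [QuadraticMap.map_add ⇑Q, QuadraticMap.map_smul, polar_add_left, polar_smul_right,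
          polar_smul_left, P.q₁, P.q₂, P.pair, h1, h2, smul_eq_mul]
        linear_combination (Q m) * he
      · have := congrArg (fun v => polar Q w' v) h0
        simp [polar_add_right, polar_smul_right, P.pair', P.self₂, h2] at this
    obtain ⟨σ, hσ⟩ := h _ (hs 1 (one_mul 1)).1 (hs 1 (one_mul 1)).2
    obtain ⟨τ, hτ⟩ := h _ (hs (-1) (by ring)).1 (hs (-1) (by ring)).2
    simp only [map_add, map_smul, ha, hb] at hσ hτ
    -- compare the two lines
    have hsum : (2 * a - σ - τ) • w + (-Q m * (2 * b - σ - τ)) • w' + (-(σ - τ)) • m = 0 := by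
      linear_combination (norm := module) hσ + hτ
    have e1 := congrArg (fun v => polar Q w' v) hsum
    have e2 := congrArg (fun v => polar Q w v) hsum
    have e3 := congrArg (fun v => polar Q m v) hsum
    simp only [polar_add_right, polar_smul_right, P.pair, P.pair', P.self₁, P.self₂, h1, h2, polar_zero_right,
      polar_comm (f := ⇑Q) m w, polar_comm (f := ⇑Q) m w', polar_self', smul_eq_mul, mul_zero, mul_one,
      add_zero, zero_add] at e1 e2 e3
    have hst : σ = τ := by
      have : (σ - τ) * (2 * Q m) = 0 := by linear_combination -e3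
      exact sub_eq_zero.1 ((mul_eq_zero.1 this).resolve_right (mul_ne_zero hg.two hqm))
    have hba : 2 * b - σ - τ = 0 := (mul_eq_zero.1 e2).resolve_left (neg_ne_zero.2 hqm)
    have hσa : σ = a := by
      have : (2 : F) * (σ - a) = 0 := by linear_combination -e1 + hst
      exact sub_eq_zero.1 ((mul_eq_zero.1 this).resolve_left hg.two)
    have hb' : b = a := by
      have : (2 : F) * (b - a) = 0 := by linear_combination hba + 2 * hσa - hst
      exact sub_eq_zero.1 ((mul_eq_zero.1 this).resolve_left hg.two)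
    refine ⟨hb', ?_⟩
    rw [hb', hσa] at hσ
    linear_combination (norm := module) hσ
  obtain ⟨m, hm, hqm⟩ := exists_aniso (P.nondeg_mid hg.nd) (fun h0 => by
    have e := P.finrank_mid hg.nd
    rw [h0, finrank_bot] at e
    have := hg.three
    omega)
  have hba := (key m hm hqm).1
  refine ⟨a, fun x => ?_⟩
  have hmx : u (x - polar Q w' x • w - polar Q w x • w') = a • (x - polar Q w' x • w - polar Q w x • w') :=
    mid_ext hg P (f := u) (g := a • LinearMap.id) (fun y hy hqy => (key y hy hqy).2) (P.proj_mem x)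
  rw [map_sub, map_sub, map_smul, map_smul, ha, hb, hba] at hmx
  linear_combination (norm := module) hmx

/-- An operator commuting up to a scalar with an anisotropic root element fixes its line. -/
theorem line_of_semi {w c : ι → F} (hw : Q w = 0) (hw0 : w ≠ 0) (hc : polar Q w c = 0) (hqc : Q c ≠ 0)
    (u : (ι → F) →ₗ[F] (ι → F)) (hu : Function.Injective u) {σ : F}
    (h : ∀ z, u (app (eich Q w c) z) = σ • app (eich Q w c) (u z)) : ∃ t : F, u w = t • w := by
  obtain ⟨w', P⟩ := exists_hyp hg.nd hw hw0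
  set e := eich Q w c with he
  have hee : ∀ z, app e (app e z - z) - (app e z - z) = (-(2 * Q c) * polar Q z w) • w := by
    intro z
    have hcw : polar Q c w = 0 := by rw [polar_comm, hc]
    simp only [he, app_eich hw hc, polar_add_left, polar_smul_left, polar_sub_left, P.self₁, hcw, hc,
      polar_self' c, smul_eq_mul]
    module
  have hew : app e w = w := by
    rw [he, app_eich hw hc, P.self₁, hc]
    simp
  have hsig : σ = 1 := by
    have h1 := h w
    rw [hew] at h1
    have h2 : app e (u w) = σ⁻¹ • u w := by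
      have hσ : σ ≠ 0 := fun h0 => hw0 (hu (by rw [map_zero, h1, h0, zero_smul]))
      conv_rhs => rw [h1]
      rw [inv_smul_smul₀ hσ]
    -- the only eigenvalue of a root element is one
    set k := σ⁻¹
    have h3 := hee (u w)
    rw [h2, show k • u w - u w = (k - 1) • u w by rw [sub_smul, one_smul], map_smul, h2, smul_smul,
      ← sub_smul] at h3
    have h4 := congrArg (app e) h3
    rw [map_smul, map_smul, hew, h2, smul_smul, ← h3] at h4
    have h5 : (((k - 1) * k - (k - 1)) * k - ((k - 1) * k - (k - 1))) • u w = 0 := by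
      rw [sub_smul, h4, sub_self]
    have h6 : (k - 1) * (k - 1) * (k - 1) = 0 := by
      rcases smul_eq_zero.1 h5 with h' | h'
      · linear_combination h'
      · exact absurd (hu (by rw [h', map_zero])) hw0
    have hk : k = 1 := by
      rcases mul_eq_zero.1 h6 with h' | h'
      · exact sub_eq_zero.1 ((mul_self_eq_zero).1 h')
      · exact sub_eq_zero.1 h'
    exact inv_eq_one.1 hk
  have hcomm : ∀ z, u (app e z) = app e (u z) := fun z => by rw [h, hsig, one_smul]
  have h7 := congrArg u (hee w')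
  simp only [map_sub, hcomm] at h7
  rw [← map_sub, hee (u w'), map_smul, P.pair', mul_one] at h7
  refine ⟨(-(2 * Q c))⁻¹ * (-(2 * Q c) * polar Q (u w') w), ?_⟩
  rw [mul_smul, h7, inv_smul_smul₀ (neg_ne_zero.2 (mul_ne_zero hg.two hqc))]

end CfsgLib.TensorOddMinus
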