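import Cfsg.Agent.Lib.TensorOddMinus.Cells

/-!
An element of a proper overgroup conjugating all pair sign maps of a frame into the stabiliser lies in it.
-/

set_option autoImplicit false
set_option linter.unusedSectionVars false

namespace CfsgLib.TensorOddMinus

open Matrix QuadraticMap CfsgLib.Orth
open CfsgLib.TensorOdd (IsFrame blockSign blockSign_app)
open CfsgLib.TensorMax63 (exists_hyp exists_aniso mem_mid)
open Cfsg.Agent.Spinor57 (sqSign)

variable {ι : Type} [Fintype ι] [DecidableEq ι] {F : Type*} [Field F] [Fintype F]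

/-- Four values whose membership in every pair has even total occur in two equal pairs. -/
theorem four_values {n : ℕ} (hn : 3 ≤ n) (hodd : Odd n) {A B C E : Fin n}
    (h : ∀ i k : Fin n, i ≠ k → (((A = i ∨ A = k) ↔ (B = i ∨ B = k)) ↔ ((C = i ∨ C = k) ↔ (E = i ∨ E = k)))) :
    (A = B ∧ C = E) ∨ (A = C ∧ B = E) ∨ (A = E ∧ B = C) := by
  have third : ∀ x y : Fin n, ∃ k, k ≠ x ∧ k ≠ y := Data.exists_third hn
  by_cases hAB : A = B
  · by_cases hCE : C = E
    · exact Or.inl ⟨hAB, hCE⟩
    exfalso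
    by_cases hEA : E = A
    · obtain ⟨k, hk, hk'⟩ := third A C
      have := h C k hk'.symm
      grind
    · by_cases hCA : C = A
      · obtain ⟨k, hk, hk'⟩ := third A E
        have := h E k hk'.symm
        grind
      · have := h A C (Ne.symm hCA)
        grind
  by_cases hAC : A = C
  · refine Or.inr (Or.inl ⟨hAC, ?_⟩)
    by_contra hBE
    by_cases hEA : E = A
    · obtain ⟨k, hk, hk'⟩ := third A B
      have := h B k hk'.symm
      grind
    · have := h A B hAB
      grind
  by_cases hAE : A = E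
  · refine Or.inr (Or.inr ⟨hAE, ?_⟩)
    have := h A B hAB
    grind
  exfalso
  by_cases hCB : C = B
  · obtain ⟨k, hk, hk'⟩ := third A B
    have h1 := h A B hAB
    have h2 := h A k hk.symm
    grind
  by_cases hEC : E = C
  · have := h A C hAC
    grind
  by_cases hEB : E = B
  · have := h A B hAB
    grind
  -- four different values
  have h4 : ({A, B, C, E} : Finset (Fin n)).card = 4 := by
    have e1 : A ∉ ({B, C, E} : Finset (Fin n)) := by simp [hAB, hAC, hAE]
    have e2 : B ∉ ({C, E} : Finset (Fin n)) := by simp [Ne.symm hCB, Ne.symm hEB]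
    rw [Finset.card_insert_of_notMem e1, Finset.card_insert_of_notMem e2,
      Finset.card_pair (Ne.symm hEC)]
  obtain ⟨k, hk⟩ : ∃ k, k ∈ Finset.univ \ ({A, B, C, E} : Finset (Fin n)) := Finset.card_pos.1 (by
    rw [Finset.card_sdiff_of_subset (Finset.subset_univ _), Finset.card_univ, Fintype.card_fin, h4]
    have := Finset.card_le_univ ({A, B, C, E} : Finset (Fin n))
    rw [Fintype.card_fin, h4] at this
    obtain ⟨m, hm⟩ := hodd
    omega)
  simp only [Finset.mem_sdiff, Finset.mem_univ, true_and, Finset.mem_insert, Finset.mem_singleton, not_or] at hk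
  have := h A k (Ne.symm hk.1)
  grind

/-- A table with such rectangles depends on one index only. -/
theorem table_cases {n : ℕ} (hn : 3 ≤ n) (hodd : Odd n) {κ μ : Type*} (f : κ × μ → Fin n)
    (hsurj : Function.Surjective f)
    (h : ∀ j j' m m' (i k : Fin n), i ≠ k → (((f (j, m) = i ∨ f (j, m) = k) ↔ (f (j, m') = i ∨ f (j, m') = k)) ↔
      ((f (j', m) = i ∨ f (j', m) = k) ↔ (f (j', m') = i ∨ f (j', m') = k)))) :
    (∀ j m m', f (j, m) = f (j, m')) ∨ ∀ j j' m, f (j, m) = f (j', m) := by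
  have R := fun j j' m m' => four_values hn hodd (h j j' m m')
  by_contra hcon
  obtain ⟨h1, h2⟩ := not_or.1 hcon
  push Not at h1 h2
  obtain ⟨j, m, m', hAB⟩ := h1
  by_cases hcross : ∃ k, f (k, m) = f (j, m') ∧ f (k, m') = f (j, m)
  · obtain ⟨j', e1, e2⟩ := hcross
    have two : ∀ c, f c = f (j, m) ∨ f c = f (j, m') := by
      rintro ⟨k, l⟩
      have hX : f (j, l) = f (j, m) ∨ f (j, l) = f (j, m') := by
        rcases R j j' m l with ⟨x, y⟩ | ⟨x, y⟩ | ⟨x, y⟩
        · exact Or.inl x.symm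
        · exact absurd (x.trans e1) hAB
        · exact Or.inr (y.trans e1)
      have hZ : f (k, m) = f (j, m) ∨ f (k, m) = f (j, m') := by
        rcases R j k m m' with ⟨x, y⟩ | ⟨x, y⟩ | ⟨x, y⟩
        · exact absurd x hAB
        · exact Or.inl x.symm
        · exact Or.inr y.symm
      rcases R j k m l with ⟨x, y⟩ | ⟨x, y⟩ | ⟨x, y⟩
      · rw [← y]; exact hZ
      · rw [← y]; exact hX
      · exact Or.inl x.symm
    obtain ⟨k, hk, hk'⟩ := Data.exists_third hn (f (j, m)) (f (j, m'))
    obtain ⟨c, rfl⟩ := hsurj k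
    exact (two c).elim hk hk'
  · push Not at hcross
    have hm : ∀ k, f (k, m) = f (j, m) := by
      intro k
      rcases R j k m m' with ⟨x, y⟩ | ⟨x, y⟩ | ⟨x, y⟩
      · exact absurd x hAB
      · exact x.symm
      · exact absurd x.symm (hcross k y.symm)
    obtain ⟨j₁, j₂, l, hl⟩ := h2
    have key : ∀ k, f (k, l) = f (j, l) := by
      intro k
      rcases R j k m l with ⟨x, y⟩ | ⟨x, y⟩ | ⟨x, y⟩
      · rw [← y, hm k, x]
      · exact y.symm
      · rw [← x, ← hm k, y]
    exact hl ((key j₁).trans (key j₂).symm)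

namespace Data

variable {q : QuadraticForm F (ι → F)} {a b : ℕ} {D : Data q a b} {M : Subgroup (O q)}

/-- A map on pure tensors given by two linear maps lies in the stabiliser. -/
theorem mem_TT_of_pure (ha : Odd a) {g : O q} {A : (Fin a → F) →ₗ[F] (Fin a → F)}
    {G : (Fin b → F) →ₗ[F] (Fin b → F)} (hG : Function.Injective G) {ν₀ : F} (hν : ν₀ ≠ 0)
    (hGq : ∀ y, D.q2 (G y) = ν₀ * D.q2 y) (h : ∀ x y, app g (D.tp x y) = D.tp (A x) (G y)) : g ∈ D.TT := by
  classical
  obtain ⟨y₀, hy₀⟩ := exists_anisotropic D.good2.nd (le_trans (by norm_num) D.good2.three)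
  have hA : ∀ x x', polar D.q1 (A x) (A x') = ν₀⁻¹ * polar D.q1 x x' := fun x x' => by
    have e := polar_app g (D.tp x y₀) (D.tp x' y₀)
    rw [h, h, D.polar_tp, D.polar_tp, polar_self', polar_self', hGq] at e
    field_simp
    exact mul_right_cancel₀ (mul_ne_zero D.two hy₀) (by linear_combination e)
  obtain ⟨ν, A', hν0, hνν, hA'⟩ :=
    CfsgLib.TensorMax63.similitude D.good1.nd D.two ha (inv_ne_zero hν) A hA
  have hq : ∀ y, D.q2 ((ν • G) y) = D.q2 y := fun y => by
    rw [LinearMap.smul_apply, QuadraticMap.map_smul, hGq, smul_eq_mul, hνν, inv_mul_cancel_left₀ hν]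
  have hinj : Function.Injective (ν • G) := fun y y' e => hG (smul_right_injective _ hν0 e)
  refine D.mem_TT.2 ⟨A', CfsgLib.OrthOmega.ofEquiv (LinearEquiv.ofInjectiveEndo (ν • G) hinj) fun y => hq y,
    D.ext_tp_O fun x y => ?_⟩
  rw [h, D.ten_tp, hA', D.tp_smul_left, ← D.tp_smul_right]
  congr 1
  exact (CfsgLib.OrthOmega.app_ofEquiv (Q := D.q2) (LinearEquiv.ofInjectiveEndo (ν • G) hinj) (fun y => hq y) y).symm

/-- The slices of one frame sent to those of another. -/
theorem Over.slices_mem (hO : D.Over M) (hR : RootGen D.q2) (ha : Odd a) (Φ Φ' : D.Frames) {g : O q} (hg : g ∈ M)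
    (σ : Fin a ≃ Fin a)
    (h : ∀ c c' : Fin a × Fin b, c'.1 ≠ σ c.1 → polar q (app g (Φ.e c.1 c.2)) (Φ'.e c'.1 c'.2) = 0) :
    g ∈ D.TT := by
  classical
  choose G hGi hG hGq using fun i => exists_slice Φ Φ' g i (σ i) fun l c' hc' => h (i, l) c' hc'
  have hGs : ∀ i, Function.Surjective (G i) := fun i => LinearMap.injective_iff_surjective.1 (hGi i)
  have hconj : ∀ e ∈ _root_.commutator (O D.q2), ∃ (B' : O D.q2) (t : Fin a → F), (∀ i, t i ≠ 0) ∧
      ∀ i y, G i (app e y) = t i • app B' (G i y) := by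
    intro e he
    set x := g * D.R e * g⁻¹ with hx
    have hxM : x ∈ M := M.mul_mem (M.mul_mem hg (hO.le_R he)) (M.inv_mem hg)
    have hx1 : ∀ i y, app x (D.tp (Φ'.u (σ i)) (G i y)) = D.tp (Φ'.u (σ i)) (G i (app e y)) := fun i y => by
      rw [← hG, hx, app_mul, app_mul, app_inv_app, D.R_tp, hG]
    have hβ : ∀ j, ∃ β : O D.q2, ∀ y, app x (D.tp (Φ'.u j) y) = D.tp (Φ'.u j) (app β y) := by
      intro j
      obtain ⟨i, rfl⟩ := σ.surjective j
      obtain ⟨K, hK, hK', hKq⟩ := exists_slice Φ' Φ' x (σ i) (σ i) fun l c' hc' => by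
        obtain ⟨y, hy⟩ := hGs i (Φ'.v l)
        show polar q (app x (D.tp (Φ'.u (σ i)) (Φ'.v l))) (D.tp _ _) = 0
        rw [← hy, hx1, D.polar_tp, Φ'.hu.orth (σ i) c'.1 (Ne.symm hc'), zero_mul]
      refine ⟨CfsgLib.OrthOmega.ofEquiv (LinearEquiv.ofInjectiveEndo K hK) fun y =>
        mul_left_cancel₀ (Φ'.hu.nz (σ i)) (hKq y), fun y => ?_⟩
      rw [hK']
      congr 1
      exact (CfsgLib.OrthOmega.app_ofEquiv (Q := D.q2) (LinearEquiv.ofInjectiveEndo K hK)
        (fun y => mul_left_cancel₀ (Φ'.hu.nz (σ i)) (hKq y)) y).symm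
    choose β hβ using hβ
    obtain ⟨A', B', hAB⟩ := D.mem_TT.1 (hO.rows_mem hR Φ'.hu hxM hβ)
    obtain ⟨y₀, hy₀⟩ := exists_anisotropic D.good2.nd (le_trans (by norm_num) D.good2.three)
    have hy0 : y₀ ≠ 0 := fun h0 => hy₀ (by rw [h0, QuadraticMap.map_zero])
    have key : ∀ i, ∃ t : F, t ≠ 0 ∧ app A' (Φ'.u (σ i)) = t • Φ'.u (σ i) := by
      intro i
      have e1 := hx1 i y₀
      rw [hAB, D.ten_tp] at e1
      obtain ⟨t, ht, e2, -⟩ := D.tp_eq (Φ'.hu.li.ne_zero (σ i))
        (fun h0 => hy0 (app_injective e (hGi i (by rw [h0, map_zero, map_zero])))) e1.symm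
      exact ⟨t, ht, e2⟩
    choose t ht htu using key
    refine ⟨B', t, ht, fun i y => ?_⟩
    have e1 := hx1 i y
    rw [hAB, D.ten_tp, htu, D.tp_smul_left, ← D.tp_smul_right] at e1
    exact (D.tp_right_cancel (Φ'.hu.li.ne_zero (σ i)) e1).symm
  have i₀ : Fin a := ⟨0, lt_of_lt_of_le (by norm_num) D.three_a⟩
  let E := LinearEquiv.ofInjectiveEndo (G i₀) (hGi i₀)
  have hE : ∀ y, E y = G i₀ y := fun y => rfl
  have hprop : ∀ i, ∃ c : F, ∀ y, G i y = c • G i₀ y := by
    intro i
    obtain ⟨c, hc⟩ := scalar_of_lines D.good2 (E.symm.toLinearMap.comp (G i)) fun w hw hw0 => by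
      obtain ⟨w', P⟩ := exists_hyp D.good2.nd hw hw0
      obtain ⟨c, hc, hqc⟩ := exists_aniso (P.nondeg_mid D.good2.nd) (fun hb => by
        have e := P.finrank_mid D.good2.nd
        rw [hb, finrank_bot] at e
        have := D.good2.three
        omega)
      obtain ⟨hwc, -⟩ := mem_mid.1 hc
      obtain ⟨B', t, ht, hB⟩ := hconj _ (eich_mem D.good2 hw hwc)
      refine line_of_semi D.good2 hw hw0 hwc hqc _ (E.symm.injective.comp (hGi i)) (σ := t i * (t i₀)⁻¹)
        fun z => E.injective ?_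
      simp only [LinearMap.comp_apply, LinearEquiv.coe_coe, LinearEquiv.apply_symm_apply, map_smul]
      rw [hB i, hE (app (eich D.q2 w c) _), hB i₀, ← hE, LinearEquiv.apply_symm_apply, smul_smul,
        inv_mul_cancel_right₀ (ht i₀)]
    refine ⟨c, fun y => ?_⟩
    have e := congrArg E (hc y)
    rwa [LinearMap.comp_apply, LinearEquiv.coe_coe, LinearEquiv.apply_symm_apply, map_smul, hE] at e
  choose c hc using hprop
  refine mem_TT_of_pure ha (A := Φ.hu.basis.constr F fun i => c i • Φ'.u (σ i)) (hGi i₀)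
    (ν₀ := D.q1 (Φ.u i₀) / D.q1 (Φ'.u (σ i₀))) (div_ne_zero (Φ.hu.nz _) (Φ'.hu.nz _)) (fun y => ?_) ?_
  · rw [div_mul_eq_mul_div, eq_div_iff (Φ'.hu.nz _), mul_comm, hGq]
  intro x y
  have e : (app g).comp (D.tpL y) = (D.tpL (G i₀ y)).comp (Φ.hu.basis.constr F fun i => c i • Φ'.u (σ i)) :=
    Φ.hu.ext_lin fun i => by
      rw [LinearMap.comp_apply, LinearMap.comp_apply]
      conv_rhs => rw [← Φ.hu.basis_apply i, Module.Basis.constr_basis]
      show app g (D.tp (Φ.u i) y) = D.tp (c i • Φ'.u (σ i)) (G i₀ y)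
      rw [hG, hc, D.tp_smul_left, D.tp_smul_right]
  exact LinearMap.congr_fun e x

set_option maxHeartbeats 1000000 in
/-- Conjugates of all pair sign maps in the stabiliser force membership. -/
theorem Over.transfer (hO : D.Over M) (hR : RootGen D.q2) (ha : Odd a) (hb : Even b) (hb4 : 4 ≤ b)
    (Φ : D.Frames) {g : O q} (hg : g ∈ M)
    (h : ∀ S T, Φ.Gen S T → g * Φ.sgn S T * g⁻¹ ∈ D.TT) : g ∈ D.TT := by
  classical
  let G : Set (O q) := {x | ∃ S T, Φ.Gen S T ∧ x = g * Φ.sgn S T * g⁻¹}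
  have hdiag : ∀ x ∈ Subgroup.closure G, ∀ c : Fin a × Fin b,
      app (g⁻¹ * x * g) (Φ.e c.1 c.2) = Φ.e c.1 c.2 ∨ app (g⁻¹ * x * g) (Φ.e c.1 c.2) = -Φ.e c.1 c.2 := by
    intro x hx
    induction hx using Subgroup.closure_induction with
    | mem x hx =>
      obtain ⟨S, T, -, rfl⟩ := hx
      intro c
      rw [show g⁻¹ * (g * Φ.sgn S T * g⁻¹) * g = Φ.sgn S T by group, Φ.sgn_app]
      split_ifs
      · exact Or.inr rfl
      · exact Or.inl rfl
    | one => exact fun c => Or.inl (by rw [mul_one, inv_mul_cancel, app_one])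
    | mul x y _ _ hx hy =>
      intro c
      rw [show g⁻¹ * (x * y) * g = (g⁻¹ * x * g) * (g⁻¹ * y * g) by group, app_mul]
      rcases hy c with e | e <;> rw [e]
      · exact hx c
      · rw [map_neg]
        rcases hx c with e' | e' <;> rw [e']
        · exact Or.inr rfl
        · exact Or.inl (neg_neg _)
    | inv x _ hx =>
      intro c
      rw [show g⁻¹ * x⁻¹ * g = (g⁻¹ * x * g)⁻¹ by group]
      rcases hx c with e | e
      · exact Or.inl (app_injective (g⁻¹ * x * g) (by rw [app_app_inv, e]))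
      · exact Or.inr (app_injective (g⁻¹ * x * g) (by rw [app_app_inv, map_neg, e, neg_neg]))
  have hVT : Subgroup.closure G ≤ D.TT := (Subgroup.closure_le _).2 fun x ⟨S, T, hST, e⟩ => e ▸ h S T hST
  have hVΩ : Subgroup.closure G ≤ _root_.commutator (O q) :=
    (Subgroup.closure_le _).2 fun x ⟨S, T, hST, e⟩ =>
      e ▸ hO.omega (M.mul_mem (M.mul_mem hg (Φ.gen_mem hb hO hST)) (M.inv_mem hg))
  have h2 : ∀ x ∈ Subgroup.closure G, x * x = 1 := fun x hx => by
    have e : g⁻¹ * x * g * (g⁻¹ * x * g) = 1 := Φ.isFrame.ext_O fun c => by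
      rw [app_mul, app_one]
      rcases hdiag x hx c with e | e
      · exact (congrArg (app (g⁻¹ * x * g)) e).trans e
      · exact (congrArg (app (g⁻¹ * x * g)) e).trans (by rw [map_neg]; exact neg_eq_iff_eq_neg.2 e)
    calc x * x = g * (g⁻¹ * x * g * (g⁻¹ * x * g)) * g⁻¹ := by group
      _ = 1 := by rw [e, mul_one, mul_inv_cancel]
  obtain ⟨Φ', hΦ'⟩ := exists_frames ha hb hb4 hVT hVΩ h2
  have himg : ∀ {S T}, Φ.Gen S T → ∃ S' T', Even S'.card ∧ g * Φ.sgn S T = Φ'.sgn S' T' * g := fun {S T} hST => by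
    obtain ⟨S', T', hS', e⟩ := hΦ' _ (Subgroup.subset_closure ⟨S, T, hST, rfl⟩)
    exact ⟨S', T', hS', mul_inv_eq_iff_eq_mul.1 e⟩
  -- the cell behind a cell of the image
  have hex : ∀ c' : Fin a × Fin b, ∃ c : Fin a × Fin b, polar q (app g (Φ.e c.1 c.2)) (Φ'.e c'.1 c'.2) ≠ 0 := by
    intro c'
    by_contra hc
    push Not at hc
    have e : app g⁻¹ (Φ'.e c'.1 c'.2) = 0 := Φ.isFrame.ext_vec fun c => by
      rw [polar_zero_left, ← polar_app g, app_app_inv, polar_comm]
      exact hc c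
    exact Φ'.isFrame.li.ne_zero c' (app_injective g⁻¹ (by rw [map_zero]; exact e))
  choose π hπ using hex
  have hflag : ∀ {c c' : Fin a × Fin b}, polar q (app g (Φ.e c.1 c.2)) (Φ'.e c'.1 c'.2) ≠ 0 →
      ∀ {S T S' T'}, g * Φ.sgn S T = Φ'.sgn S' T' * g → (c ∈ supp S T ↔ c' ∈ supp S' T') :=
    fun hk _ _ _ _ e => Φ.flag_of_comm Φ' e hk
  have huniq : ∀ c c', polar q (app g (Φ.e c.1 c.2)) (Φ'.e c'.1 c'.2) ≠ 0 → c = π c' := fun c c' hk =>
    Φ.sep hb4 fun S T hST => by
      obtain ⟨S', T', -, e⟩ := himg hST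
      exact (hflag hk e).trans (hflag (hπ c') e).symm
  have hsurj : Function.Surjective π := fun c => by
    by_contra hc
    push Not at hc
    have e : app g (Φ.e c.1 c.2) = 0 := Φ'.isFrame.ext_vec fun c' => by
      rw [polar_zero_left]
      by_contra hk
      exact hc c' (huniq c c' hk).symm
    exact Φ.isFrame.li.ne_zero c (app_injective g (by rw [map_zero]; exact e))
  have hinj : Function.Injective π := Finite.injective_iff_surjective.2 hsurj
  have hrect : ∀ j j' m m' (i k : Fin a), i ≠ k →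
      ((((π (j, m)).1 = i ∨ (π (j, m)).1 = k) ↔ ((π (j, m')).1 = i ∨ (π (j, m')).1 = k)) ↔
        (((π (j', m)).1 = i ∨ (π (j', m)).1 = k) ↔ ((π (j', m')).1 = i ∨ (π (j', m')).1 = k))) := by
    intro j j' m m' i k hik
    obtain ⟨S', T', -, e⟩ := himg (S := {i, k}) (T := ∅) (Or.inl ⟨i, k, hik, rfl, rfl⟩)
    have hm : ∀ c', ((π c').1 = i ∨ (π c').1 = k) ↔ c' ∈ supp S' T' := fun c' => by
      rw [← hflag (hπ c') e, mem_supp_left, Finset.mem_insert, Finset.mem_singleton]
    simp only [hm, mem_supp]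
    tauto
  have hsurj1 : Function.Surjective fun c' => (π c').1 := fun i => by
    have hb0 : 0 < b := by omega
    obtain ⟨c', hc'⟩ := hsurj (i, ⟨0, hb0⟩)
    exact ⟨c', by simp [hc']⟩
  rcases table_cases D.three_a ha (fun c' => (π c').1) hsurj1 hrect with hrow | hcol
  · -- rows to rows
    have m₀ : Fin b := ⟨0, by omega⟩
    have hbij : Function.Bijective fun j => (π (j, m₀)).1 := Finite.surjective_iff_bijective.1 fun i => by
      obtain ⟨⟨j, m⟩, hc'⟩ := hsurj1 i
      exact ⟨j, (hrow j m₀ m).trans hc'⟩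
    refine hO.slices_mem hR ha Φ Φ' hg (Equiv.ofBijective _ hbij).symm fun c c' hne => ?_
    by_contra hk
    refine hne ((Equiv.eq_symm_apply _).2 ?_)
    show (π (c'.1, m₀)).1 = c.1
    rw [hrow c'.1 m₀ c'.2, ← huniq c c' hk]
  -- rows to columns is impossible
  exfalso
  have j₀ : Fin a := ⟨0, lt_of_lt_of_le (by norm_num) D.three_a⟩
  have hfib : ∀ i, a * (Finset.univ.filter fun m => (π (j₀, m)).1 = i).card = b := fun i => by
    have e : (Finset.univ ×ˢ (Finset.univ.filter fun m => (π (j₀, m)).1 = i)).card =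
        (({i} : Finset (Fin a)) ×ˢ (Finset.univ : Finset (Fin b))).card :=
      Finset.card_bij (fun c' _ => π c') (fun c' hc' => by
          simp only [Finset.mem_product, Finset.mem_filter, Finset.mem_univ, true_and] at hc'
          simp only [Finset.mem_product, Finset.mem_singleton, Finset.mem_univ, and_true]
          rw [← hc', hcol j₀ c'.1 c'.2])
        (fun c₁ _ c₂ _ e => hinj e) (fun c hc => by
          obtain ⟨c', rfl⟩ := hsurj c
          simp only [Finset.mem_product, Finset.mem_singleton, Finset.mem_univ, and_true] at hc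
          exact ⟨c', by simp [hcol j₀ c'.1 c'.2, hc], rfl⟩)
    rwa [Finset.card_product, Finset.card_product, Finset.card_univ, Finset.card_univ, Fintype.card_fin,
      Fintype.card_fin, Finset.card_singleton, one_mul] at e
  have hpair : ∀ l n, l ≠ n → sqSign (D.q2 (Φ.v l)) = sqSign (D.q2 (Φ.v n)) →
      ∃ p₀ : Fin a, ∀ c' : Fin a × Fin b, ((π c').2 = l ∨ (π c').2 = n) ↔ c'.1 = p₀ := by
    intro l n hln hc
    obtain ⟨S', T', hS', e⟩ := himg (S := ∅) (T := {l, n}) (Or.inr ⟨l, n, hln, hc, rfl, rfl⟩)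
    have hm : ∀ c', ((π c').2 = l ∨ (π c').2 = n) ↔ c' ∈ supp S' T' := fun c' => by
      rw [← hflag (hπ c') e, mem_supp_right, Finset.mem_insert, Finset.mem_singleton]
    have hall : ∀ i, ∀ m, (π (j₀, m)).1 = i → m ∈ T' ∧ a = S'.card + 1 := by
      intro i
      set K := Finset.univ.filter fun m => (π (j₀, m)).1 = i with hK
      have hsplit : (S'ᶜ ×ˢ (K ∩ T') ∪ S' ×ˢ (K \ T')) =
          (Finset.univ ×ˢ K).filter fun c' => (π c').2 = l ∨ (π c').2 = n := by
        ext c'
        simp only [Finset.mem_union, Finset.mem_product, Finset.mem_compl, Finset.mem_inter, Finset.mem_sdiff,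
          Finset.mem_filter, Finset.mem_univ, true_and, hm, mem_supp]
        tauto
      have hcard : ((Finset.univ ×ˢ K).filter fun c' => (π c').2 = l ∨ (π c').2 = n).card = 2 := by
        rw [show 2 = (({i} : Finset (Fin a)) ×ˢ ({l, n} : Finset (Fin b))).card by
          rw [Finset.card_product, Finset.card_singleton, Finset.card_pair hln]]
        refine Finset.card_bij (fun c' _ => π c') (fun c' hc' => ?_) (fun c₁ _ c₂ _ e => hinj e) (fun c hc => ?_)
        · simp only [Finset.mem_filter, Finset.mem_product, Finset.mem_univ, true_and, hK] at hc'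
          simp only [Finset.mem_product, Finset.mem_singleton, Finset.mem_insert]
          exact ⟨by rw [← hc'.1, hcol j₀ c'.1 c'.2], hc'.2⟩
        · obtain ⟨c', rfl⟩ := hsurj c
          simp only [Finset.mem_product, Finset.mem_singleton, Finset.mem_insert] at hc
          exact ⟨c', by simp [hK, hcol j₀ c'.1 c'.2, hc.1, hc.2], rfl⟩
      have hd : Disjoint (S'ᶜ ×ˢ (K ∩ T')) (S' ×ˢ (K \ T')) := by
        rw [Finset.disjoint_left]
        intro c' h1 h2
        exact (Finset.mem_sdiff.1 (Finset.mem_product.1 h2).2).2 (Finset.mem_inter.1 (Finset.mem_product.1 h1).2).2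
      rw [← hsplit, Finset.card_union_of_disjoint hd, Finset.card_product, Finset.card_product, Finset.card_compl,
        Fintype.card_fin] at hcard
      have hk := hfib i
      have hkt := Finset.card_inter_add_card_sdiff K T'
      have hp := Finset.card_le_univ S'
      rw [Fintype.card_fin] at hp
      have ha3 := D.three_a
      obtain ⟨x, hx⟩ : Even K.card :=
        (Nat.even_mul.1 (by rw [hk]; exact hb)).resolve_left (Nat.not_even_iff_odd.2 ha)
      obtain ⟨s, hs⟩ := hS'
      have hk0 : 1 ≤ K.card := Nat.one_le_iff_ne_zero.2 fun h0 => by rw [h0, mul_zero] at hk; omega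
      have hu0 : (K \ T').card = 0 ∧ a = S'.card + 1 := by
        by_cases hu : (K \ T').card = 0
        · refine ⟨hu, ?_⟩
          rw [hu, mul_zero, add_zero] at hcard
          have h2 : 2 ≤ (K ∩ T').card := by omega
          have h1 : a - S'.card ≤ 1 := by
            by_contra hh
            have := Nat.mul_le_mul (show 2 ≤ a - S'.card by omega) h2
            omega
          have h3 : a - S'.card ≠ 0 := fun h0 => by rw [h0, zero_mul] at hcard; omega
          omega
        · exfalso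
          by_cases hs0 : s = 0
          · rw [hs, hs0, add_zero, zero_mul, add_zero, Nat.sub_zero] at hcard
            have := Nat.le_of_dvd (by norm_num) (Dvd.intro _ hcard : a ∣ 2)
            omega
          · have h1 := Nat.mul_le_mul (show 2 ≤ S'.card by omega) (show 1 ≤ (K \ T').card by omega)
            have h2 : (K ∩ T').card ≠ 0 := fun h0 => by
              rw [h0, mul_zero, zero_add] at hcard
              have := Nat.mul_le_mul (show 2 ≤ S'.card by omega) (show 2 ≤ (K \ T').card by omega)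
              omega
            have h3 : a - S'.card = 0 := by
              rcases Nat.eq_zero_or_pos (a - S'.card) with h | h
              · exact h
              · have := Nat.mul_le_mul (show 1 ≤ a - S'.card by omega) (show 1 ≤ (K ∩ T').card by omega)
                omega
            have : S'.card = a := by omega
            obtain ⟨r, hr⟩ := ha
            omega
      intro m hm
      refine ⟨by_contra fun hmT => ?_, hu0.2⟩
      have : m ∈ K \ T' := Finset.mem_sdiff.2 ⟨by simp [hK, hm], hmT⟩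
      rw [Finset.card_eq_zero.1 hu0.1] at this
      exact Finset.notMem_empty m this
    obtain ⟨-, haS⟩ := hall _ l rfl
    obtain ⟨p₀, hp₀⟩ := Finset.card_eq_one.1 (show S'ᶜ.card = 1 by
      rw [Finset.card_compl, Fintype.card_fin]; omega)
    refine ⟨p₀, fun c' => ?_⟩
    rw [hm, mem_supp, ← Finset.mem_singleton, ← hp₀, Finset.mem_compl]
    simp only [(hall _ c'.2 rfl).1, iff_true]
  obtain ⟨l, n, hln, hc⟩ : ∃ l n, l ≠ n ∧ sqSign (D.q2 (Φ.v l)) = sqSign (D.q2 (Φ.v n)) := by
    obtain ⟨p, n, hpn, hc, -⟩ := Φ.exists_sep hb4 (l := ⟨0, by omega⟩) (m := ⟨1, by omega⟩) (by simp)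
    exact ⟨p, n, hpn, hc⟩
  obtain ⟨n', hn'l, hn'n, hn'⟩ := Φ.notwo l n hln hc
  obtain ⟨p₀, h0⟩ := hpair l n hln hc
  obtain ⟨p₁, h1⟩ := hpair l n' hn'l.symm hn'.symm
  obtain ⟨c₁, hc₁⟩ := hsurj (j₀, l)
  obtain ⟨c₂, hc₂⟩ := hsurj (j₀, n)
  have e0 := (h0 c₁).1 (Or.inl (by rw [hc₁]))
  have e1 := (h1 c₁).1 (Or.inl (by rw [hc₁]))
  have e2 := (h0 c₂).1 (Or.inr (by rw [hc₂]))
  rcases (h1 c₂).2 (e2.trans (e0.symm.trans e1)) with e | e
  · exact hln (by rw [hc₂] at e; exact e.symm)
  · exact hn'n (by rw [hc₂] at e; exact e.symm)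

end Data

end CfsgLib.TensorOddMinus
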